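import Cfsg.Agent.Lib.Amalgam33.Centre

/-!
Doubling a subgroup, the subgroup generated by the centres of the neighbours, cardinalities.
-/

set_option autoImplicit false
set_option linter.style.haveILetI false

namespace CfsgLib.A33

open Subgroup

variable {G : Type*} [Group G]

/-- `T ∪ T y` for an element normalising `T` with square in `T` -/
def adjoin (T : Subgroup G) (y : G) (h1 : ∀ t ∈ T, y * t * y⁻¹ ∈ T) (h2 : y * y ∈ T) : Subgroup G where
  carrier := {g | g ∈ T ∨ g * y ∈ T}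
  one_mem' := Or.inl T.one_mem
  mul_mem' := fun {a b} ha hb => by
    have h1' : ∀ t ∈ T, y⁻¹ * t * y ∈ T := fun t ht => by
      have := mul_mem (mul_mem (inv_mem h2) (h1 t ht)) h2
      rwa [show (y * y)⁻¹ * (y * t * y⁻¹) * (y * y) = y⁻¹ * t * y by group] at this
    rcases ha with ha | ha <;> rcases hb with hb | hb
    · exact Or.inl (mul_mem ha hb)
    · exact Or.inr (by rw [mul_assoc]; exact mul_mem ha hb)
    · refine Or.inr ?_
      have := mul_mem ha (h1' b hb)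
      rwa [show a * y * (y⁻¹ * b * y) = a * b * y by group] at this
    · refine Or.inl ?_
      have := mul_mem (mul_mem ha (h1' _ hb)) (inv_mem h2)
      rwa [show a * y * (y⁻¹ * (b * y) * y) * (y * y)⁻¹ = a * b by group] at this
  inv_mem' := fun {a} ha => by
    rcases ha with ha | ha
    · exact Or.inl (inv_mem ha)
    · refine Or.inr ?_
      have := mul_mem (h1 _ (inv_mem ha)) h2
      rwa [show y * (a * y)⁻¹ * y⁻¹ * (y * y) = a⁻¹ * y by group] at this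

section
variable {T : Subgroup G} {y : G} {h1 : ∀ t ∈ T, y * t * y⁻¹ ∈ T} {h2 : y * y ∈ T}

theorem mem_adjoin {g : G} : g ∈ adjoin T y h1 h2 ↔ g ∈ T ∨ g * y ∈ T := Iff.rfl

theorem le_adjoin : T ≤ adjoin T y h1 h2 := fun _ h => Or.inl h

theorem self_mem_adjoin : y ∈ adjoin T y h1 h2 := Or.inr h2

theorem adjoin_le {K : Subgroup G} (hT : T ≤ K) (hy : y ∈ K) : adjoin T y h1 h2 ≤ K := by
  rintro g (h | h)
  · exact hT h
  · have := mul_mem (hT h) (inv_mem hy)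
    rwa [mul_inv_cancel_right] at this

theorem card_adjoin [Finite ↥T] : Finite ↥(adjoin T y h1 h2) ∧
    Nat.card ↥(adjoin T y h1 h2) ≤ 2 * Nat.card ↥T := by
  refine card_le_two_mul _ _ fun a ha b hb haT hbT => ?_
  have ha' : a * y ∈ T := ha.resolve_left haT
  have hb' : b * y ∈ T := hb.resolve_left hbT
  have := h1 _ (mul_mem (inv_mem ha') hb')
  rwa [show y * ((a * y)⁻¹ * (b * y)) * y⁻¹ = a⁻¹ * b by group] at this

end

theorem exists_invol {P : Subgroup G} (hP : Two P) {n : G} (hn : n ∈ P) (hne : n ≠ 1) :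
    ∃ m : ℕ, n ^ m ≠ 1 ∧ n ^ m * n ^ m = 1 := by
  classical
  have hex : ∃ k : ℕ, n ^ (2 ^ k) = 1 := hP n hn
  have hk := Nat.find_spec hex
  rcases Nat.eq_zero_or_pos (Nat.find hex) with h | h
  · rw [h, pow_zero, pow_one] at hk
    exact absurd hk hne
  · refine ⟨2 ^ (Nat.find hex - 1), Nat.find_min hex (Nat.sub_lt h one_pos), ?_⟩
    rw [← pow_add, ← two_mul, ← pow_succ', Nat.sub_add_cancel h]
    exact hk

/-- `|H| |K ∩ U| ≤ |K| |U|` when `H ⊆ K U` -/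
theorem card_mul_le (H K U : Subgroup G) [Finite ↥K] [Finite ↥U]
    (h : ∀ q ∈ H, ∃ k ∈ K, k⁻¹ * q ∈ U) :
    Nat.card ↥H * Nat.card ↥(K ⊓ U) ≤ Nat.card ↥K * Nat.card ↥U := by
  choose k hk hu using h
  rw [← Nat.card_prod, ← Nat.card_prod]
  refine Nat.card_le_card_of_injective (fun p : ↥H × ↥(K ⊓ U) =>
    ((⟨k p.1 p.1.2 * p.2, mul_mem (hk _ _) p.2.2.1⟩ : ↥K),
     (⟨(p.2 : G)⁻¹ * ((k p.1 p.1.2)⁻¹ * p.1), mul_mem (inv_mem p.2.2.2) (hu _ _)⟩ : ↥U))) ?_
  rintro ⟨q, c⟩ ⟨q', c'⟩ e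
  simp only [Prod.mk.injEq, Subtype.mk.injEq] at e
  obtain ⟨e1, e2⟩ := e
  have hq : (q : G) = q' := by
    calc (q : G) = (k q q.2 * c) * ((c : G)⁻¹ * ((k q q.2)⁻¹ * q)) := by group
      _ = (k q' q'.2 * c') * ((c' : G)⁻¹ * ((k q' q'.2)⁻¹ * q')) := by rw [e1, e2]
      _ = q' := by group
  obtain rfl : q = q' := Subtype.ext hq
  exact Prod.ext rfl (Subtype.ext (mul_left_cancel e1))

namespace Geo

variable {V : Type*} [MulAction G V] (A : Geo G V)

/-- the subgroup generated by the centres of the neighbours -/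
def W (x : V) : Subgroup G := closure {z | ∃ ν, A.Adj x ν ∧ z ∈ A.Z ν}

theorem Z_le_W {x ν : V} (h : A.Adj x ν) : A.Z ν ≤ A.W x := fun _ hz => subset_closure ⟨ν, h, hz⟩

theorem W_le {x : V} {K : Subgroup G} (h : ∀ ν, A.Adj x ν → A.Z ν ≤ K) : A.W x ≤ K := by
  rw [W, closure_le]
  rintro z ⟨ν, hν, hz⟩
  exact h ν hν hz

theorem W_conj_mem {g : G} {x : V} {h : G} (hh : h ∈ A.W x) : g * h * g⁻¹ ∈ A.W (g • x) := by
  have hle : A.W x ≤ (A.W (g • x)).comap (MulAut.conj g).toMonoidHom := A.W_le fun ν hν z hz => by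
    rw [mem_comap]
    exact A.Z_le_W (A.adj_smul g hν) (A.Z_conj hz)
  exact hle hh

theorem W_conj {g : G} {x : V} (hg : g • x = x) {h : G} (hh : h ∈ A.W x) : g * h * g⁻¹ ∈ A.W x := by
  have := A.W_conj_mem (g := g) hh
  rwa [hg] at this

theorem W_smul_iff (g : G) (x : V) (h : G) : h ∈ A.W (g • x) ↔ g⁻¹ * h * g ∈ A.W x := by
  constructor
  · intro hh
    have := A.W_conj_mem (g := g⁻¹) hh
    rwa [inv_smul_smul, inv_inv] at this
  · intro hh
    have := A.W_conj_mem (g := g) hh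
    simpa [mul_assoc] using this

theorem W_fix_self {x : V} {h : G} (hh : h ∈ A.W x) : h • x = x :=
  A.W_le (K := MulAction.stabilizer G x) (fun _ hν _ hz => A.fix (A.symm hν) hz.1) hh

theorem finW (x : V) : Finite ↥(A.W x) := A.fin_of_fix x fun _ h => A.W_fix_self h

theorem W_two (x : V) (hx : ∀ ν, A.Adj x ν → A.Z ν ≤ A.Q x) : Two (A.W x) :=
  (A.Q_two x).mono (A.W_le hx)

theorem card_Z_ge {α β β' : V} (h : A.Adj α β) (h' : A.Adj α β') (hne : β ≠ β') (hα : A.isA α) :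
    Nat.card ↥(A.O β) * Nat.card ↥(A.O β') ≤ Nat.card ↥(A.Z α) := by
  haveI := A.finZ α
  rw [← Nat.card_prod]
  refine Nat.card_le_card_of_injective (fun p : ↥(A.O β) × ↥(A.O β') =>
    (⟨p.1 * p.2, mul_mem (A.O_le_Z h hα p.1.2) (A.O_le_Z h' hα p.2.2)⟩ : ↥(A.Z α))) ?_
  rintro ⟨a, c⟩ ⟨a', c'⟩ e
  have e' : (a : G) * c = a' * c' := congrArg Subtype.val e
  have e2 : (a' : G)⁻¹ * a = c' * (c : G)⁻¹ := by
    rw [eq_mul_inv_iff_mul_eq, mul_assoc, e', inv_mul_cancel_left]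
  have h1 : (a' : G)⁻¹ * a = 1 := A.disjoint_O h hα h' hne (mul_mem (inv_mem a'.2) a.2)
    (e2 ▸ mul_mem c'.2 (inv_mem c.2))
  have ha : (a' : G) = a := inv_mul_eq_one.mp h1
  rw [h1, eq_comm, mul_inv_eq_one] at e2
  exact Prod.ext (Subtype.ext ha.symm) (Subtype.ext e2.symm)

theorem one_lt_card_O {β : V} (hβ : ¬ A.isA β) : 2 ≤ Nat.card ↥(A.O β) := by
  haveI := A.finO β
  obtain ⟨d, hd, hd1⟩ := A.O_ne_one hβ
  haveI : Nontrivial ↥(A.O β) := ⟨⟨⟨d, hd⟩, 1, fun e => hd1 (congrArg Subtype.val e)⟩⟩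
  exact Finite.one_lt_card

/-- all the central subgroups at B-vertices have order two -/
def Small : Prop := ∀ x, ¬ A.isA x → Nat.card ↥(A.O x) = 2

theorem small_of_card {x : V} (hx : ¬ A.isA x) (h : Nat.card ↥(A.O x) ≤ 2) : A.Small :=
  fun y hy => by
    rw [A.card_O_eq hy hx]
    exact le_antisymm h (A.one_lt_card_O hx)

theorem O_unique {x : V} (hS : A.Small) (hx : ¬ A.isA x) {d e : G} (hd : d ∈ A.O x) (hd1 : d ≠ 1)
    (he : e ∈ A.O x) (he1 : e ≠ 1) : d = e := by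
  obtain ⟨z, -, hu⟩ := (Nat.card_eq_two_iff' (1 : ↥(A.O x))).mp (hS x hx)
  have h1 := hu ⟨d, hd⟩ fun e => hd1 (congrArg Subtype.val e)
  have h2 := hu ⟨e, he⟩ fun e' => he1 (congrArg Subtype.val e')
  exact congrArg Subtype.val (h1.trans h2.symm)

theorem O_eq_of_common {x y : V} (hS : A.Small) (hx : ¬ A.isA x) (hy : ¬ A.isA y) {d : G}
    (h1 : d ∈ A.O x) (h2 : d ∈ A.O y) (hd : d ≠ 1) : A.O x = A.O y := by
  ext e
  by_cases he : e = 1
  · subst he; simp [one_mem]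
  exact ⟨fun h => A.O_unique hS hx h1 hd h he ▸ h2, fun h => A.O_unique hS hy h2 hd h he ▸ h1⟩

theorem card_edge_le {x y : V} (h : A.Adj x y) :
    Nat.card ↥(E (G := G) x y) ≤ 2 * Nat.card ↥(A.Q x) := by
  haveI := A.finQ x
  exact (card_le_two_mul (E (G := G) x y) (A.Q x) fun a ha b hb haQ hbQ => A.two' h ha.1 ha.2 haQ hb.1 hb.2 hbQ).2

end Geo

end CfsgLib.A33
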