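import Cfsg.Agent.Lib.Amalgam33.Common

/-!
Odd critical distance: the large `W` is impossible.
-/

set_option autoImplicit false
set_option linter.style.haveILetI false
set_option linter.unusedSectionVars false
set_option maxHeartbeats 800000

namespace CfsgLib.A33

open Subgroup

namespace Geo

variable {G : Type*} [Group G] {V : Type*} [MulAction G V] (A : Geo G V)

theorem O_le_of_one {x : V} (hS : A.Small) (hx : ¬ A.isA x) {K : Subgroup G} {d : G} (hd : d ∈ A.O x)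
    (hd1 : d ≠ 1) (hdK : d ∈ K) : A.O x ≤ K := fun e he => by
  by_cases he1 : e = 1
  · subst he1; exact one_mem _
  · rwa [A.O_unique hS hx he he1 hd hd1]

theorem Z_le_of {α β β' : V} (hα : A.isA α) (h : A.Adj α β) (h' : A.Adj α β') (hne : β ≠ β')
    {K : Subgroup G} (h1 : A.O β ≤ K) (h2 : A.O β' ≤ K) : A.Z α ≤ K := fun z hz => by
  obtain ⟨p, hp, q, hq, rfl⟩ := A.Z_split h hα h' hne hz
  exact mul_mem (h1 hp) (h2 hq)

/-- three centres at a vertex -/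
theorem O_three {α β β' β'' : V} (hS : A.Small) (hα : A.isA α) (h : A.Adj α β) (h' : A.Adj α β')
    (h'' : A.Adj α β'') (n1 : β ≠ β') (n2 : β ≠ β'') (n3 : β' ≠ β'') {p r : G} (hp : p ∈ A.O β)
    (hp1 : p ≠ 1) (hr : r ∈ A.O β'') (hr1 : r ≠ 1) : p * r ∈ A.O β' ∧ p * r ≠ 1 := by
  have hne : p * r ≠ 1 := fun e => hp1 (A.disjoint_O h hα h'' n2 hp (by
    rwa [eq_inv_of_mul_eq_one_left e, A.O_inv hr]))
  refine ⟨?_, hne⟩
  obtain ⟨s, hs', t, ht, e⟩ := A.Z_split h' hα h n1.symm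
    (mul_mem (A.O_le_Z h hα hp) (A.O_le_Z h'' hα hr))
  by_cases ht1 : t = 1
  · rw [e, ht1, mul_one]; exact hs'
  obtain rfl := A.O_unique hS (A.notA_of h hα) ht ht1 hp hp1
  have hc : Commute s t := A.Z_comm (A.O_le_Z h' hα hs') (A.O_le_Z h hα hp)
  rw [hc.eq] at e
  exact absurd (A.disjoint_O h'' hα h' n3.symm hr ((mul_left_cancel e).symm ▸ hs')) hr1

section
variable {b : ℕ} (hs : A.Short b) (hb : 3 ≤ b) (hS : A.Small) (h8 : ¬ A.Eight)
include hs hb hS h8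

theorem isN_not_mem_Z {β γ : V} {n : G} (hβ : ¬ A.isA β) (hγ : A.Adj β γ) (hn : A.IsN β n) :
    n ∉ A.Z γ := by
  intro hnZ
  have hγA := A.isA_of_not hγ hβ
  have hOZ := A.O_le_Z (A.symm hγ) hγA
  obtain ⟨α, α', h1, h2, n1, n2, n3, -⟩ := A.other hγ
  obtain ⟨x, hx, hx'⟩ := A.exists_rep_Z (A.symm h1) (A.isA_of_not h1 hβ)
  obtain ⟨w, hw, hw'⟩ := A.exists_rep_Z (A.symm h2) (A.isA_of_not h2 hβ)
  obtain ⟨g, hg, hg'⟩ := A.exists_rep_Z (A.symm hγ) hγA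
  have hm : A.IsN β (x * w * g) :=
    ⟨α, α', γ, x, w, g, h1, h2, hγ, n3, n1, n2, hx, hx', hw, hw', hg, hg', rfl⟩
  have hmZ : x * w * g ∈ A.Z γ := by
    have := mul_mem (inv_mem hnZ) (hOZ (IsN.mod A hs hb hS hβ hn hm))
    rwa [inv_mul_cancel_left] at this
  have hxwZ : x * w ∈ A.Z γ := by
    have := mul_mem hmZ hg
    rwa [mul_assoc, A.Z_sq hg, mul_one] at this
  by_cases hO : x * w ∈ A.O β
  · refine A.rep_not_mem hs hb hS hβ h1 h2 n3 hw hw' ?_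
    have := mul_mem hx (A.O_le_Z (A.symm h1) (A.isA_of_not h1 hβ) hO)
    rwa [← mul_assoc, A.Z_sq hx, one_mul] at this
  · exact A.sixteen hs hb hS h8 hβ hm (A.Z_mod hS (A.symm hγ) hγA hxwZ hg hO hg')

theorem IsN.mul_O {β : V} {n p : G} (hβ : ¬ A.isA β) (hn : A.IsN β n) (hp : p ∈ A.O β) :
    A.IsN β (p * n) := by
  obtain ⟨α, γ, δ, x, y, w, h1, h2, h3, h4, h5, h6, hx, hx', hy, hy', hw, hw', rfl⟩ := hn
  exact ⟨α, γ, δ, p * x, y, w, h1, h2, h3, h4, h5, h6,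
    mul_mem (A.O_le_Z (A.symm h1) (A.isA_of_not h1 hβ) hp) hx,
    fun h => hx' (by simpa using mul_mem (inv_mem hp) h), hy, hy', hw, hw', by simp [mul_assoc]⟩

theorem no_common {β γ δ : V} (hγ : A.isA γ) (h1 : A.Adj γ β) (h2 : A.Adj γ δ) (hne : β ≠ δ) {m : G}
    (hm : A.IsN β m) (hm' : A.IsN δ m) : False := by
  have hβ := A.notA_of h1 hγ
  have hδ := A.notA_of h2 hγ
  have hmW := IsN.mem_W A hm
  refine A.isN_not_mem_Z hs hb hS h8 hβ (A.symm h1) hm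
    ⟨A.W_le_Q_nbr hs hb hβ (A.symm h1) hmW, A.W_sq hs hb hβ hmW, fun q hq => ?_⟩
  have := A.disjoint_O h1 hγ h2 hne (A.conj_mul_mem_O hs hb hS hβ hm (A.fix h1 hq))
    (A.conj_mul_mem_O hs hb hS hδ hm' (A.fix h2 hq))
  refine mul_inv_eq_iff_eq_mul.mp ?_
  rw [eq_inv_of_mul_eq_one_right this, A.W_inv hs hb hβ hmW]

theorem VV {β γ δ : V} (hγ : A.isA γ) (h1 : A.Adj γ β) (h2 : A.Adj γ δ) (hne : β ≠ δ) {u : G}
    (hu : u ∈ A.W β) (hu' : u ∈ A.W δ) (huZ : u ∉ A.Z γ) : False := by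
  have hβ := A.notA_of h1 hγ
  have hOZ := A.O_le_Z h1 hγ
  obtain ⟨δ', hδ', n1, n2, hall⟩ := A.third h1 h2 hne
  have hZW : ∀ κ, A.Adj γ κ → A.Z γ ≤ A.W κ := fun κ hκ => A.Z_le_W (A.symm hκ)
  have pairW : ∀ i ∈ A.W β, i ∈ A.W δ → ∀ κ, A.Adj γ κ → i ∈ A.W κ := by
    intro i hi hi' κ hκ
    rcases hall κ hκ with rfl | rfl | rfl
    · exact hi
    · exact hi'
    obtain ⟨s, hs', hsQ⟩ := A.ne_Q (A.symm h1)
    have hsγ : s • γ = γ := A.fix (A.symm h1) hs'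
    have e : s • δ = κ := A.swap_eq h1 h2 hδ' hne.symm n1 n2.symm hsγ hs'.1
      (A.move h1 h2 hne.symm hsγ hs'.1 hsQ)
    have h3 : s * i * s⁻¹ ∈ A.W κ := e ▸ A.W_conj_mem hi'
    have h4 := hZW κ hδ' (hOZ (A.W_bracket hs hb hβ hi hs'))
    have := mul_mem h4 (inv_mem h3)
    rwa [mul_inv_cancel_right] at this
  let J : Subgroup G :=
    { carrier := {i | ∀ κ, A.Adj γ κ → i ∈ A.W κ}
      one_mem' := fun _ _ => one_mem _
      mul_mem' := fun hp hq κ hκ => mul_mem (hp κ hκ) (hq κ hκ)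
      inv_mem' := fun hp κ hκ => inv_mem (hp κ hκ) }
  have huJ : u ∈ J := pairW u hu hu'
  have hZJ : A.Z γ ≤ J := fun z hz κ hκ => hZW κ hκ hz
  have hJconj : ∀ g : G, g • γ = γ → ∀ i ∈ J, g * i * g⁻¹ ∈ J := by
    intro g hg i hi κ hκ
    have := A.W_conj_mem (g := g) (hi _ (A.adj_of_fix (inv_smul_eq_iff.mpr hg.symm) hκ))
    rwa [smul_inv_smul] at this
  have hγβ : A.Adj β γ := A.symm h1
  have norep : ∀ α, A.Adj β α → α ≠ γ → ∀ x ∈ A.Z α, x ∉ A.O β → x ∈ J → False := by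
    intro α hα hαγ x hx hx' hxJ
    have hZα : A.Z α ≤ J := fun z hz => by
      by_cases hzO : z ∈ A.O β
      · exact hZJ (hOZ hzO)
      · have := mul_mem (hZJ (hOZ (A.Z_mod hS (A.symm hα) (A.isA_of_not hα hβ) hz hx hzO hx'))) hxJ
        rwa [mul_assoc, A.Z_sq hx, mul_one] at this
    obtain ⟨α', hα', m1, m2, hall'⟩ := A.third hγβ hα hαγ.symm
    obtain ⟨t, htβ, htγ, htQ⟩ := A.exists_notQ hγβ
    have e : t • α = α' := A.swap_eq hγβ hα hα' hαγ m1 m2.symm htβ htγ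
      (A.move hγβ hα hαγ htβ htγ htQ)
    refine A.W_not_le hs hb hS hγ h1 h2 hne (A.W_le fun ν hν z hz => ?_)
    suffices z ∈ J from this δ h2
    rcases hall' ν hν with rfl | rfl | rfl
    · exact hZJ hz
    · exact hZα hz
    · rw [← e, A.Z_smul_iff] at hz
      have := hJconj t htγ _ (hZα hz)
      rwa [show t * (t⁻¹ * z * t) * t⁻¹ = z by group] at this
  obtain ⟨α, α', ha, ha', m1, m2, m3, -⟩ := A.other hγβ
  obtain ⟨x, hx, hx'⟩ := A.exists_rep_Z (A.symm ha) (A.isA_of_not ha hβ)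
  obtain ⟨x₂, hx₂, hx₂'⟩ := A.exists_rep_Z (A.symm ha') (A.isA_of_not ha' hβ)
  obtain ⟨g, hg, hg'⟩ := A.exists_rep_Z h1 hγ
  have key : ∀ i ∈ J, i ∉ A.Z γ → i * x₂ * x ∈ A.Z γ := by
    intro i hi hiZ
    rcases A.W_in_adjoin hs hb hS hβ hγβ ha ha' m1.symm m2.symm m3 hx hx' hx₂ hx₂' (hi β h1)
      with h | h | h | h
    · exact absurd h hiZ
    · refine (norep α ha m1 x hx hx' ?_).elim
      have := mul_mem (inv_mem hi) (hZJ h)
      rwa [inv_mul_cancel_left] at this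
    · refine (norep α' ha' m2 x₂ hx₂ hx₂' ?_).elim
      have := mul_mem (inv_mem hi) (hZJ h)
      rwa [inv_mul_cancel_left] at this
    · exact h
  set n := x * x₂ * g with hn
  have hnN : A.IsN β n := ⟨α, α', γ, x, x₂, g, ha, ha', hγβ, m3, m1, m2, hx, hx', hx₂, hx₂', hg, hg', hn⟩
  have hxW := A.Z_le_W ha hx
  have hx₂W := A.Z_le_W ha' hx₂
  have hnJ : n ∈ J := by
    refine mul_mem ?_ (hZJ hg)
    have := mul_mem (inv_mem huJ) (hZJ (key u huJ huZ))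
    rwa [mul_assoc u, inv_mul_cancel_left, (A.W_comm hs hb hβ hx₂W hxW).eq] at this
  obtain ⟨c, hc0, hc1⟩ := A.trans h1 h2
  set m := c * n * c⁻¹ with hm
  have hmN : A.IsN δ m := hc1 ▸ IsN.conj A hnN
  have hmJ : m ∈ J := hJconj c hc0 n hnJ
  have hδ := A.notA_of h2 hγ
  have hmZ := A.isN_not_mem_Z hs hb hS h8 hδ (A.symm h2) hmN
  have hnm : n * m ∈ A.Z γ := by
    have h3 := mul_mem (key m hmJ hmZ) hg
    rwa [show m * x₂ * x * g = m * (x₂ * x) * g by group, (A.W_comm hs hb hβ hx₂W hxW).eq,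
      show m * (x * x₂) * g = m * n by rw [hn]; group,
      (A.W_comm hs hb hβ (hmJ β h1) (hnJ β h1)).eq] at h3
  obtain ⟨p, hp, q, hq, e⟩ := A.Z_split h1 hγ h2 hne hnm
  have h4 : p * n = q * m := by
    calc p * n = p * (n * m) * m⁻¹ := by group
      _ = p * p * q * m⁻¹ := by rw [e]; group
      _ = q * m := by rw [A.O_sq hp, one_mul, A.W_inv hs hb hδ (IsN.mem_W A hmN)]
  exact A.no_common hs hb hS h8 hγ h1 h2 hne (IsN.mul_O A hs hb hS h8 hβ hnN hp)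
    (h4 ▸ IsN.mul_O A hs hb hS h8 hδ hmN hq)

section
variable {v : ℕ → V} (hc : A.Crit b v) (hodd : b % 2 = 1)
include hc hodd

theorem R_isN {μ : V} (hμ : A.Adj (v b) μ) (hμne : μ ≠ v (b - 1)) {a e : G} (ha : a ∈ A.Z (v 0))
    (haQ : a ∉ A.Q (v b)) (he : e ∈ A.Z μ) (heQ : e ∉ A.Q (v 1)) :
    a * e * a * e ∈ A.W (v 1) ∧ a * e * a * e ∈ A.W (v b) ∧ a * e * a * e ∉ A.Z (v 2) ∧
      ∃ g ∈ A.Z (v 2), A.IsN (v 1) (a * e * a * e * g) := by
  obtain ⟨he1, -, haO, hm0, hm2, hRW, hRW', heae, heaeO, -, -⟩ :=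
    A.crit_data hs hb hS hc hodd hμ hμne ha haQ he heQ
  have h01 := hc.1.1 0 (by omega)
  have h12 := hc.1.1 1 (by omega)
  have h2A : A.isA (v 2) := A.isA_even hc.1.1 (by omega) hc.2.1 rfl
  obtain ⟨g, hg, hg'⟩ := A.exists_rep_Z (A.symm h12) h2A
  have hN : A.IsN (v 1) (a * e * a * e * g) := by
    refine ⟨v 0, e • v 0, v 2, a, e * a * e, g, A.symm h01, A.adj_of_fix he1 (A.symm h01), h12,
      hm0.symm, hc.1.2 0 (by omega), hm2, ha, haO, heae, heaeO, hg, hg', by group⟩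
  refine ⟨hRW, hRW', fun h => ?_, g, hg, hN⟩
  exact A.isN_not_mem_Z hs hb hS h8 (A.notA_of h01 hc.2.1) h12 hN (mul_mem h hg)

theorem N_le_Q (h5 : 5 ≤ b) {n : G} (hn : A.IsN (v 1) n) : n ∈ A.Q (v b) := by
  obtain ⟨μ, hμ, hμne, hnle⟩ := A.back hs hb hc hodd
  obtain ⟨a, ha, haQ⟩ := SetLike.not_le_iff_exists.mp hc.2.2
  obtain ⟨e, he, heQ⟩ := SetLike.not_le_iff_exists.mp hnle
  obtain ⟨-, hR, -, g, hg, hN⟩ := A.R_isN hs hb hS h8 hc hodd hμ hμne ha haQ he heQ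
  have hB1 := A.odd_B1 hs hb hc hodd
  have hB := A.odd_Bb hs hb hc hodd
  have h12 := hc.1.1 1 (by omega)
  have h2A : A.isA (v 2) := A.isA_even hc.1.1 (by omega) hc.2.1 rfl
  have hZ2 : A.Z (v 2) ≤ A.Q (v b) := A.seg hs hc.1.1 (by omega) le_rfl (by omega) (by omega) h2A
  have h3 := mul_mem (hZ2 (A.O_le_Z (A.symm h12) h2A (IsN.mod A hs hb hS hB1 hn hN)))
    (inv_mem (mul_mem (A.W_le_Q hs hb hB hR) (hZ2 hg)))
  rwa [mul_inv_cancel_right] at h3

theorem P1 (h5 : 5 ≤ b) {n h : G} (hn : A.IsN (v 1) n) (hh : h ∈ A.W (v b)) : Commute n h := by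
  classical
  have hw := hc.1.1
  have hB1 := A.odd_B1 hs hb hc hodd
  have hB := A.odd_Bb hs hb hc hodd
  have hnQ := A.N_le_Q hs hb hS h8 hc hodd h5 hn
  have hnW := IsN.mem_W A hn
  suffices hall : ∀ ν, A.Adj (v b) ν → n ∈ A.Q ν by
    have hle : A.W (v b) ≤ centralizer {n} := A.W_le fun ν hν z hz =>
      mem_centralizer_singleton_iff.mpr (A.Z_central hz (hall ν hν)).eq.symm
    exact (mem_centralizer_singleton_iff.mp (hle hh)).symm
  intro ν hν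
  by_contra hnν
  have hνne : ν ≠ v (b - 1) := by
    rintro rfl
    exact hnν (A.W_seg hs hb hw (i := 1) (by omega) (by omega) (by omega) (by omega) hB1 hnW)
  obtain ⟨a, ha, haQ⟩ := SetLike.not_le_iff_exists.mp hc.2.2
  have hp : A.IsPath b (snoc (b - 1) (fun k => v (1 + k)) ν) := by
    have := A.isPath_snoc (y := ν) (n := b - 1) (v := fun k => v (1 + k))
      (by rwa [show 1 + (b - 1) = b by omega]) (IsPath.drop A hc.1 1)
      (fun _ => by rwa [show 1 + (b - 1 - 1) = b - 1 by omega])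
    rwa [show b - 1 + 1 = b by omega] at this
  have hlast : snoc (b - 1) (fun k => v (1 + k)) ν b = ν := by simp [snoc, show ¬ b ≤ b - 1 by omega]
  have hm : A.Mover b (snoc (b - 1) (fun k => v (1 + k)) ν) n := by
    refine A.mover_of_notQ hp (fun k hk => ?_) (by rwa [hlast])
    rcases Nat.lt_or_ge k b with h | h
    · rw [snoc_le _ _ (show k ≤ b - 1 by omega)]
      show n • v (1 + k) = v (1 + k)
      exact A.W_seg_fix hs hb hw (by omega) (by omega) (by omega) (by omega) hB1 hnW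
    · rw [show k = b by omega, hlast]
      exact A.fix hν hnQ
  have hT := A.tr_of_movers hm (A.mover_a hs hb hc hodd ha haQ) (by rw [hlast]; exact A.isA_of_not hν hB)
    hB le_rfl le_rfl
  -- then `n` commutes with `W (v b)`
  have hcomm : ∀ z ∈ A.W (v b), Commute n z := by
    intro z hz
    have hz1 : z • v 1 = v 1 := A.W_seg_fix hs hb hw le_rfl (by omega) (by omega) (by omega) hB hz
    have r1 := A.conj_mul_mem_O hs hb hS hB1 hn hz1
    have r2 := A.W_bracket hs hb hB hz hnQ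
    rw [A.W_inv hs hb hB hz] at r1
    rw [A.W_inv hs hb hB1 hnW] at r2
    have r2' := inv_mem r2
    rw [mul_inv_rev, mul_inv_rev, mul_inv_rev, A.W_inv hs hb hB hz, A.W_inv hs hb hB1 hnW,
      show n * (z * n) * z = n * (z * n * z) by group] at r2'
    exact commute_of_sq (A.W_sq hs hb hB1 hnW) (A.W_sq hs hb hB hz) (by
      rw [show n * z * (n * z) = n * (z * n * z) by group]
      exact A.tr_disjoint hs hb hS hc hodd hT r1 r2')
  have hνA := A.isA_of_not hν hB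
  exact hnν (A.mem_Q_of_comm_Z hνA (A.fix hν hnQ) fun z hz => hcomm z (A.Z_le_W hν hz))

/-- the intersections of kernels do not centralise `N` -/
theorem F_all (h5 : 5 ≤ b) {β γ : V} (hβγ : A.Adj β γ) (hγ : A.isA γ) {n : G} (hn : A.IsN β n) :
    ∃ q ∈ A.Q β, q ∈ A.Q γ ∧ ¬ Commute q n := by
  have hw := hc.1.1
  have hB1 := A.odd_B1 hs hb hc hodd
  have hB := A.odd_Bb hs hb hc hodd
  have h12 := hw 1 (by omega)
  have h2A : A.isA (v 2) := A.isA_even hw (by omega) hc.2.1 rfl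
  obtain ⟨m, hm⟩ := A.exists_isN hB1
  have base : ∀ k, A.IsN (v 1) k → ∃ q ∈ A.Q (v 1), q ∈ A.Q (v 2) ∧ ¬ Commute q k := by
    intro k hk
    by_contra hcon
    push Not at hcon
    obtain ⟨μ, hμ, hμne, hnle⟩ := A.back hs hb hc hodd
    obtain ⟨e, he, heQ⟩ := SetLike.not_le_iff_exists.mp hnle
    have heW := A.Z_le_W hμ he
    have hek : Commute e k := (A.P1 hs hb hS h8 hc hodd h5 hk heW).symm
    have he2 : e ∈ A.Q (v 2) := A.W_seg hs hb hw le_rfl (by omega) (by omega) (by omega) hB heW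
    have hkW := IsN.mem_W A hk
    refine A.isN_not_mem_Z hs hb hS h8 hB1 h12 hk ⟨A.W_le_Q_nbr hs hb hB1 h12 hkW,
      A.W_sq hs hb hB1 hkW, fun q hq => ?_⟩
    by_cases hq1 : q ∈ A.Q (v 1)
    · exact hcon q hq1 hq
    · have := hek.mul_left (hcon _ (A.two' h12 (A.fix (A.symm h12) he2) he2.1 heQ
        (A.fix (A.symm h12) hq) hq.1 hq1) (mul_mem (inv_mem he2) hq))
      rwa [mul_inv_cancel_left] at this
  have hβ : ¬ A.isA β := fun h => (A.alt hβγ).mp hγ h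
  obtain ⟨g, hg⟩ := A.trans_type (x := v 1) (y := β) (iff_of_false hB1 hβ)
  obtain ⟨c, hc0, hc1⟩ := A.trans (hg ▸ A.adj_smul g h12) hβγ
  set k := c * g
  have k1 : k • v 1 = β := by rw [mul_smul, hg, hc0]
  have k2 : k • v 2 = γ := by rw [mul_smul, hc1]
  obtain ⟨q, hq1, hq2, hqn⟩ := base _ (by
    have := IsN.conj A (g := k⁻¹) hn
    rwa [inv_smul_eq_iff.mpr k1.symm] at this)
  refine ⟨k * q * k⁻¹, ?_, ?_, fun h => hqn ?_⟩
  · rw [← k1, A.Q_smul_iff]; simpa [mul_assoc] using hq1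
  · rw [← k2, A.Q_smul_iff]; simpa [mul_assoc] using hq2
  · have := h.map (MulAut.conj k⁻¹).toMonoidHom
    simpa [mul_assoc] using this

/-- kernels of two vertices at distance two meet differently -/
theorem DA (h5 : 5 ≤ b) {β γ δ : V} (hγ : A.isA γ) (h1 : A.Adj γ β) (h2 : A.Adj γ δ) (hne : β ≠ δ) :
    ∃ q ∈ A.Q γ, q ∈ A.Q δ ∧ q ∉ A.Q β := by
  have hw := hc.1.1
  have hB := A.odd_Bb hs hb hc hodd
  obtain ⟨μ, hμ, hμne, hnle⟩ := A.back hs hb hc hodd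
  obtain ⟨e, he, heQ⟩ := SetLike.not_le_iff_exists.mp hnle
  have heW := A.Z_le_W hμ he
  have he2 : e ∈ A.Q (v 2) := A.W_seg hs hb hw le_rfl (by omega) (by omega) (by omega) hB heW
  have he3 : e ∈ A.Q (v 3) := A.W_seg hs hb hw le_rfl (by omega) (by omega) (by omega) hB heW
  have h2A : A.isA (v 2) := A.isA_even hw (by omega) hc.2.1 rfl
  obtain ⟨g, g0, g1, g2⟩ := A.pair_trans (iff_of_true h2A hγ) (A.symm (hw 1 (by omega)))
    (hw 2 (by omega)) (hc.1.2 1 (by omega)) h1 h2 hne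
  refine ⟨g * e * g⁻¹, ?_, ?_, ?_⟩
  · rw [← g0, A.Q_smul_iff]; simpa [mul_assoc] using he2
  · rw [← g2, A.Q_smul_iff]; simpa [mul_assoc] using he3
  · rw [← g1, A.Q_smul_iff]; simpa [mul_assoc] using heQ

end

end

end Geo

end CfsgLib.A33
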