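import Cfsg.Agent.Lib.Amalgam33.Eight
import Cfsg.Agent.Lib.Amalgam33.Sixteen

/-!
Critical distance at least five with small `W` is impossible.
-/

set_option autoImplicit false
set_option linter.style.haveILetI false
set_option linter.unusedSectionVars false
set_option maxHeartbeats 1000000

namespace CfsgLib.A33

open Subgroup

namespace Geo

variable {G : Type*} [Group G] {V : Type*} [MulAction G V] (A : Geo G V)

/-- the subgroup generated by `W` at the neighbours -/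
def U (x : V) : Subgroup G := closure {z | ∃ κ, A.Adj x κ ∧ z ∈ A.W κ}

theorem W_le_U {x κ : V} (h : A.Adj x κ) : A.W κ ≤ A.U x := fun _ hz => subset_closure ⟨κ, h, hz⟩

theorem U_le {x : V} {K : Subgroup G} (h : ∀ κ, A.Adj x κ → A.W κ ≤ K) : A.U x ≤ K := by
  rw [U, closure_le]
  rintro z ⟨κ, hκ, hz⟩
  exact h κ hκ hz

theorem U_conj {g : G} {x : V} (hg : g • x = x) {h : G} (hh : h ∈ A.U x) : g * h * g⁻¹ ∈ A.U x := by
  have hle : A.U x ≤ (A.U x).comap (MulAut.conj g).toMonoidHom := A.U_le fun κ hκ z hz => by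
    rw [mem_comap]
    exact A.W_le_U (A.adj_of_fix hg hκ) (A.W_conj_mem hz)
  exact hle hh

section
variable {b : ℕ} (hs : A.Short b) (hS : A.Small) (h8 : A.Eight) (hodd : b % 2 = 1) (h5 : 5 ≤ b)
include hs hS h8 hodd h5

theorem exists_shift {v : ℕ → V} (hc : A.Crit b v) {x : V} (hx : A.Adj (v 0) x) (hx1 : x ≠ v 1) :
    ∃ ν, A.Adj x ν ∧ A.Crit b (cons ν (cons x v)) := by
  classical
  by_contra hcon
  push Not at hcon
  have hb : 3 ≤ b := by omega
  have hw := hc.1.1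
  have h0 := hc.2.1
  have h01 := hw 0 (by omega)
  have hxB := A.notA_of hx h0
  have hB := A.odd_Bb hs hb hc hodd
  have hB1 := A.odd_B1 hs hb hc hodd
  have hπA := A.odd_Ab hs hb hc hodd
  have hpx : A.IsPath b (cons x v) := by
    have := A.isPath_cons (A.symm hx) (IsPath.mono A hc.1 (show b - 1 ≤ b by omega)) fun _ => hx1
    rwa [show b - 1 + 1 = b by omega] at this
  have hend : ∀ ν, cons ν (cons x v) b = v (b - 2) := fun ν => by
    rw [cons_pos _ _ (by omega), cons_pos _ _ (by omega)]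
    congr 1
  have hshift : ∀ ν, A.Adj x ν → ν ≠ v 0 → A.IsPath b (cons ν (cons x v)) := by
    intro ν hν hν0
    have := A.isPath_cons (x := ν) (v := cons x v) (A.symm hν)
      (IsPath.mono A hpx (show b - 1 ≤ b by omega)) fun _ => by simpa using hν0
    rwa [show b - 1 + 1 = b by omega] at this
  have hWQ : A.W x ≤ A.Q (v (b - 2)) := A.W_le fun ν hν => by
    by_cases he : ν = v 0
    · subst he
      exact A.seg hs hw (Nat.zero_le _) (by omega) (by omega) (by omega) h0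
    · by_contra hn
      exact hcon ν hν ⟨hshift ν hν he, by simpa using A.isA_of_not hν hxB, by rwa [hend, cons_zero]⟩
  obtain ⟨a, ha, haQ⟩ := SetLike.not_le_iff_exists.mp hc.2.2
  have hma := A.mover_a hs hb hc hodd ha haQ
  have noA : ∀ {L : ℕ} {u : ℕ → V} {g : G}, b ≤ L → A.isA (u L) → ¬ A.Mover L u g := by
    intro L u g hL hA hm
    have hT := A.tr_of_movers hm hma hA hB hL le_rfl
    obtain ⟨ν, hν, hν0⟩ := A.other_one (A.symm hx)
    exact hcon ν hν (A.crit_of_tr (Tr.pred A hT) hc (hshift ν hν hν0)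
      (by simpa using A.isA_of_not hν hxB))
  have hlast : cons x v b = v (b - 1) := cons_pos _ _ (by omega)
  have hfix : ∀ h ∈ A.W x, ∀ i, i < b → h • cons x v i = cons x v i := fun h hh i hi =>
    A.W_seg_fix hs hb hpx.1 (i := 0) (Nat.zero_le _) (show i ≤ b by omega) (by omega) (by omega)
      (by simpa using hxB) (show h ∈ A.W (cons x v 0) by simpa using hh)
  have hp21 : A.Adj (v (b - 2)) (v (b - 1)) := by
    have := hw (b - 2) (by omega)
    rwa [show b - 2 + 1 = b - 1 by omega] at this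
  have hπb : A.Adj (v (b - 1)) (v b) := A.symm (A.adj_prev hw (by omega) le_rfl)
  have hQ1 : A.W x ≤ A.Q (v (b - 1)) := by
    intro h hh
    by_contra hQ
    refine noA le_rfl (by rw [hlast]; exact hπA) (A.mover_of_notQ hpx (fun i hi => ?_) (by rwa [hlast]))
    rcases Nat.lt_or_ge i b with h' | h'
    · exact hfix h hh i h'
    · rw [show i = b by omega, hlast]
      exact A.fix hp21 (hWQ hh)
  have hcomm : ∀ h ∈ A.W x, h ∈ A.Q (v b) → ∀ z ∈ A.W (v b), Commute h z := by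
    intro h hh hhQ
    have hall : ∀ ν, A.Adj (v b) ν → h ∈ A.Q ν := by
      intro ν hν
      by_contra hnν
      have hνne : ν ≠ v (b - 1) := fun e => hnν (e ▸ hQ1 hh)
      have hp2 : A.IsPath (b + 1) (cons x v) := A.isPath_cons (A.symm hx) hc.1 fun _ => hx1
      have hp3 : A.IsPath (b + 1 + 1) (snoc (b + 1) (cons x v) ν) :=
        A.isPath_snoc (by simpa using hν) hp2 fun _ => by
          rw [show b + 1 - 1 = b by omega, hlast]; exact hνne
      refine noA (L := b + 1 + 1) (u := snoc (b + 1) (cons x v) ν) (g := h) (by omega)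
        (by rw [snoc_last]; exact A.isA_of_not hν hB) (A.mover_of_notQ hp3 (fun i hi => ?_)
          (by rwa [snoc_last]))
      rcases Nat.lt_or_ge i b with h' | h'
      · rw [snoc_le _ _ (show i ≤ b + 1 by omega)]
        exact hfix h hh i h'
      rcases Nat.lt_or_ge i (b + 1) with h2 | h2
      · rw [show i = b by omega, snoc_le _ _ (show b ≤ b + 1 by omega), hlast]
        exact (hQ1 hh).1
      rcases Nat.lt_or_ge i (b + 2) with h3 | h3
      · rw [show i = b + 1 by omega, snoc_le _ _ le_rfl, cons_succ]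
        exact hhQ.1
      · rw [show i = b + 1 + 1 by omega, snoc_last]
        exact A.fix hν hhQ
    intro z hz
    have hle : A.W (v b) ≤ centralizer {h} := A.W_le fun ν hν z' hz' =>
      mem_centralizer_singleton_iff.mpr (A.Z_central hz' (hall ν hν)).eq.symm
    exact (mem_centralizer_singleton_iff.mp (hle hz)).symm
  obtain ⟨μ, hμ, hμne, hnle⟩ := A.back hs hb hc hodd
  obtain ⟨e, he, heQ⟩ := SetLike.not_le_iff_exists.mp hnle
  obtain ⟨he1, -, haO, hm0, hm2, -, -, -, -, -, -⟩ := A.crit_data hs hb hS hc hodd hμ hμne ha haQ he heQ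
  set α₂ := e • v 0 with hα₂
  set κ := e • x with hκ
  have hα₂A : A.isA α₂ := by rw [hα₂, A.isA_smul]; exact h0
  have hα₂β : A.Adj α₂ (v 1) := he1 ▸ A.adj_smul e h01
  have hκα : A.Adj α₂ κ := A.adj_smul e hx
  have hκ1 : κ ≠ v 1 := fun h => hx1 (MulAction.injective e (h.trans he1.symm))
  -- an element of `W x ∩ W κ` outside `Z (v 0)`
  obtain ⟨g₀, hg₀W, hg₀Z⟩ : ∃ g₀ ∈ A.W x, g₀ ∉ A.Z (v 0) := by
    obtain ⟨α', hα', hne⟩ := A.other_one (A.symm hx)
    obtain ⟨k, hk, hk'⟩ := A.exists_rep_Z (A.symm hα') (A.isA_of_not hα' hxB)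
    exact ⟨k, A.Z_le_W hα' hk, A.rep_not_mem hs hb hS hxB (A.symm hx) hα' hne.symm hk hk'⟩
  obtain ⟨f, hfW, hfQ, hfZ⟩ : ∃ f ∈ A.W x, f ∈ A.Q (v b) ∧ f ∉ A.Z (v 0) := by
    by_cases hgQ : g₀ ∈ A.Q (v b)
    · exact ⟨g₀, hg₀W, hgQ, hg₀Z⟩
    refine ⟨a * g₀, mul_mem (A.Z_le_W (A.symm hx) ha) hg₀W, A.two (A.symm hπb)
      (hma.2.1 b le_rfl) (hma.2.1 _ (by omega)) haQ (A.fix hπb (hQ1 hg₀W)) (hQ1 hg₀W).1 hgQ, fun h => hg₀Z ?_⟩
    have := mul_mem ha h
    rwa [← mul_assoc, A.Z_sq ha, one_mul] at this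
  have hfκ : f ∈ A.W κ := by
    have := A.W_conj_mem (g := e) hfW
    rwa [← (hcomm f hfW hfQ e (A.Z_le_W hμ he)).eq, mul_inv_cancel_right] at this
  have h10 := A.symm h01
  have h12' := A.symm hα₂β
  -- every such pair meets outside the centres
  have meet : ∀ ν ν' x' κ', A.Adj (v 1) ν → A.Adj (v 1) ν' → ν ≠ ν' → A.Adj ν x' → x' ≠ v 1 →
      A.Adj ν' κ' → κ' ≠ v 1 → ∃ h ∈ A.W x', h ∈ A.W κ' ∧ h ∉ A.Z ν := by
    intro ν ν' x' κ' h1 h2 hne k1 k1' k2 k2'
    obtain ⟨g, -, g1, -, g3, g4⟩ := A.tr_four hs hb hS h8 hB1 h10 h12' hm0.symm hx hx1 hκα hκ1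
      hB1 h1 h2 hne k1 k1' k2 k2'
    refine ⟨g * f * g⁻¹, g3 ▸ A.W_conj_mem hfW, g4 ▸ A.W_conj_mem hfκ, fun h => hfZ ?_⟩
    rw [← g1, A.Z_smul_iff] at h
    simpa [mul_assoc] using h
  have into : ∀ ν ν' x', A.Adj (v 1) ν → A.Adj (v 1) ν' → ν ≠ ν' → A.Adj ν x' → x' ≠ v 1 →
      A.W x' ≤ A.U ν' ∧ A.Z ν ≤ A.U ν' := by
    intro ν ν' x' h1 h2 hne k1 k1'
    have hνA := A.isA_of_not h1 hB1
    have hν'A := A.isA_of_not h2 hB1
    have hx'B := A.notA_of k1 hνA
    obtain ⟨κ₁, κ₂, hκ₁, hκ₂, n1, n2, n3, -⟩ := A.other (A.symm h2)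
    have hW1 : A.W (v 1) ≤ A.U ν' := A.W_le_U (A.symm h2)
    have hZU : A.Z ν ≤ A.U ν' := fun z hz => hW1 (A.Z_le_W h1 hz)
    obtain ⟨h₁, h₁W, h₁κ, h₁Z⟩ := meet ν ν' x' κ₁ h1 h2 hne k1 k1' hκ₁ n1
    obtain ⟨α', hα', hne'⟩ := A.other_one (A.symm k1)
    obtain ⟨y, hy, hy'⟩ := A.exists_rep_Z (A.symm hα') (A.isA_of_not hα' hx'B)
    refine ⟨fun z hz => ?_, hZU⟩
    have hh₁ := A.W_two' hs hb hS h8 (A.symm k1) hα' hne'.symm hx'B hy hy' h₁W
    have h₁U : h₁ ∈ A.U ν' := A.W_le_U hκ₁ h₁κ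
    have hyU : y ∈ A.U ν' := by
      have := mul_mem (inv_mem h₁U) (hZU (hh₁.resolve_left h₁Z))
      rwa [inv_mul_cancel_left] at this
    rcases A.W_two' hs hb hS h8 (A.symm k1) hα' hne'.symm hx'B hy hy' hz with q | q
    · exact hZU q
    · have := mul_mem (hZU q) (inv_mem hyU)
      rwa [mul_inv_cancel_right] at this
  have UU : ∀ ν ν', A.Adj (v 1) ν → A.Adj (v 1) ν' → ν ≠ ν' → A.U ν ≤ A.U ν' := by
    intro ν ν' h1 h2 hne
    refine A.U_le fun x' hx' => ?_
    by_cases he : x' = v 1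
    · rw [he]; exact A.W_le_U (A.symm h2)
    · exact (into ν ν' x' h1 h2 hne hx' he).1
  have hUeq := le_antisymm (UU (v 0) α₂ h10 h12' hm0.symm) (UU α₂ (v 0) h12' h10 hm0)
  obtain ⟨z, hz, hz1⟩ := A.Z_ne_one h0
  have hbot : A.U (v 0) = ⊥ := by
    refine A.core_two h10 h12' hm0.symm (A.U (v 0)) (fun n hn => ?_) (fun g hg n hn => A.U_conj hg hn)
      (fun g hg n hn => by rw [hUeq] at hn ⊢; exact A.U_conj hg hn)
    exact (A.U_le (K := MulAction.stabilizer G (v 1) ⊓ MulAction.stabilizer G (v 0)) fun κ' hκ' h hh =>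
      have hq := A.W_le_Q_nbr hs hb (A.notA_of hκ' h0) (A.symm hκ') hh
      ⟨A.fix h01 hq, hq.1⟩) hn
  exact hz1 (Subgroup.mem_bot.mp (hbot ▸ A.W_le_U hx (A.Z_le_W (A.symm hx) hz)))

theorem SH {v : ℕ → V} (hc : A.Crit b v) : ∀ d ∈ A.O (v 1), d ∈ A.Z (v (b - 3)) := by
  have hb : 3 ≤ b := by omega
  have hw := hc.1.1
  have h0 := hc.2.1
  have h01 := hw 0 (by omega)
  obtain ⟨x, ι, hx, hι, n1, n2, n3, hall⟩ := A.other h01
  have one : ∀ y, A.Adj (v 0) y → y ≠ v 1 →
      ∃ w ∈ A.Z (v 0), w ∈ A.Z (v (b - 3)) ∧ w ∉ A.O y := by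
    intro y hy hy1
    obtain ⟨ν, hν, hc'⟩ := A.exists_shift hs hS h8 hodd h5 hc hy hy1
    obtain ⟨w, hw1, hw2, hw3, -, -⟩ := A.crit_w hs hb hS h8 hc' hodd
    rw [show cons ν (cons y v) 2 = v 0 by simp [cons]] at hw1
    rw [show cons ν (cons y v) 1 = y by simp [cons]] at hw3
    rw [cons_pos _ _ (show 1 ≤ b - 1 by omega), cons_pos _ _ (show 1 ≤ b - 1 - 1 by omega),
      show b - 1 - 1 - 1 = b - 3 by omega] at hw2
    exact ⟨w, hw1, hw2, hw3⟩
  obtain ⟨w, hw1, hw2, hw3⟩ := one x hx n1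
  obtain ⟨w', hw1', hw2', hw3'⟩ := one ι hι n2
  have notboth : ∀ p q : V, A.Adj (v 0) p → A.Adj (v 0) q → p ≠ q → ∀ r ∈ A.O p, r ≠ 1 → ∀ s ∈ A.O q,
      s ≠ 1 → r ∈ A.Z (v (b - 3)) → s ∈ A.Z (v (b - 3)) → False := by
    intro p q hp hq hpq r hr hr1 s hs' hs1 hrZ hsZ
    refine hc.2.2 fun z hz => ?_
    obtain ⟨r', hr', s', hs'', rfl⟩ := A.Z_split hp h0 hq hpq hz
    have hA3 : A.isA (v (b - 3)) := A.isA_even hw (by omega) h0 (by omega)
    refine A.seg hs hw (show b - 3 ≤ b by omega) le_rfl (by omega) (by omega) hA3 (mul_mem ?_ ?_)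
    · by_cases h1 : r' = 1
      · rw [h1]; exact one_mem _
      · rwa [A.O_unique hS (A.notA_of hp h0) hr' h1 hr hr1]
    · by_cases h1 : s' = 1
      · rw [h1]; exact one_mem _
      · rwa [A.O_unique hS (A.notA_of hq h0) hs'' h1 hs' hs1]
  have ne1 : ∀ {y : V} {u : G}, u ∉ A.O y → u ≠ 1 := fun h e => h (e ▸ one_mem _)
  have key : ∀ u ∈ A.Z (v 0), u ∉ A.O x → u ∈ A.O (v 1) ∨ u ∈ A.O ι := fun u hu hux => by
    have := A.Z_split h01 h0 hx n1.symm hu
    obtain ⟨p, hp, q, hq, rfl⟩ := this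
    by_cases hp1 : p = 1
    · rw [hp1, one_mul] at hux; exact absurd hq hux
    by_cases hq1 : q = 1
    · rw [hq1, mul_one]; exact Or.inl hp
    exact Or.inr (A.O_three hS h0 h01 hι hx n2.symm n1.symm n3.symm hp hp1 hq hq1).1
  intro d hd
  rcases key w hw1 hw3 with h | h
  · by_cases hd1 : d = 1
    · rw [hd1]; exact one_mem _
    · rwa [A.O_unique hS (A.notA_of h01 h0) hd hd1 h (ne1 hw3)]
  · by_cases hwx : w' ∈ A.O x
    · exact (notboth ι x hι hx n3.symm w h (ne1 hw3) w' hwx (ne1 hw3') hw2 hw2').elim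
    rcases key w' hw1' hwx with h' | h'
    · exact (notboth ι (v 1) hι h01 n2 w h (ne1 hw3) w' h' (ne1 hw3') hw2 hw2').elim
    · exact absurd h' hw3'

theorem false_eight {v : ℕ → V} (hc : A.Crit b v) : False := by
  have hb : 3 ≤ b := by omega
  have hw := hc.1.1
  have h0 := hc.2.1
  have h01 := hw 0 (by omega)
  obtain ⟨x, ι, hx, hι, n1, n2, n3, -⟩ := A.other h01
  obtain ⟨ν, hν, hc'⟩ := A.exists_shift hs hS h8 hodd h5 hc hx n1
  rcases eq_or_lt_of_le h5 with h | h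
  · subst h
    have hB := A.odd_Bb hs hb hc hodd
    have hB1 := A.odd_B1 hs hb hc hodd
    have hxB := A.notA_of hx h0
    have h12 := hw 1 (by omega)
    have h23 := hw 2 (by omega)
    have h34 := hw 3 (by omega)
    have h45 := hw 4 (by omega)
    have h2A : A.isA (v 2) := A.isA_even hw (by omega) h0 rfl
    have h4A : A.isA (v 4) := A.isA_even hw (by omega) h0 rfl
    have hv3B : ¬ A.isA (v 3) := A.notA_odd hw (by omega) h0 rfl
    obtain ⟨T, hT, hTQ⟩ := SetLike.not_le_iff_exists.mp hc'.2.2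
    rw [cons_zero] at hT
    rw [show cons ν (cons x v) 5 = v 3 by simp [cons]] at hTQ
    have hνA := A.isA_of_not hν hxB
    have hT0 : T ∈ A.Q (v 0) := by
      have := A.seg hs hc'.1.1 (i := 0) (j := 2) (by omega) (by omega) (by omega) (by omega)
        (by simpa using hνA) (show T ∈ A.Z (cons ν (cons x v) 0) by simpa using hT)
      simpa [cons] using this
    have hT1 : T ∈ A.Q (v 1) := by
      have := A.seg hs hc'.1.1 (i := 0) (j := 3) (by omega) (by omega) (by omega) (by omega)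
        (by simpa using hνA) (show T ∈ A.Z (cons ν (cons x v) 0) by simpa using hT)
      simpa [cons] using this
    have hT2 : T ∈ A.Q (v 2) := by
      have := A.seg hs hc'.1.1 (i := 0) (j := 4) (by omega) (by omega) (by omega) (by omega)
        (by simpa using hνA) (show T ∈ A.Z (cons ν (cons x v) 0) by simpa using hT)
      simpa [cons] using this
    obtain ⟨μ, hμ, hμne, hnle⟩ := A.back hs hb hc hodd
    obtain ⟨a, ha, haQ⟩ := SetLike.not_le_iff_exists.mp hc.2.2
    obtain ⟨e, he, heQ⟩ := SetLike.not_le_iff_exists.mp hnle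
    obtain ⟨he1, he2, haO, hm0, hm2, -, -, -, -, he2Q, he35⟩ :=
      A.crit_data hs hb hS hc hodd hμ hμne ha haQ he heQ
    set α₂ := e • v 0 with hα₂
    have hα₂β : A.Adj α₂ (v 1) := he1 ▸ A.adj_smul e h01
    have hTα₂ : T ∈ A.Q α₂ := by
      have hwk : A.IsWalk (0 + 1 + 1 + 1 + 1)
          (cons ν (cons x (cons (v 0) (cons (v 1) fun _ => α₂)))) :=
        A.isWalk_cons (by simpa using A.symm hν) (A.isWalk_cons (by simpa using A.symm hx)
          (A.isWalk_cons (by simpa using h01) (A.isWalk_cons (A.symm hα₂β) fun k hk => absurd hk (by omega))))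
      have := A.seg hs hwk (i := 0) (j := 4) (by omega) le_rfl (by omega) (by omega)
        (by simpa using hνA) (show T ∈ _ by simpa using hT)
      simpa [cons] using this
    have hTinv : T⁻¹ = T := A.Z_inv hT
    have heinv : e⁻¹ = e := A.Z_inv he
    set P := e * (T * e * T) with hP
    have hκα : A.Adj α₂ (e • x) := A.adj_smul e hx
    have he1' : e • e • v 0 = v 0 := by rw [← mul_smul, A.Z_sq he, one_smul]
    have he1x : e • e • x = x := by rw [← mul_smul, A.Z_sq he, one_smul]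
    have hP0 : P • v 0 = v 0 := by
      rw [hP, mul_smul, mul_smul, mul_smul, hT0.1, ← hα₂, hTα₂.1, hα₂, he1']
    have hPx : P • x = x := by
      rw [hP, mul_smul, mul_smul, mul_smul, A.fix hx hT0, A.fix hκα hTα₂, he1x]
    have hP1 : P • v 1 = v 1 := by
      rw [hP, mul_smul, mul_smul, mul_smul, hT1.1, he1, hT1.1, he1]
    have hPQ : P ∈ A.Q (v 0) := A.mem_Q_of_two h01 hx n1.symm hP0 hP1 hPx
    -- `P * P` generates the centre at `v 3`
    have hPP : P * P ∈ A.O (v 3) ∧ P * P ≠ 1 := by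
      have hT3 : T • v 3 = v 3 := A.fix h23 hT2
      have h24 : v 2 ≠ v 4 := hc.1.2 2 (by omega)
      set γ' := T • v 4 with hγ'
      have hγ'adj : A.Adj (v 3) γ' := A.adj_of_fix hT3 h34
      have hγ'4 : γ' ≠ v 4 := A.move (A.symm h23) h34 h24.symm hT3 hT2.1 hTQ
      set u := T • v 5 with hu
      have hu' : A.Adj γ' u := A.adj_smul T h45
      have h53 : v 5 ≠ v 3 := (hc.1.2 3 (by omega)).symm
      have hu3 : u ≠ v 3 := fun h => h53 (MulAction.injective T (h.trans hT3.symm))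
      obtain ⟨g, g0, g1, g2, g3, g4⟩ := A.tr_four hs hb hS h8 hv3B (A.symm h23) h34 h24 (A.symm h12)
        (hc.1.2 1 (by omega)) h45 h53 hv3B hγ'adj h34 hγ'4 hu' hu3 h45 h53
      obtain ⟨w, hwa, hwb, hwc, hwd, hspec⟩ := A.crit_w hs hb hS h8 hc hodd
      have hf : T * e * T ∈ A.W u := by
        have := A.W_conj_mem (g := T) (A.Z_le_W hμ he)
        rwa [hTinv, ← hu] at this
      have hek : e ∈ A.W (v 5) := A.Z_le_W hμ he
      have hh' : g⁻¹ * (T * e * T) * g ∈ A.W (v 1) := (A.W_smul_iff g (v 1) _).mp (by rw [g3]; exact hf)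
      have hk' : g⁻¹ * e * g ∈ A.W (v 5) := (A.W_smul_iff g (v 5) _).mp (by rw [g4]; exact hek)
      have he4 : e ∉ A.Z (v 4) := fun h => heQ
        (A.seg hs hw (show 4 ≤ 5 by omega) (show 1 ≤ 5 by omega) (by omega) (by omega) h4A h)
      have hkQ : g⁻¹ * e * g ∉ A.Q (v 1) := by
        intro h
        obtain ⟨h', -⟩ := SetLike.not_le_iff_exists.mp hnle
        have hrev := A.rev_crit hs hb hS hc hodd hμ hμne hnle
        have := A.hyper hs hb hS h8 hrev hodd (h := g⁻¹ * e * g) (by simpa [cons] using hk')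
          (by simpa [cons] using h)
        simp [cons] at this
        rw [← A.Z_smul_iff, g2] at this
        exact he4 this
      have hhQ : g⁻¹ * (T * e * T) * g ∉ A.Q (v 5) := by
        intro h
        have := A.hyper hs hb hS h8 hc hodd hh' h
        rw [← A.Z_smul_iff, g1, hγ', A.Z_smul_iff] at this
        rw [hTinv, show T * (T * e * T) * T = (T * T) * e * (T * T) by group, A.Z_sq hT, one_mul,
          mul_one] at this
        exact he4 this
      have hval := (hspec _ hh' _ hk').2 hhQ hkQ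
      have e' : T * e * T * e * (T * e * T) * e = g * w * g⁻¹ := by rw [← hval]; group
      have hwO : w ∈ A.O (v 3) := by
        by_contra hno
        exact A.rep_not_mem hs hb hS hv3B (A.symm h23) h34 h24 hwb hno hwa
      have hval' : T * e * T * e * (T * e * T) * e ∈ A.O (v 3) ∧
          T * e * T * e * (T * e * T) * e ≠ 1 := by
        rw [e']
        refine ⟨?_, fun h => hwc ?_⟩
        · have := A.O_conj (g := g) hwO
          rwa [g0] at this
        · rw [conj_eq_one_iff.mp h]; exact one_mem _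
      have e2 : P * P = e * (T * e * T * e * (T * e * T) * e) * e⁻¹ := by rw [hP]; group
      have hfix3 : e • v 3 = v 3 := A.fix h23 he2Q
      refine ⟨?_, fun h => hval'.2 (conj_eq_one_iff.mp (e2 ▸ h))⟩
      rw [e2]
      have := A.O_conj (g := e) hval'.1
      rwa [hfix3] at this
    have hPW : P * P ∈ A.W x := by
      have hTW : T ∈ A.W x := A.Z_le_W hν hT
      have h1 : T * (P * T * P⁻¹) ∈ A.W x := mul_mem hTW (A.W_conj (A.fix hx hPQ) hTW)
      have h2 : T * P * T = P⁻¹ := by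
        rw [hP, mul_inv_rev, mul_inv_rev, mul_inv_rev, heinv, hTinv,
          show T * (e * (T * e * T)) * T = T * e * T * e * (T * T) by group, A.Z_sq hT, mul_one]
        group
      have h3 := inv_mem h1
      rwa [show T * (P * T * P⁻¹) = (T * P * T) * P⁻¹ by group, h2, mul_inv_rev, inv_inv] at h3
    refine A.W_not_le hs hb hS h0 h01 hx n1.symm (A.W_le fun ν' hν' z hz => ?_)
    have hO3 : A.O (v 3) ≤ A.W x := fun d hd => by
      by_cases hd1 : d = 1
      · rw [hd1]; exact one_mem _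
      · rwa [A.O_unique hS hv3B hd hd1 hPP.1 hPP.2]
    have hZ0 : A.Z (v 0) ≤ A.W x := A.Z_le_W (A.symm hx)
    have hZ2 : A.Z (v 2) ≤ A.W x := fun y hy => by
      obtain ⟨p, hp, q, hq, rfl⟩ := A.Z_split (A.symm h12) h2A h23 (hc.1.2 1 (by omega)) hy
      exact mul_mem (hZ0 (A.O_le_Z h01 h0 hp)) (hO3 hq)
    obtain ⟨y, hy, hy'⟩ := A.exists_rep_Z (A.symm h12) h2A
    rcases A.W_two' hs hb hS h8 (A.symm h01) h12 (hc.1.2 0 (by omega)) hB1 hy hy' (A.Z_le_W hν' hz)
      with q | q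
    · exact hZ0 q
    · have := mul_mem (hZ0 q) (inv_mem (hZ2 hy))
      rwa [mul_inv_cancel_right] at this
  · have h7 : 7 ≤ b := by omega
    obtain ⟨ν', hν', hc''⟩ := A.exists_shift hs hS h8 hodd h5 hc hι n2
    have e1 := A.SH hs hS h8 hodd h5 hc'
    have e2 := A.SH hs hS h8 hodd h5 hc''
    rw [show cons ν (cons x v) 1 = x by simp [cons], cons_pos _ _ (show 1 ≤ b - 3 by omega),
      cons_pos _ _ (show 1 ≤ b - 3 - 1 by omega), show b - 3 - 1 - 1 = b - 5 by omega] at e1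
    rw [show cons ν' (cons ι v) 1 = ι by simp [cons], cons_pos _ _ (show 1 ≤ b - 3 by omega),
      cons_pos _ _ (show 1 ≤ b - 3 - 1 by omega), show b - 3 - 1 - 1 = b - 5 by omega] at e2
    refine hc.2.2 fun z hz => ?_
    obtain ⟨p, hp, q, hq, rfl⟩ := A.Z_split hx h0 hι n3 hz
    exact A.seg hs hw (show b - 5 ≤ b by omega) le_rfl (by omega) (by omega)
      (A.isA_even hw (by omega) h0 (by omega)) (mul_mem (e1 p hp) (e2 q hq))

end

end Geo

end CfsgLib.A33
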