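import Cfsg.Agent.Lib.Amalgam33.Even

/-!
Critical distance two: the edge groups have order at most 128.
-/

set_option autoImplicit false
set_option linter.style.haveILetI false
set_option maxHeartbeats 600000

namespace CfsgLib.A33

open Subgroup

namespace Geo

variable {G : Type*} [Group G] {V : Type*} [MulAction G V] (A : Geo G V)

theorem Z_smul_le {g : G} {x y : V} : A.Z (g • x) ≤ A.Q (g • y) ↔ A.Z x ≤ A.Q y := by
  constructor
  · intro h z hz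
    have := (A.Q_smul_iff g y _).mp (h (A.Z_conj (g := g) hz))
    simpa [mul_assoc] using this
  · intro h z hz
    exact (A.Q_smul_iff g y z).mpr (h ((A.Z_smul_iff g x z).mp hz))

theorem card_Z_le {α β β' : V} (h : A.Adj α β) (h' : A.Adj α β') (hne : β ≠ β') (hα : A.isA α) :
    Nat.card ↥(A.Z α) ≤ Nat.card ↥(A.O β) * Nat.card ↥(A.O β') := by
  haveI := A.finO β
  haveI := A.finO β'
  rw [← Nat.card_prod]
  refine Nat.card_le_card_of_surjective (fun p : ↥(A.O β) × ↥(A.O β') =>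
    (⟨p.1 * p.2, mul_mem (A.O_le_Z h hα p.1.2) (A.O_le_Z h' hα p.2.2)⟩ : ↥(A.Z α))) fun z => ?_
  obtain ⟨a, ha, c, hc, e⟩ := A.Z_split h hα h' hne z.2
  exact ⟨(⟨a, ha⟩, ⟨c, hc⟩), Subtype.ext e.symm⟩

section
variable (hS : A.Small) (hs : A.Short 2)
  (hH : ∀ α β γ, A.isA α → A.Adj β α → A.Adj β γ → γ ≠ α → ¬ A.Z γ ≤ A.Q α)
include hS hs hH

omit hS hH in
theorem near_fix {α β γ : V} (hα : A.Adj β α) (hγ : A.Adj β γ) (hγA : A.isA γ) {z : G}
    (hz : z ∈ A.Z γ) : z • α = α ∧ z • β = β := by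
  have hw : A.IsWalk 2 (cons γ (cons β fun _ => α)) :=
    A.isWalk_cons (by simpa using A.symm hγ) (A.isWalk_cons hα fun k hk => absurd hk (by omega))
  have := A.seg_fix hs hw (i := 0) (j := 2) (by omega) le_rfl (by omega) (by omega)
    (by simpa using hγA) (z := z) (by simpa using hz)
  exact ⟨by simpa using this, A.fix (A.symm hγ) hz.1⟩

omit hS in
/-- the part of `W β` inside `Q α` -/
theorem wedge {α β : V} (hαA : A.isA α) (hα : A.Adj β α) :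
    ∃ e ∈ A.W β, e ∈ A.Q α ∧ e * e ∈ A.Z α ∧
      ∀ h ∈ A.W β, h ∈ A.Q α → h ∈ A.Z α ∨ h * e ∈ A.Z α := by
  have hβ : ¬ A.isA β := A.notA_of (A.symm hα) hαA
  obtain ⟨γ, γ', hγ, hγ', h1, h2, h3, hall⟩ := A.other hα
  obtain ⟨y, hy, hyQ⟩ := SetLike.not_le_iff_exists.mp (hH α β γ hαA hα hγ h1)
  obtain ⟨w, hw, hwQ⟩ := SetLike.not_le_iff_exists.mp (hH α β γ' hαA hα hγ' h2)
  have hγA := A.isA_of_not hγ hβ
  have hγ'A := A.isA_of_not hγ' hβ
  have fy := A.near_fix hs hα hγ hγA hy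
  have fw := A.near_fix hs hα hγ' hγ'A hw
  have heQ : y * w ∈ A.Q α := A.two (A.symm hα) fy.1 fy.2 hyQ fw.1 fw.2 hwQ
  have hOZ : A.O β ≤ A.Z α := A.O_le_Z (A.symm hα) hαA
  have hee : (y * w) * (y * w) ∈ A.Z α := by
    have hwγ := A.near_fix hs hγ hγ' hγ'A hw
    have := hOZ (A.Z_bracket (A.symm hγ) hγA hy hwγ.1 hwγ.2)
    rwa [A.Z_inv hw, show y * (w * y * w) = y * w * (y * w) by group] at this
  let T := adjoin (A.Z α) (y * w) (fun t ht => A.Z_conj_fix heQ.1 ht) hee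
  have hyT : ∀ t ∈ T, y * t * y⁻¹ ∈ T := by
    intro t ht
    have : T ≤ T.comap (MulAut.conj y).toMonoidHom := by
      refine adjoin_le (fun z hz => ?_) ?_
      · exact Or.inl (A.Z_conj_fix fy.1 hz)
      · rw [Subgroup.mem_comap]
        show y * (y * w) * y⁻¹ ∈ T
        rw [← mul_assoc, A.Z_sq hy, one_mul, show w * y⁻¹ = (y * w⁻¹)⁻¹ by group, A.Z_inv hw]
        exact inv_mem self_mem_adjoin
    exact this ht
  let P := adjoin T y hyT (by rw [A.Z_sq hy]; exact one_mem _)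
  have hTQ : T ≤ A.Q α := adjoin_le A.Z_le_Q heQ
  have hline : ∀ u ∈ A.Z α, ∀ γ₀, A.Adj β γ₀ → γ₀ ≠ α → ∀ y₀ ∈ A.Z γ₀, y₀ ∉ A.Q α → y₀ ∈ P →
      u ∉ A.Q γ₀ → A.Z γ₀ ≤ P := by
    intro u hu γ₀ hγ₀ hne y₀ hy₀ hy₀Q hy₀P huQ z hz
    have hγ₀A := A.isA_of_not hγ₀ hβ
    have key : ∀ p ∈ A.Z γ₀, p ∈ A.Q α → p ∈ P := fun p hp hpQ => by
      have fu := A.near_fix hs hγ₀ hα hαA hu
      exact le_adjoin (le_adjoin (hOZ (A.Z_comm_mem_O (A.symm hγ₀) hγ₀A hp fu.1 fu.2 huQ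
        (A.Z_central hu hpQ).symm)))
    by_cases hzQ : z ∈ A.Q α
    · exact key z hz hzQ
    · have f0 := A.near_fix hs hα hγ₀ hγ₀A hy₀
      have fz := A.near_fix hs hα hγ₀ hγ₀A hz
      have := mul_mem hy₀P (key _ (mul_mem (inv_mem hy₀) hz)
        (A.two' (A.symm hα) f0.1 f0.2 hy₀Q fz.1 fz.2 hzQ))
      rwa [mul_inv_cancel_left] at this
  obtain ⟨u, hu, huQ⟩ := SetLike.not_le_iff_exists.mp (hH γ β α hγA hγ hα h1.symm)
  obtain ⟨u', hu', hu'Q⟩ := SetLike.not_le_iff_exists.mp (hH γ' β α hγ'A hγ' hα h2.symm)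
  have hyP : y ∈ P := self_mem_adjoin
  have hwP : w ∈ P := by
    have := mul_mem hyP (le_adjoin (self_mem_adjoin : y * w ∈ T) : y * w ∈ P)
    rwa [← mul_assoc, A.Z_sq hy, one_mul] at this
  have hWP : A.W β ≤ P := A.W_le fun ν hν => by
    rcases hall ν hν with rfl | rfl | rfl
    · exact fun z hz => le_adjoin (le_adjoin hz)
    · exact hline u hu _ hν h1 y hy hyQ hyP huQ
    · exact hline u' hu' _ hν h2 w hw hwQ hwP hu'Q
  refine ⟨y * w, mul_mem (A.Z_le_W hγ hy) (A.Z_le_W hγ' hw), heQ, hee, fun h hh hhQ => ?_⟩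
  have hmem := (mem_adjoin.mp (hWP hh)).resolve_right fun hT => hyQ (by
    have := mul_mem (inv_mem hhQ) (hTQ hT)
    rwa [inv_mul_cancel_left] at this)
  exact mem_adjoin.mp hmem

/-- the bound -/
theorem card_Q_two {α : V} (hαA : A.isA α) : Nat.card ↥(A.Q α) ≤ 64 := by
  classical
  haveI := A.finQ α
  haveI := A.finZ α
  obtain ⟨β, hαβ⟩ := A.exists_nbr α
  have hβα := A.symm hαβ
  -- the intrinsic subgroup `U`
  set U : Subgroup G := closure ((A.Z α : Set G) ∪ {u | ∃ μ, A.Adj α μ ∧ u ∈ A.W μ ∧ u ∈ A.Q α})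
    with hUdef
  have hUQ : U ≤ A.Q α := by
    rw [hUdef, closure_le]
    rintro u (hu | ⟨μ, -, -, hu⟩)
    exacts [A.Z_le_Q hu, hu]
  haveI : Finite ↥U := Finite.of_injective _ (inclusion_injective hUQ)
  have hZU : A.Z α ≤ U := fun z hz => subset_closure (Or.inl hz)
  have hU : ∀ g : G, g • α = α → ∀ u ∈ U, g * u * g⁻¹ ∈ U := by
    intro g hg u hu
    have hle : U ≤ U.comap (MulAut.conj g).toMonoidHom := by
      refine (closure_le _).mpr ?_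
      rintro x (hx | ⟨μ, hμ, hxW, hxQ⟩)
      · exact subset_closure (Or.inl (A.Z_conj_fix hg hx))
      · exact subset_closure (Or.inr ⟨g • μ, A.adj_of_fix hg hμ, A.W_conj_mem hxW, A.Q_conj hg hxQ⟩)
    exact hle hu
  -- an element of order three acting trivially modulo `U`
  obtain ⟨γ, hγ, hγne⟩ := A.other_one hβα
  obtain ⟨y, hy, hyQ⟩ := SetLike.not_le_iff_exists.mp (hH α β γ hαA hβα hγ hγne)
  have fy := A.near_fix hs hβα hγ (A.isA_of_not hγ (A.notA_of hαβ hαA)) hy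
  have hyN : y ∈ A.actTriv α U hU := by
    refine ⟨fy.1, fun q hq => subset_closure (Or.inr ⟨β, hαβ, ?_,
      mul_mem (inv_mem hq) (A.Q_conj fy.1 hq)⟩)⟩
    have hyW : y ∈ A.W β := A.Z_le_W hγ hy
    have := mul_mem (A.W_conj (inv_smul_eq_iff.mpr (A.fix hαβ hq).symm) hyW) (inv_mem hyW)
    rwa [show q⁻¹ * y * q⁻¹⁻¹ * y⁻¹ = q⁻¹ * (y * q * y⁻¹) by group] at this
  obtain ⟨d, hdN, hrot⟩ := A.exists_rot_of_cover hαβ (A.actTriv α U hU)
    (fun g hg n hn => A.actTriv_conj hg hn) hyN fy.1 fy.2 hyQ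
  -- generators of `U`
  obtain ⟨e₀, he₀W, he₀Q, he₀2, he₀⟩ := A.wedge hs hH hαA hβα
  set e₁ := d * e₀ * d⁻¹ with he₁def
  set e₂ := d * e₁ * d⁻¹ with he₂def
  have tr : ∀ {μ : V} {e : G}, e ∈ A.W μ → e ∈ A.Q α → e * e ∈ A.Z α →
      (∀ h ∈ A.W μ, h ∈ A.Q α → h ∈ A.Z α ∨ h * e ∈ A.Z α) →
      d * e * d⁻¹ ∈ A.W (d • μ) ∧ d * e * d⁻¹ ∈ A.Q α ∧ d * e * d⁻¹ * (d * e * d⁻¹) ∈ A.Z α ∧
      (∀ h ∈ A.W (d • μ), h ∈ A.Q α → h ∈ A.Z α ∨ h * (d * e * d⁻¹) ∈ A.Z α) := by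
    intro μ e h1 h2 h3 h4
    refine ⟨A.W_conj_mem h1, A.Q_conj hrot.1 h2, ?_, fun h hh hhQ => ?_⟩
    · have := A.Z_conj_fix hrot.1 h3
      rwa [show d * (e * e) * d⁻¹ = d * e * d⁻¹ * (d * e * d⁻¹) by group] at this
    · rcases h4 _ ((A.W_smul_iff d μ h).mp hh) (A.Q_conj' hrot.1 hhQ) with k | k
      · have := A.Z_conj_fix hrot.1 k
        rw [show d * (d⁻¹ * h * d) * d⁻¹ = h by group] at this
        exact Or.inl this
      · have := A.Z_conj_fix hrot.1 k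
        rw [show d * (d⁻¹ * h * d * e) * d⁻¹ = h * (d * e * d⁻¹) by group] at this
        exact Or.inr this
  obtain ⟨he₁W, he₁Q, he₁2, he₁⟩ := tr he₀W he₀Q he₀2 he₀
  obtain ⟨he₂W, he₂Q, he₂2, he₂⟩ := tr he₁W he₁Q he₁2 he₁
  have hμ1 : A.Adj α (d • β) := A.adj_of_fix hrot.1 hαβ
  have hμ2 : A.Adj α (d • d • β) := A.adj_of_fix hrot.1 hμ1
  have key : ∀ {μ : V} {e : G}, A.Adj α μ → e ∈ A.W μ → e ∈ A.Q α → e * e ∈ A.Z α →
      (∀ h ∈ A.W μ, h ∈ A.Q α → h ∈ A.Z α ∨ h * e ∈ A.Z α) →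
      ∀ q ∈ A.Q α, e⁻¹ * (q * e * q⁻¹) ∈ A.Z α := by
    intro μ e hμ h1 h2 h3 h4 q hq
    have hh1 : q * e * q⁻¹ ∈ A.W μ := A.W_conj (A.fix hμ hq) h1
    rcases h4 _ hh1 (A.Q_conj hq.1 h2) with k | k
    · have he : e ∈ A.Z α := by
        have := A.Z_conj_fix (inv_smul_eq_iff.mpr hq.1.symm) k
        rwa [show q⁻¹ * (q * e * q⁻¹) * q⁻¹⁻¹ = e by group] at this
      exact mul_mem (inv_mem he) k
    · have := mul_mem (A.Z_conj_fix (inv_smul_eq_iff.mpr h2.1.symm) k) (inv_mem h3)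
      rwa [show e⁻¹ * (q * e * q⁻¹ * e) * e⁻¹⁻¹ * (e * e)⁻¹ = e⁻¹ * (q * e * q⁻¹) by group] at this
  have k0 := key hαβ he₀W he₀Q he₀2 he₀
  have k1 := key hμ1 he₁W he₁Q he₁2 he₁
  have k2 := key hμ2 he₂W he₂Q he₂2 he₂
  -- the chain
  let T₀ := adjoin (A.Z α) e₀ (fun t ht => A.Z_conj_fix he₀Q.1 ht) he₀2
  have hT₀ : ∀ q ∈ A.Q α, ∀ t ∈ T₀, q * t * q⁻¹ ∈ T₀ := by
    intro q hq t ht
    have : T₀ ≤ T₀.comap (MulAut.conj q).toMonoidHom := by
      refine adjoin_le (fun z hz => Or.inl (A.Z_conj_fix hq.1 hz)) ?_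
      rw [Subgroup.mem_comap]
      show q * e₀ * q⁻¹ ∈ T₀
      have := mul_mem (self_mem_adjoin : e₀ ∈ T₀) (le_adjoin (k0 q hq) : _ ∈ T₀)
      rwa [mul_inv_cancel_left] at this
    exact this ht
  let T₁ := adjoin T₀ e₁ (hT₀ e₁ he₁Q) (le_adjoin he₁2)
  have hT₁ : ∀ q ∈ A.Q α, ∀ t ∈ T₁, q * t * q⁻¹ ∈ T₁ := by
    intro q hq t ht
    have : T₁ ≤ T₁.comap (MulAut.conj q).toMonoidHom := by
      refine adjoin_le (fun z hz => Or.inl (hT₀ q hq z hz)) ?_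
      rw [Subgroup.mem_comap]
      show q * e₁ * q⁻¹ ∈ T₁
      have := mul_mem (self_mem_adjoin : e₁ ∈ T₁) (le_adjoin (le_adjoin (k1 q hq)) : _ ∈ T₁)
      rwa [mul_inv_cancel_left] at this
    exact this ht
  let T₂ := adjoin T₁ e₂ (hT₁ e₂ he₂Q) (le_adjoin (le_adjoin he₂2))
  have hZ0 : A.Z α ≤ T₀ := le_adjoin
  have hUT : U ≤ T₂ := by
    rw [hUdef, closure_le]
    rintro u (hu | ⟨μ, hμ, huW, huQ⟩)
    · exact le_adjoin (le_adjoin (le_adjoin hu))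
    rcases Rot.all A hrot hαβ μ hμ with rfl | rfl | rfl
    · refine le_adjoin (le_adjoin ?_)
      exact (he₀ u huW huQ)
    · refine le_adjoin ?_
      exact (he₁ u huW huQ).imp (fun h => hZ0 h) (fun h => hZ0 h)
    · exact (he₂ u huW huQ).imp (fun h => le_adjoin (hZ0 h)) (fun h => le_adjoin (hZ0 h))
  have hT₀U : T₀ ≤ U := adjoin_le hZU (subset_closure (Or.inr ⟨β, hαβ, he₀W, he₀Q⟩))
  have hT₁U : T₁ ≤ U := adjoin_le hT₀U (subset_closure (Or.inr ⟨_, hμ1, he₁W, he₁Q⟩))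
  have hT₂U : T₂ ≤ U := adjoin_le hT₁U (subset_closure (Or.inr ⟨_, hμ2, he₂W, he₂Q⟩))
  -- cardinalities
  obtain ⟨β', β'', hβ', -, hb', -⟩ := A.other hαβ
  have hZ4 : Nat.card ↥(A.Z α) ≤ 4 := by
    have := A.card_Z_le hαβ hβ' hb'.symm hαA
    rw [hS β (A.notA_of hαβ hαA), hS β' (A.notA_of hβ' hαA)] at this
    exact this
  obtain ⟨fT₀, cT₀⟩ := card_adjoin (T := A.Z α) (y := e₀) (h1 := fun t ht => A.Z_conj_fix he₀Q.1 ht) (h2 := he₀2)
  haveI : Finite ↥T₀ := fT₀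
  obtain ⟨fT₁, cT₁⟩ := card_adjoin (T := T₀) (y := e₁) (h1 := hT₀ e₁ he₁Q) (h2 := le_adjoin he₁2)
  haveI : Finite ↥T₁ := fT₁
  obtain ⟨fT₂, cT₂⟩ := card_adjoin (T := T₁) (y := e₂) (h1 := hT₁ e₂ he₂Q)
    (h2 := le_adjoin (le_adjoin he₂2))
  have hU32 : Nat.card ↥U ≤ 32 := by
    have := Nat.card_le_card_of_injective _ (inclusion_injective hUT)
    simp only [T₀, T₁, T₂] at *
    omega
  -- the fixed subgroup
  set K : Subgroup G := A.Q α ⊓ centralizer {d} with hKdef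
  haveI : Finite ↥K := Finite.of_injective _ (inclusion_injective (show K ≤ A.Q α from inf_le_left))
  have hKd : ∀ k ∈ K, Commute d k := fun k hk => (mem_centralizer_singleton_iff.mp hk.2).symm
  have hcov : ∀ q ∈ A.Q α, ∃ k ∈ K, k⁻¹ * q ∈ U := by
    intro q hq
    obtain ⟨u, hu, hcom⟩ := exists_fixed_coset hrot.2.1 ((A.Q_two α).mono hUQ) (hU d hrot.1) (hdN.2 q hq)
    refine ⟨q * u, ⟨mul_mem hq (hUQ hu), mem_centralizer_singleton_iff.mpr hcom.eq.symm⟩, ?_⟩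
    rw [show (q * u)⁻¹ * q = u⁻¹ by group]
    exact inv_mem hu
  have hCK : ∀ c ∈ K, (∀ u ∈ U, Commute u c) → c = 1 := by
    intro c hc hcu
    by_contra hne
    let C : Subgroup G := K ⊓ centralizer (U : Set G)
    haveI : Finite ↥C := Finite.of_injective _ (inclusion_injective (show C ≤ K from inf_le_left))
    have hPC : ∀ q ∈ A.Q α, ∀ m ∈ C, q * m * q⁻¹ ∈ C := by
      intro q hq m hm
      obtain ⟨k, hk, hku⟩ := hcov q hq
      have e : q * m * q⁻¹ = k * m * k⁻¹ := by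
        have h1 : (k⁻¹ * q) * m * (k⁻¹ * q)⁻¹ = m := by
          rw [show (k⁻¹ * q) * m = m * (k⁻¹ * q) from hm.2 _ hku, mul_inv_cancel_right]
        calc q * m * q⁻¹ = k * ((k⁻¹ * q) * m * (k⁻¹ * q)⁻¹) * k⁻¹ := by group
          _ = _ := by rw [h1]
      rw [e]
      refine Subgroup.mem_inf.mpr ⟨K.mul_mem (K.mul_mem hk hm.1) (K.inv_mem hk), fun u hu => ?_⟩
      have h2 := hm.2 _ (hU k⁻¹ (inv_smul_eq_iff.mpr hk.1.1.symm) u hu)
      calc u * (k * m * k⁻¹) = k * ((k⁻¹ * u * k⁻¹⁻¹) * m) * k⁻¹ := by group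
        _ = k * (m * (k⁻¹ * u * k⁻¹⁻¹)) * k⁻¹ := by rw [h2]
        _ = k * m * k⁻¹ * u := by group
    have hcC : c ∈ C := ⟨hc, fun u hu => hcu u hu⟩
    obtain ⟨n, hn, hn1, hnfix⟩ := exists_fixed_quotient (A.Q_two α) ((A.Q_two α).mono
      (show C ≤ A.Q α from inf_le_left.trans inf_le_left)) (bot_le : ⊥ ≤ C)
      (fun h => hne (Subgroup.mem_bot.mp (h ▸ hcC)))
      (fun p _ m hm => by rw [Subgroup.mem_bot] at hm ⊢; rw [hm, mul_one, mul_inv_cancel]) hPC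
    obtain ⟨m, hm1, hm2⟩ := exists_invol (A.Q_two α) hn.1.1 (fun h => hn1 (h ▸ one_mem _))
    have hnQ : ∀ q ∈ A.Q α, Commute q n := fun q hq => by
      have := Subgroup.mem_bot.mp (hnfix q hq)
      exact mul_inv_eq_iff_eq_mul.mp (inv_mul_eq_one.mp this).symm
    exact hm1 (A.rot_fixed_Z hαA hrot
      ⟨pow_mem hn.1.1 m, hm2, fun q hq => (hnQ q hq).pow_right m⟩ ((hKd n hn.1).pow_right m))
  have hK4 : Nat.card ↥K ≤ 4 := by
    let f : ↥K → ↥(A.Z α) := fun k => ⟨e₀⁻¹ * (k * e₀ * (k : G)⁻¹), k0 k k.2.1⟩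
    refine le_trans (Nat.card_le_card_of_injective f ?_) hZ4
    intro k k' e
    have e' : (k : G) * e₀ * (k : G)⁻¹ = k' * e₀ * (k' : G)⁻¹ := mul_left_cancel (congrArg Subtype.val e)
    set c := (k' : G)⁻¹ * k with hc
    have hcK : c ∈ K := mul_mem (inv_mem k'.2) k.2
    have hce : Commute c e₀ := by
      refine mul_inv_eq_iff_eq_mul.mp ?_
      calc c * e₀ * c⁻¹ = (k' : G)⁻¹ * (k * e₀ * (k : G)⁻¹) * k' := by rw [hc]; group
        _ = e₀ := by rw [e']; group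
    have hce1 : Commute c e₁ := by
      rw [he₁def]
      exact (((hKd c hcK).symm).mul_right hce).mul_right ((hKd c hcK).symm.inv_right)
    have hce2 : Commute c e₂ := by
      rw [he₂def]
      exact (((hKd c hcK).symm).mul_right hce1).mul_right ((hKd c hcK).symm.inv_right)
    have hle : U ≤ centralizer {c} := hUT.trans (adjoin_le (adjoin_le (adjoin_le
      (fun z hz => mem_centralizer_singleton_iff.mpr (A.Z_central hz hcK.1).eq.symm)
      (mem_centralizer_singleton_iff.mpr hce.eq.symm))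
      (mem_centralizer_singleton_iff.mpr hce1.eq.symm))
      (mem_centralizer_singleton_iff.mpr hce2.eq.symm))
    have := hCK c hcK fun u hu => mem_centralizer_singleton_iff.mp (hle hu)
    exact Subtype.ext (inv_mul_eq_one.mp this).symm
  have hmain := card_mul_le (A.Q α) K U hcov
  by_cases hKU : K ⊓ U = ⊥
  · -- then `U` has order at most 16
    set p := e₀ * e₁ * e₂ with hp
    have hinv : p⁻¹ * (d * p * d⁻¹) ∈ A.Z α := by
      have ed : d * e₂ * d⁻¹ = e₀ := by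
        rw [he₂def, he₁def]
        calc d * (d * (d * e₀ * d⁻¹) * d⁻¹) * d⁻¹ = (d ^ 3) * e₀ * (d ^ 3)⁻¹ := by
              simp only [pow_succ, pow_zero, one_mul, mul_inv_rev, mul_assoc]
          _ = e₀ := by rw [hrot.2.1]; simp
      have e : d * p * d⁻¹ = e₁ * e₂ * e₀ := by
        rw [hp]
        calc d * (e₀ * e₁ * e₂) * d⁻¹ = (d * e₀ * d⁻¹) * (d * e₁ * d⁻¹) * (d * e₂ * d⁻¹) := by group
          _ = _ := by rw [← he₁def, ← he₂def, ed]
      rw [e, hp]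
      have hq := inv_mem he₀Q
      have a1 := k1 _ hq
      have a2 := k2 _ hq
      have hsh : e₂⁻¹ * (e₁⁻¹ * (e₀⁻¹ * e₁ * e₀⁻¹⁻¹)) * e₂⁻¹⁻¹ ∈ A.Z α :=
        A.Z_conj_fix (inv_smul_eq_iff.mpr he₂Q.1.symm) a1
      have := mul_mem hsh a2
      rwa [show e₂⁻¹ * (e₁⁻¹ * (e₀⁻¹ * e₁ * e₀⁻¹⁻¹)) * e₂⁻¹⁻¹ * (e₂⁻¹ * (e₀⁻¹ * e₂ * e₀⁻¹⁻¹)) =
        (e₀ * e₁ * e₂)⁻¹ * (e₁ * e₂ * e₀) by group] at this
    obtain ⟨u, hu, hcom⟩ := exists_fixed_coset hrot.2.1 ((A.Q_two α).mono A.Z_le_Q)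
      (fun z hz => A.Z_conj_fix hrot.1 hz) hinv
    have hpu : p * u ∈ K ⊓ U := by
      have hpU : p ∈ U := mul_mem (mul_mem (hT₀U self_mem_adjoin) (hT₁U self_mem_adjoin))
        (hT₂U self_mem_adjoin)
      exact ⟨⟨mul_mem (hUQ hpU) (A.Z_le_Q hu), mem_centralizer_singleton_iff.mpr hcom.eq.symm⟩,
        mul_mem hpU (hZU hu)⟩
    rw [hKU, Subgroup.mem_bot] at hpu
    have he2T : e₂ ∈ T₁ := by
      have h01 : e₀ * e₁ ∈ T₁ := mul_mem (le_adjoin self_mem_adjoin) self_mem_adjoin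
      have hpT : p ∈ T₁ := by
        rw [eq_inv_of_mul_eq_one_left hpu]
        exact inv_mem (le_adjoin (hZ0 hu))
      have := mul_mem (inv_mem h01) hpT
      rwa [hp, inv_mul_cancel_left] at this
    have hU16 : Nat.card ↥U ≤ 16 := by
      have := Nat.card_le_card_of_injective _ (inclusion_injective (hUT.trans (adjoin_le le_rfl he2T)))
      simp only [T₀, T₁] at *
      omega
    rw [hKU, Subgroup.card_bot, mul_one] at hmain
    exact hmain.trans (le_trans (Nat.mul_le_mul hK4 hU16) (by norm_num))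
  · have h2 : 2 ≤ Nat.card ↥(K ⊓ U) := by
      haveI : Finite ↥(K ⊓ U) := Finite.of_injective _ (inclusion_injective inf_le_right)
      haveI := (Subgroup.nontrivial_iff_ne_bot _).mpr hKU
      exact Finite.one_lt_card
    have := Nat.mul_le_mul hK4 hU32
    have h3 := (Nat.mul_le_mul_left (Nat.card ↥(A.Q α)) h2).trans (hmain.trans this)
    omega

end

theorem bound_two {v : ℕ → V} (hs : A.Short 2) (hc : A.Crit 2 v) {x y : V} (h : A.Adj x y)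
    (hx : A.isA x) : Nat.card ↥(E (G := G) x y) ≤ 128 := by
  have hw := hc.1.1
  have hv2 : A.isA (v 2) := A.isA_even hw le_rfl hc.2.1 rfl
  have hH : ∀ α β γ, A.isA α → A.Adj β α → A.Adj β γ → γ ≠ α → ¬ A.Z γ ≤ A.Q α := by
    intro α β γ hα hβα hβγ hne
    obtain ⟨g, hg⟩ := A.trans_type (x := v 1) (y := β)
      (iff_of_false (A.notA_odd hw (by omega) hc.2.1 rfl) (A.notA_of (A.symm hβα) hα))
    have h0 : A.Adj β (g • v 0) := hg ▸ A.adj_smul g (A.symm (hw 0 (by omega)))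
    have h2 : A.Adj β (g • v 2) := hg ▸ A.adj_smul g (hw 1 (by omega))
    have hgn : g • v 0 ≠ g • v 2 := fun e => hc.1.2 0 (by omega) (MulAction.injective g e)
    obtain ⟨c, hc0, hc1⟩ := A.trans h0 hβγ
    have h2' : A.Adj β (c • g • v 2) := A.adj_of_fix hc0 h2
    have hne' : c • g • v 2 ≠ γ := fun e => hgn (MulAction.injective c (hc1.trans e.symm))
    have hγ0 : A.Z γ ≤ A.Q α ↔ A.Z (c • g • v 0) ≤ A.Q α := by rw [hc1]
    by_cases he : c • g • v 2 = α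
    · rw [hγ0, ← he, A.Z_smul_le, A.Z_smul_le]
      exact hc.2.2
    · obtain ⟨t, ht1, ht2, htQ⟩ := A.exists_notQ hβγ
      have e2 : t • c • g • v 2 = α := A.swap_eq hβγ h2' hβα hne' hne.symm he ht1 ht2
        (A.move hβγ h2' hne' ht1 ht2 htQ)
      have e0 : t • c • g • v 0 = γ := by rw [hc1, ht2]
      rw [← e0, ← e2, A.Z_smul_le, A.Z_smul_le, A.Z_smul_le]
      exact hc.2.2
  have := A.card_Q_two (A.even_main hs hc le_rfl rfl).1 hs hH hx
  exact (A.card_edge_le h).trans (by omega)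

end Geo

end CfsgLib.A33
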