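import Cfsg.Agent.Lib.Amalgam33.Eight
import Cfsg.Agent.Lib.Amalgam33.Sixteen
import Cfsg.Agent.Lib.Amalgam33.Two

/-!
Critical distance three, small `W`: the edge groups have order at most 128.
-/

set_option autoImplicit false
set_option linter.style.haveILetI false
set_option linter.unusedSectionVars false
set_option maxHeartbeats 1000000

namespace CfsgLib.A33

open Subgroup

namespace Geo

variable {G : Type*} [Group G] {V : Type*} [MulAction G V] (A : Geo G V)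

theorem Z_cases {γ β δ δ' : V} (hS : A.Small) (hγ : A.isA γ) (h1 : A.Adj γ β) (h2 : A.Adj γ δ)
    (h3 : A.Adj γ δ') (n1 : β ≠ δ) (n2 : β ≠ δ') (n3 : δ ≠ δ') {z : G} (hz : z ∈ A.Z γ) :
    z ∈ A.O β ∨ z ∈ A.O δ ∨ z ∈ A.O δ' := by
  obtain ⟨p, hp, q, hq, rfl⟩ := A.Z_split h1 hγ h2 n1 hz
  by_cases hp1 : p = 1
  · rw [hp1, one_mul]; exact Or.inr (Or.inl hq)
  by_cases hq1 : q = 1
  · rw [hq1, mul_one]; exact Or.inl hp
  exact Or.inr (Or.inr (A.O_three hS hγ h1 h3 h2 n2 n1 n3.symm hp hp1 hq hq1).1)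

section
variable (hs : A.Short 3) (hS : A.Small) (h8 : A.Eight) {v : ℕ → V} (hc : A.Crit 3 v)
include hs hS h8 hc

theorem hyper3 {γ β δ : V} (hγ : A.isA γ) (h1 : A.Adj γ β) (h2 : A.Adj γ δ) (hne : β ≠ δ) {h : G}
    (hh : h ∈ A.W β) (hQ : h ∈ A.Q δ) : h ∈ A.Z γ := by
  have hw := hc.1.1
  obtain ⟨g, g0, g1, g3⟩ := A.pair_trans
    (iff_of_true (A.isA_even hw (by omega) hc.2.1 rfl : A.isA (v 2)) hγ) (A.symm (hw 1 (by omega)))
    (hw 2 (by omega)) (hc.1.2 1 (by omega)) h1 h2 hne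
  rw [← g1, A.W_smul_iff] at hh
  rw [← g3, A.Q_smul_iff] at hQ
  rw [← g0, A.Z_smul_iff]
  exact A.hyper hs le_rfl hS h8 hc rfl hh hQ

theorem comm3 {γ β δ δ' : V} (hγ : A.isA γ) (h1 : A.Adj γ β) (h2 : A.Adj γ δ) (h3 : A.Adj γ δ')
    (n1 : β ≠ δ) (n2 : β ≠ δ') (n3 : δ ≠ δ') {h k : G} (hh : h ∈ A.W β) (hh' : h ∉ A.Z γ)
    (hk : k ∈ A.W δ) (hk' : k ∉ A.Z γ) : h * k * h * k ∈ A.O δ' ∧ h * k * h * k ≠ 1 := by
  have hw := hc.1.1
  obtain ⟨g, g0, g1, g3⟩ := A.pair_trans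
    (iff_of_true (A.isA_even hw (by omega) hc.2.1 rfl : A.isA (v 2)) hγ) (A.symm (hw 1 (by omega)))
    (hw 2 (by omega)) (hc.1.2 1 (by omega)) h1 h2 n1
  obtain ⟨w, hw2, -, hw1, hw3, hspec⟩ := A.crit_w hs le_rfl hS h8 hc rfl
  have hkQ : k ∉ A.Q β := fun h => hk' (A.hyper3 hs hS h8 hc hγ h2 h1 n1.symm hk h)
  have hhQ : h ∉ A.Q δ := fun e => hh' (A.hyper3 hs hS h8 hc hγ h1 h2 n1 hh e)
  rw [← g1, A.W_smul_iff] at hh
  rw [← g3, A.W_smul_iff] at hk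
  have e := (hspec _ hh _ hk).2 (fun e => hhQ (by rw [← g3, A.Q_smul_iff]; exact e))
    (fun e => hkQ (by rw [← g1, A.Q_smul_iff]; exact e))
  have e' : h * k * h * k = g * w * g⁻¹ := by rw [← e]; group
  have hW' : g * w * g⁻¹ ∈ A.Z γ := g0 ▸ A.Z_conj hw2
  rw [e']
  refine ⟨?_, fun he => hw1 (by rw [conj_eq_one_iff.mp he]; exact one_mem _)⟩
  rcases A.Z_cases hS hγ h1 h2 h3 n1 n2 n3 hW' with q | q | q
  · rw [← g1, A.O_conj_iff] at q; exact absurd q hw1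
  · rw [← g3, A.O_conj_iff] at q; exact absurd q hw3
  · exact q

theorem exists_W_notZ {γ κ : V} (hγ : A.isA γ) (h : A.Adj γ κ) : ∃ (α : V) (k : G),
    A.Adj κ α ∧ α ≠ γ ∧ k ∈ A.Z α ∧ k ∉ A.O κ ∧ k ∈ A.W κ ∧ k ∉ A.Z γ := by
  have hκ := A.notA_of h hγ
  obtain ⟨α, hα, hne⟩ := A.other_one (A.symm h)
  obtain ⟨k, hk, hk'⟩ := A.exists_rep_Z (A.symm hα) (A.isA_of_not hα hκ)
  exact ⟨α, k, hα, hne, hk, hk', A.Z_le_W hα hk, A.rep_not_mem hs le_rfl hS hκ (A.symm h) hα hne.symm hk hk'⟩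

theorem L1 {γ β : V} (hγ : A.isA γ) (h1 : A.Adj γ β) :
    ∃ l ∈ A.Q β, l ∉ A.Q γ ∧ ∀ x ∈ A.C β, x⁻¹ * (l * x * l⁻¹) ∈ A.W β := by
  have hβ := A.notA_of h1 hγ
  obtain ⟨δ, h2, hne⟩ := A.other_one h1
  obtain ⟨α, e, hα, -, he, -, heW, heZ⟩ := A.exists_W_notZ hs hS h8 hc hγ h2
  have hδ := A.notA_of h2 hγ
  have heγ : e ∈ A.Q γ := A.W_le_Q_nbr hs le_rfl hδ (A.symm h2) heW
  have heβ : e • β = β := A.fix h1 heγ
  let N := A.actTrivOn β (A.C β) (A.W β) (fun g hg q hq => A.C_conj hg hq) (fun g hg u hu => A.W_conj hg hu)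
  have heN : e ∈ N := by
    refine ⟨heβ, fun c hc' => A.Z_le_W (A.symm h1) ?_⟩
    have hC : c⁻¹ * (e * c * e⁻¹) ∈ A.C β := mul_mem (inv_mem hc') (A.C_conj heβ hc')
    refine A.hyper3 hs hS h8 hc hγ h2 h1 hne ?_ hC.1
    have hcγ := A.C_le_Q (A.symm h1) hβ hc'
    have := mul_mem (A.W_conj (inv_smul_eq_iff.mpr (A.fix h2 hcγ).symm) heW) (inv_mem heW)
    rwa [show c⁻¹ * e * c⁻¹⁻¹ * e⁻¹ = c⁻¹ * (e * c * e⁻¹) by group] at this
  have heQ : e ∉ A.Q β := fun h => heZ (A.hyper3 hs hS h8 hc hγ h2 h1 hne heW h)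
  obtain ⟨d, hdN, hrot⟩ := A.exists_rot_of_cover (A.symm h1) N (fun g hg n hn => A.actTrivOn_conj hg hn)
    heN heβ heγ.1 heQ
  by_contra hcon
  push Not at hcon
  have hall : ∀ l ∈ N, l ∈ A.Q β → ∀ ν, A.Adj β ν → l ∈ A.Q ν := by
    intro l hl hlQ ν hν
    obtain ⟨g, g0, g1⟩ := A.trans (A.symm h1) hν
    rw [← g1, A.Q_smul_iff]
    by_contra hl'
    obtain ⟨x, hx, hxW⟩ := hcon _ (A.Q_conj' g0 hlQ) hl'
    refine hxW ?_
    have := (A.actTrivOn_conj (g := g⁻¹) (inv_smul_eq_iff.mpr g0.symm) hl).2 x hx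
    simpa [mul_assoc] using this
  obtain ⟨α', α'', hα', hα'', m1, m2, m3, -⟩ := A.other (A.symm h1)
  obtain ⟨q, hq, hqγ, hqα⟩ := A.DB hs le_rfl hS h8 (A.symm h1) hα' m1.symm hβ
  have hn : q⁻¹ * (d * q * d⁻¹) ∈ A.C β := by
    have hnQ : q⁻¹ * (d * q * d⁻¹) ∈ A.Q β := mul_mem (inv_mem hq) (A.Q_conj hrot.1 hq)
    have hnN : q⁻¹ * (d * q * d⁻¹) ∈ N := by
      have := mul_mem (A.actTrivOn_conj (g := q⁻¹) (inv_smul_eq_iff.mpr hq.1.symm) hdN) (inv_mem hdN)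
      rwa [show q⁻¹ * d * q⁻¹⁻¹ * d⁻¹ = q⁻¹ * (d * q * d⁻¹) by group] at this
    exact A.mem_C_of_two hs le_rfl hS h8 (A.symm h1) hα' m1.symm hβ
      (hall _ hnN hnQ _ (A.symm h1)) (hall _ hnN hnQ _ hα')
  have h3 : d * q * d⁻¹ ∈ A.Q γ := by
    have := mul_mem hqγ (A.C_le_Q (A.symm h1) hβ hn)
    rwa [mul_inv_cancel_left] at this
  have h4 : d * q * d⁻¹ ∈ A.Q (d • γ) := (A.Q_smul_iff d γ _).mpr (by simpa [mul_assoc] using hqγ)
  have h5 := A.mem_C_of_two hs le_rfl hS h8 (A.symm h1) (A.adj_of_fix hrot.1 (A.symm h1))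
    (hrot.2.2 γ (A.symm h1)).symm hβ h3 h4
  have h6 := mul_mem h5 (inv_mem hn)
  rw [show d * q * d⁻¹ * (q⁻¹ * (d * q * d⁻¹))⁻¹ = q by group] at h6
  exact hqα (A.C_le_Q hα' hβ h6)

theorem L2 {γ β δ δ' : V} (hγ : A.isA γ) (h1 : A.Adj γ β) (h2 : A.Adj γ δ) (h3 : A.Adj γ δ')
    (n1 : β ≠ δ) (n2 : β ≠ δ') (n3 : δ ≠ δ') {x : G} (hx1 : x ∈ A.C β) (hx2 : x ∈ A.C δ) :
    x ∈ A.C δ' := by
  have hβ := A.notA_of h1 hγ
  have hδ := A.notA_of h2 hγ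
  have hδ' := A.notA_of h3 hγ
  obtain ⟨α, k, hα, hαγ, hk, hk', hkW, hkZ⟩ := A.exists_W_notZ hs hS h8 hc hγ h3
  have hkγ : k ∈ A.Q γ := A.W_le_Q_nbr hs le_rfl hδ' (A.symm h3) hkW
  have hkinv : k⁻¹ = k := A.Z_inv hk
  have hQγ : ∀ {y : G}, y ∈ A.C β → y ∈ A.Q γ := fun hy => A.C_le_Q (A.symm h1) hβ hy
  have hη : ∀ y ∈ A.C β, y * k * y⁻¹ * k ∈ A.Z γ := by
    intro y hy
    refine A.hyper3 hs hS h8 hc hγ h3 h1 n2.symm (mul_mem (A.W_conj (A.fix h3 (hQγ hy)) hkW) hkW) ?_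
    have := mul_mem hy (A.C_conj (A.fix h1 hkγ) (inv_mem hy))
    rw [hkinv] at this
    rw [show y * k * y⁻¹ * k = y * (k * y⁻¹ * k) by group]
    exact this.1
  have hhom : ∀ y ∈ A.C β, ∀ z ∈ A.C β,
      (y * z) * k * (y * z)⁻¹ * k = (z * k * z⁻¹ * k) * (y * k * y⁻¹ * k) := by
    intro y hy z hz
    have hcm : Commute y (z * k * z⁻¹ * k) := A.Z_central (hη z hz) (hQγ hy)
    calc y * z * k * (y * z)⁻¹ * k = y * (z * k * z⁻¹ * k) * k⁻¹ * y⁻¹ * k := by group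
      _ = (z * k * z⁻¹ * k) * y * k⁻¹ * y⁻¹ * k := by rw [hcm.eq]
      _ = _ := by rw [hkinv]; group
  -- no value in `O δ'` other than one
  have final : ∀ y ∈ A.C β, y ∈ A.C δ → y * k * y⁻¹ * k ∈ A.O δ' → y * k * y⁻¹ * k = 1 := by
    intro y hy hy2 hval
    by_contra hne
    obtain ⟨l, hl, hlγ, hlC⟩ := A.L1 hs hS h8 hc hγ h1
    have hlfix : l • γ = γ := A.fix (A.symm h1) hl
    have hlδ : l • δ = δ' := A.swap_eq h1 h2 h3 n1.symm n2.symm n3 hlfix hl.1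
      (A.move h1 h2 n1.symm hlfix hl.1 hlγ)
    have hy1' : l * y * l⁻¹ ∈ A.C δ' := hlδ ▸ A.C_conj_mem hy2
    set w := y⁻¹ * (l * y * l⁻¹) with hw
    have hwW : w ∈ A.W β := hlC y hy
    have e : w * k * w * k = y * k * y⁻¹ * k := by
      have e1 : w * k * w⁻¹ = y⁻¹ * k * y := by
        calc w * k * w⁻¹ = y⁻¹ * ((l * y * l⁻¹) * k) * (l * y * l⁻¹)⁻¹ * y := by rw [hw]; group
          _ = y⁻¹ * k * y := by rw [(A.C_comm hy1' hkW).eq]; group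
      have e2 := hhom y⁻¹ (inv_mem hy) y hy
      rw [inv_mul_cancel, one_mul, inv_one, mul_one, inv_inv, A.Z_sq hk] at e2
      calc w * k * w * k = w * k * w⁻¹ * k := by rw [A.W_inv hs le_rfl hβ hwW]
        _ = y⁻¹ * k * y * k := by rw [e1]
        _ = (y * k * y⁻¹ * k)⁻¹ := eq_inv_of_mul_eq_one_right e2.symm
        _ = y * k * y⁻¹ * k := A.Z_inv (hη y hy)
    by_cases hwZ : w ∈ A.Z γ
    · refine hne ?_
      rw [← e, (A.Z_central hwZ hkγ).symm.eq, show k * w * w * k = k * (w * w) * k by group, A.Z_sq hwZ,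
        mul_one, A.Z_sq hk]
    · obtain ⟨h4, -⟩ := A.comm3 hs hS h8 hc hγ h1 h3 h2 n2 n1 n3.symm hwW hwZ hkW hkZ
      rw [e] at h4
      exact hne (A.disjoint_O h2 hγ h3 n3 h4 hval)
  -- invariance
  obtain ⟨t, htγ, htδ', htQ⟩ := A.exists_notQ h3
  have tβ : t • β = δ := A.swap_eq h3 h1 h2 n2 n3 n1 htγ htδ' (A.move h3 h1 n2 htγ htδ' htQ)
  have tδ : t • δ = β := A.swap_eq h3 h2 h1 n3 n2 n1.symm htγ htδ' (A.move h3 h2 n3 htγ htδ' htQ)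
  have hy' : t * x * t⁻¹ ∈ A.C β ∧ t * x * t⁻¹ ∈ A.C δ :=
    ⟨tδ ▸ A.C_conj_mem hx2, tβ ▸ A.C_conj_mem hx1⟩
  set x' := t * x * t⁻¹ with hx'def
  have hval : t * (x * k * x⁻¹ * k) * t⁻¹ = x' * k * x'⁻¹ * k := by
    have hk2 : t * k * t⁻¹ ∈ A.W δ' := A.W_conj htδ' hkW
    have hk2Z : t * k * t⁻¹ ∉ A.Z γ := fun h => hkZ (by
      have := A.Z_conj_fix (inv_smul_eq_iff.mpr htγ.symm) h
      simpa [mul_assoc] using this)
    have hz := (A.W_two' hs le_rfl hS h8 (A.symm h3) hα hαγ.symm hδ' hk hk' hk2).resolve_left hk2Z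
    set z := t * k * t⁻¹ * k with hzdef
    have ek : t * k * t⁻¹ = z * k := by rw [hzdef, mul_assoc (t * k * t⁻¹) k k, A.Z_sq hk, mul_one]
    have c1 : Commute x' z := A.Z_central hz (hQγ hy'.1)
    have c2 : Commute k z := A.Z_central hz hkγ
    calc t * (x * k * x⁻¹ * k) * t⁻¹ = x' * (t * k * t⁻¹) * x'⁻¹ * (t * k * t⁻¹) := by
          rw [hx'def]; group
      _ = x' * (z * k) * x'⁻¹ * (z * k) := by rw [ek]
      _ = z * x' * k * (x'⁻¹ * z) * k := by rw [← mul_assoc x' z k, c1.eq]; group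
      _ = z * x' * k * (z * x'⁻¹) * k := by rw [c1.inv_left.eq]
      _ = z * x' * (k * z) * x'⁻¹ * k := by group
      _ = z * (x' * z) * k * x'⁻¹ * k := by rw [c2.eq]; group
      _ = (z * z) * (x' * k * x'⁻¹ * k) := by rw [c1.eq]; group
      _ = _ := by rw [A.Z_sq hz, one_mul]
  set c := x * k * x⁻¹ * k with hcdef
  have hone : c = 1 := by
    by_contra hne
    rcases A.Z_cases hS hγ h1 h2 h3 n1 n2 n3 (hη x hx1) with h | h | h
    · have h' : t * c * t⁻¹ ∈ A.O δ := tβ ▸ A.O_conj h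
      obtain ⟨p1, p2⟩ := A.O_three hS hγ h1 h3 h2 n2 n1 n3.symm h hne h'
        (fun e => hne (conj_eq_one_iff.mp e))
      have hcm : Commute c (t * c * t⁻¹) := A.Z_comm (hη x hx1) (A.O_le_Z h2 hγ h')
      rw [hcm.eq, hval, hcdef, ← hhom x hx1 x' hy'.1] at p1 p2
      exact p2 (final _ (mul_mem hx1 hy'.1) (mul_mem hx2 hy'.2) p1)
    · have h' : t * c * t⁻¹ ∈ A.O β := tδ ▸ A.O_conj h
      obtain ⟨p1, p2⟩ := A.O_three hS hγ h2 h3 h1 n3 n1.symm n2.symm h hne h'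
        (fun e => hne (conj_eq_one_iff.mp e))
      have hcm : Commute c (t * c * t⁻¹) := A.Z_comm (hη x hx1) (A.O_le_Z h1 hγ h')
      rw [hcm.eq, hval, hcdef, ← hhom x hx1 x' hy'.1] at p1 p2
      exact p2 (final _ (mul_mem hx1 hy'.1) (mul_mem hx2 hy'.2) p1)
    · exact hne (final x hx1 hx2 h)
  have hxγ := hQγ hx1
  have hxk : Commute x k := by
    refine mul_inv_eq_iff_eq_mul.mp ?_
    rw [eq_inv_of_mul_eq_one_left hone, hkinv]
  refine A.mem_C_of_comm hδ' (A.fix h3 hxγ) fun h hh => ?_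
  rcases A.W_two' hs le_rfl hS h8 (A.symm h3) hα hαγ.symm hδ' hk hk' hh with q | q
  · exact A.Z_central q hxγ
  · have := (A.Z_central q hxγ).mul_right hxk
    rwa [mul_assoc, A.Z_sq hk, mul_one] at this

theorem L3 {γ β δ δ' : V} (hγ : A.isA γ) (h1 : A.Adj γ β) (h2 : A.Adj γ δ) (h3 : A.Adj γ δ')
    (n1 : β ≠ δ) (n2 : β ≠ δ') (n3 : δ ≠ δ') {x : G} (hx1 : x ∈ A.C β) (hx2 : x ∈ A.C δ) :
    x ∈ A.Z γ := by
  classical
  have hβ := A.notA_of h1 hγ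
  let N : Subgroup G :=
    { carrier := {x | x ∈ A.C β ∧ ∀ κ, A.Adj γ κ → x ∈ A.C κ}
      one_mem' := ⟨one_mem _, fun _ _ => one_mem _⟩
      mul_mem' := fun hp hq => ⟨mul_mem hp.1 hq.1, fun κ hκ => mul_mem (hp.2 κ hκ) (hq.2 κ hκ)⟩
      inv_mem' := fun hp => ⟨inv_mem hp.1, fun κ hκ => inv_mem (hp.2 κ hκ)⟩ }
  have hNmem : ∀ a b c : V, A.Adj γ a → A.Adj γ b → A.Adj γ c → a ≠ b → a ≠ c → b ≠ c →
      ∀ y ∈ A.C a, y ∈ A.C b → y ∈ N := by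
    intro a b c ha hb hc' m1 m2 m3 y hya hyb
    have hyc := A.L2 hs hS h8 hc hγ ha hb hc' m1 m2 m3 hya hyb
    have hall : ∀ κ, A.Adj γ κ → y ∈ A.C κ := fun κ hκ => by
      rcases A.three ha hb hc' hκ m1 m2 m3 with rfl | rfl | rfl
      exacts [hya, hyb, hyc]
    exact ⟨hall β h1, hall⟩
  suffices hle : N ≤ A.Z γ from hle (hNmem β δ δ' h1 h2 h3 n1 n2 n3 x hx1 hx2)
  have hNconj : ∀ g : G, g • γ = γ → ∀ y ∈ N, g * y * g⁻¹ ∈ N := by
    intro g hg y hy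
    have hall : ∀ κ, A.Adj γ κ → g * y * g⁻¹ ∈ A.C κ := fun κ hκ => by
      have := A.C_conj_mem (g := g) (hy.2 _ (A.adj_of_fix (inv_smul_eq_iff.mpr hg.symm) hκ))
      rwa [smul_inv_smul] at this
    exact ⟨hall β h1, hall⟩
  have hNQ : N ≤ A.Q γ := fun y hy => A.C_le_Q (A.symm h1) hβ hy.1
  haveI := A.finQ γ
  haveI : Finite ↥N := Finite.of_injective _ (inclusion_injective hNQ)
  have hZN : A.Z γ ≤ N := by
    intro z hz
    have hall : ∀ κ, A.Adj γ κ → z ∈ A.C κ := fun κ hκ => A.mem_C_of_comm (A.notA_of hκ hγ)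
      (A.fix hκ hz.1) fun h hh => A.W_comm hs le_rfl (A.notA_of hκ hγ) (A.Z_le_W (A.symm hκ) hz) hh
    exact ⟨hall β h1, hall⟩
  let M₀ := A.actTrivOn γ N (A.Z γ) hNconj (fun g hg u hu => A.Z_conj_fix hg hu)
  obtain ⟨l, hl, hlγ, hlC⟩ := A.L1 hs hS h8 hc hγ h1
  have hlfix : l • γ = γ := A.fix (A.symm h1) hl
  have hlM : l ∈ M₀ := by
    refine ⟨hlfix, fun y hy => ?_⟩
    have hyN : y⁻¹ * (l * y * l⁻¹) ∈ N := mul_mem (inv_mem hy) (hNconj l hlfix y hy)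
    exact A.hyper3 hs hS h8 hc hγ h1 h2 n1 (hlC y hy.1) (hyN.2 δ h2).1
  obtain ⟨d, hdM, hrot⟩ := A.exists_rot_of_cover h1 M₀ (fun g hg n hn => A.actTrivOn_conj hg hn)
    hlM hlfix hl.1 hlγ
  by_contra hnot
  obtain ⟨n, hn, hnZ, hnfix⟩ := exists_fixed_quotient (A.Q_two γ) ((A.Q_two γ).mono hNQ) hZN
    (fun e => hnot (e ▸ le_rfl)) (fun p hp z hz => A.Z_conj_fix hp.1 hz)
    (fun p hp y hy => hNconj p hp.1 y hy)
  haveI := A.finZ γ
  obtain ⟨u, hu, hdk⟩ := exists_fixed_coset hrot.2.1 (A.Z_two γ) (fun z hz => A.Z_conj_fix hrot.1 hz)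
    (hdM.2 n hn)
  set k := n * u with hkdef
  have hkN : k ∈ N := mul_mem hn (hZN hu)
  have hkQ := hNQ hkN
  have hkZ : k ∉ A.Z γ := fun h => hnZ (by
    have := mul_mem h (inv_mem hu)
    rwa [hkdef, mul_inv_cancel_right] at this)
  have hg : ∀ q ∈ A.Q γ, k⁻¹ * (q * k * q⁻¹) ∈ A.Z γ := by
    intro q hq
    have e : q * u * q⁻¹ = u := by rw [(A.Z_central hu hq).eq, mul_inv_cancel_right]
    rw [hkdef, show (n * u)⁻¹ * (q * (n * u) * q⁻¹) = u⁻¹ * (n⁻¹ * (q * n * q⁻¹)) * (q * u * q⁻¹) by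
      group, e]
    exact mul_mem (mul_mem (inv_mem hu) (hnfix q hq)) hu
  let K : Subgroup G := A.Q γ ⊓ centralizer {k}
  have hKc : ∀ q ∈ K, Commute q k := fun q hq => mem_centralizer_singleton_iff.mp hq.2
  have hKin : ∀ q ∈ A.Q γ, Commute q k → q ∈ K := fun q a b =>
    Subgroup.mem_inf.mpr ⟨a, mem_centralizer_singleton_iff.mpr b.eq⟩
  have hKW : ∀ κ, A.Adj γ κ → A.W κ ≤ K := fun κ hκ h hh => hKin h
    (A.W_le_Q_nbr hs le_rfl (A.notA_of hκ hγ) (A.symm hκ) hh) (A.C_comm (hkN.2 κ hκ) hh).symm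
  have hKN : N ≤ K := by
    intro m hm
    obtain ⟨w, hw, hdm⟩ := exists_fixed_coset hrot.2.1 (A.Z_two γ) (fun z hz => A.Z_conj_fix hrot.1 hz)
      (hdM.2 m hm)
    set m' := m * w with hm'
    have hm'Q : m' ∈ A.Q γ := mul_mem (hNQ hm) (A.Z_le_Q hw)
    have hcm : Commute d (k⁻¹ * (m' * k * m'⁻¹)) :=
      hdk.inv_right.mul_right ((hdm.mul_right hdk).mul_right hdm.inv_right)
    have h1' : Commute m' k := mul_inv_eq_iff_eq_mul.mp
      (inv_mul_eq_one.mp (A.rot_fixed_Z hγ hrot (hg m' hm'Q) hcm)).symm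
    refine hKin m (hNQ hm) ?_
    have := h1'.mul_left ((A.Z_central hw hkQ).symm.inv_left)
    rwa [hm', mul_inv_cancel_right] at this
  have hsame : ∀ p ∈ A.Q γ, ∀ q ∈ A.Q γ,
      (p⁻¹ * q ∈ K ↔ p * k * p⁻¹ = q * k * q⁻¹) := by
    intro p hp q hq
    constructor
    · intro h
      have e := (hKc _ h).eq
      calc p * k * p⁻¹ = p * (k * (p⁻¹ * q)) * (p⁻¹ * q)⁻¹ * p⁻¹ := by group
        _ = p * ((p⁻¹ * q) * k) * (p⁻¹ * q)⁻¹ * p⁻¹ := by rw [e]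
        _ = q * k * q⁻¹ := by group
    · intro h
      refine hKin _ (mul_mem (inv_mem hp) hq) (mul_inv_eq_iff_eq_mul.mp ?_)
      calc p⁻¹ * q * k * (p⁻¹ * q)⁻¹ = p⁻¹ * (q * k * q⁻¹) * p := by group
        _ = k := by rw [← h]; group
  -- reduction into `C a ∩ Q b`
  have red : ∀ a b : V, A.Adj γ a → A.Adj γ b → a ≠ b → ∀ q ∈ A.Q γ, q ∈ A.Q a →
      ∃ r ∈ A.C a, r ∈ A.Q b ∧ r⁻¹ * q ∈ K ∧ r ∈ A.Q γ := by
    intro a b ha hb hab q hq hqa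
    have haB := A.notA_of ha hγ
    have hbB := A.notA_of hb hγ
    obtain ⟨c, hc', m1, m2, -⟩ := A.third ha hb hab
    have hcB := A.notA_of hc' hγ
    obtain ⟨-, va, -, -, -, -, hva, hvaZ⟩ := A.exists_W_notZ hs hS h8 hc hγ ha
    obtain ⟨-, vb, -, -, -, -, hvb, hvbZ⟩ := A.exists_W_notZ hs hS h8 hc hγ hb
    obtain ⟨-, vc, -, -, -, -, hvc, hvcZ⟩ := A.exists_W_notZ hs hS h8 hc hγ hc'
    have fγ : ∀ {κ : V} {h : G}, A.Adj γ κ → h ∈ A.W κ → h ∈ A.Q γ := fun hκ hh =>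
      A.W_le_Q_nbr hs le_rfl (A.notA_of hκ hγ) (A.symm hκ) hh
    set c₀ := vb * vc with hc0
    have hc0K : c₀ ∈ K := mul_mem (hKW b hb hvb) (hKW c hc' hvc)
    have hc0γ : c₀ ∈ A.Q γ := mul_mem (fγ hb hvb) (fγ hc' hvc)
    have hc0a : c₀ ∈ A.Q a := A.two (A.symm ha) (A.fix ha (fγ hb hvb)) (fγ hb hvb).1
      (fun h => hvbZ (A.hyper3 hs hS h8 hc hγ hb ha hab.symm hvb h)) (A.fix ha (fγ hc' hvc)) (fγ hc' hvc).1
      (fun h => hvcZ (A.hyper3 hs hS h8 hc hγ hc' ha m1 hvc h))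
    have hc0C : c₀ ∉ A.C a := by
      intro h
      obtain ⟨p1, p1'⟩ := A.comm3 hs hS h8 hc hγ ha hb hc' hab m1.symm m2.symm hva hvaZ hvb hvbZ
      obtain ⟨p2, p2'⟩ := A.comm3 hs hS h8 hc hγ ha hc' hb m1.symm hab m2 hva hvaZ hvc hvcZ
      have e := (A.C_comm h hva).eq
      have e1 : va * vb * va * vb = va * vc * va * vc := by
        have ea := A.W_inv hs le_rfl haB hva
        have eb := A.W_inv hs le_rfl hbB hvb
        have ec := A.W_inv hs le_rfl hcB hvc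
        have e2 : vb * va * vb = vc * va * vc := by
          calc vb * va * vb = vb * (va * (vb * vc)) * vc⁻¹ := by group
            _ = vb * ((vb * vc) * va) * vc⁻¹ := by rw [← e]
            _ = (vb * vb) * vc * va * vc := by rw [ec]; group
            _ = vc * va * vc := by rw [A.W_sq hs le_rfl hbB hvb, one_mul]
        calc va * vb * va * vb = va * (vb * va * vb) := by group
          _ = va * vc * va * vc := by rw [e2]; group
      rw [e1] at p1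
      exact p2' (A.disjoint_O hb hγ hc' m2.symm p2 p1)
    obtain ⟨α, hα, hαγ⟩ := A.other_one (A.symm ha)
    have step1 : ∃ q₁ ∈ A.C a, q₁⁻¹ * q ∈ K ∧ q₁ ∈ A.Q γ := by
      by_cases hqC : q ∈ A.C a
      · exact ⟨q, hqC, by rw [inv_mul_cancel]; exact one_mem _, hq⟩
      refine ⟨c₀⁻¹ * q, A.mem_C_of_two hs le_rfl hS h8 (A.symm ha) hα hαγ.symm haB
        (mul_mem (inv_mem hc0γ) hq) ?_, ?_, mul_mem (inv_mem hc0γ) hq⟩
      · exact A.two' (A.symm hα) (A.fix hα hc0a) hc0a.1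
          (fun h => hc0C (A.mem_C_of_two hs le_rfl hS h8 (A.symm ha) hα hαγ.symm haB hc0γ h))
          (A.fix hα hqa) hqa.1
          (fun h => hqC (A.mem_C_of_two hs le_rfl hS h8 (A.symm ha) hα hαγ.symm haB hq h))
      · rw [mul_inv_rev, inv_inv, mul_assoc]
        have hqk := hKc _ hc0K
        refine hKin _ (mul_mem (inv_mem hq) (mul_mem hc0γ hq)) (mul_inv_eq_iff_eq_mul.mp ?_)
        have hz := hg q hq
        have hcc : Commute c₀ (q * k * q⁻¹) := by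
          have h' := hqk.mul_right (A.Z_central hz hc0γ)
          rwa [mul_inv_cancel_left] at h'
        calc q⁻¹ * (c₀ * q) * k * (q⁻¹ * (c₀ * q))⁻¹ = q⁻¹ * (c₀ * (q * k * q⁻¹) * c₀⁻¹) * q := by group
          _ = k := by rw [hcc.eq]; group
    obtain ⟨q₁, hq₁, hq₁K, hq₁γ⟩ := step1
    by_cases hb1 : q₁ ∈ A.Q b
    · exact ⟨q₁, hq₁, hb1, hq₁K, hq₁γ⟩
    have hvaC : va ∈ A.C a := A.mem_C_of_comm haB (A.W_fix_self hva) fun h hh => A.W_comm hs le_rfl haB hva hh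
    have hvaK := hKW a ha hva
    refine ⟨va⁻¹ * q₁, mul_mem (inv_mem hvaC) hq₁, A.two' (A.symm hb) (A.fix hb (fγ ha hva)) (fγ ha hva).1
      (fun h => hvaZ (A.hyper3 hs hS h8 hc hγ ha hb hab hva h)) (A.fix hb hq₁γ) hq₁γ.1 hb1, ?_,
      mul_mem (inv_mem (fγ ha hva)) hq₁γ⟩
    rw [mul_inv_rev, inv_inv, mul_assoc]
    have hz := hg q hq
    have hcc : Commute va (q * k * q⁻¹) := by
      have h' := (hKc _ hvaK).mul_right (A.Z_central hz (fγ ha hva))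
      rwa [mul_inv_cancel_left] at h'
    have e := (hsame q₁ hq₁γ q hq).mp hq₁K
    refine hKin _ (mul_mem (inv_mem hq₁γ) (mul_mem (fγ ha hva) hq)) (mul_inv_eq_iff_eq_mul.mp ?_)
    calc q₁⁻¹ * (va * q) * k * (q₁⁻¹ * (va * q))⁻¹ = q₁⁻¹ * (va * (q * k * q⁻¹) * va⁻¹) * q₁ := by group
      _ = k := by rw [hcc.eq, ← e]; group
  have uniq : ∀ a, A.Adj γ a → ∀ p ∈ A.Q γ, p ∈ A.Q a → ∀ q ∈ A.Q γ, q ∈ A.Q a → p ∉ K → q ∉ K →
      p⁻¹ * q ∈ K := by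
    intro a ha p hp hpa q hq hqa hpK hqK
    obtain ⟨b, c, hb, hc', m1, m2, m3, -⟩ := A.other ha
    obtain ⟨r, hr, hrb, hrK, hrγ⟩ := red a b ha hb m1.symm p hp hpa
    obtain ⟨r', hr', hr'b, hr'K, hr'γ⟩ := red a b ha hb m1.symm q hq hqa
    obtain ⟨ε, hε, hεγ⟩ := A.other_one (A.symm hb)
    have inN : ∀ y ∈ A.C a, y ∈ A.Q γ → y ∈ A.Q ε → y ∈ K := fun y hy hy1 hy2 => hKN
      (hNmem a b c ha hb hc' m1.symm m2.symm m3 y hy
        (A.mem_C_of_two hs le_rfl hS h8 (A.symm hb) hε hεγ.symm (A.notA_of hb hγ) hy1 hy2))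
    have hrn : r ∉ A.Q ε := fun h => hpK (by
      have := mul_mem (inN r hr hrγ h) hrK
      rwa [mul_inv_cancel_left] at this)
    have hr'n : r' ∉ A.Q ε := fun h => hqK (by
      have := mul_mem (inN r' hr' hr'γ h) hr'K
      rwa [mul_inv_cancel_left] at this)
    have hrr : r⁻¹ * r' ∈ K := inN _ (mul_mem (inv_mem hr) hr') (mul_mem (inv_mem hrγ) hr'γ)
      (A.two' (A.symm hε) (A.fix hε hrb) hrb.1 hrn (A.fix hε hr'b) hr'b.1 hr'n)
    have := mul_mem (mul_mem (inv_mem hrK) hrr) hr'K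
    rwa [show (r⁻¹ * p)⁻¹ * (r⁻¹ * r') * (r'⁻¹ * q) = p⁻¹ * q by group] at this
  have hall : ∀ q ∈ A.Q γ, q ∈ A.Q β → q ∈ K := by
    intro q hq hqβ
    by_contra hqK
    have hq' : d * q * d⁻¹ ∈ A.Q γ := A.Q_conj hrot.1 hq
    have hq'β : d * q * d⁻¹ ∈ A.Q (d • β) := (A.Q_smul_iff d β _).mpr (by simpa [mul_assoc] using hqβ)
    obtain ⟨r, hr, hrβ, hrK, hrγ⟩ := red (d • β) β (A.adj_of_fix hrot.1 h1) h1 (hrot.2.2 β h1) _ hq' hq'β
    have e1 : r * k * r⁻¹ = d * (q * k * q⁻¹) * d⁻¹ := by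
      rw [(hsame r hrγ _ hq').mp hrK]
      calc d * q * d⁻¹ * k * (d * q * d⁻¹)⁻¹ = d * q * (d⁻¹ * k * d) * q⁻¹ * d⁻¹ := by group
        _ = _ := by rw [mul_assoc d⁻¹ k d, ← hdk.eq, inv_mul_cancel_left]; group
    have hrK' : r ∉ K := fun h => hqK (hKin q hq (mul_inv_eq_iff_eq_mul.mp (by
      rw [(hKc r h).eq, mul_inv_cancel_right] at e1
      calc q * k * q⁻¹ = d⁻¹ * (d * (q * k * q⁻¹) * d⁻¹) * d := by group
        _ = k := by rw [← e1, mul_assoc, ← hdk.eq, inv_mul_cancel_left])))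
    have e2 := (hsame q hq r hrγ).mp (uniq β h1 q hq hqβ r hrγ hrβ hqK hrK')
    rw [e1] at e2
    have hfix : Commute d (q * k * q⁻¹) := mul_inv_eq_iff_eq_mul.mp e2.symm
    exact hqK (hKin q hq (mul_inv_eq_iff_eq_mul.mp
      (inv_mul_eq_one.mp (A.rot_fixed_Z hγ hrot (hg q hq) (hdk.inv_right.mul_right hfix))).symm))
  obtain ⟨-, e, -, -, -, -, he, heZ⟩ := A.exists_W_notZ hs hS h8 hc hγ h2
  have heγ : e ∈ A.Q γ := A.W_le_Q_nbr hs le_rfl (A.notA_of h2 hγ) (A.symm h2) he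
  have hQK : ∀ q ∈ A.Q γ, Commute q k := by
    intro q hq
    refine hKc q ?_
    by_cases hqβ : q ∈ A.Q β
    · exact hall q hq hqβ
    · have := mul_mem (hKW δ h2 he) (hall _ (mul_mem (inv_mem heγ) hq) (A.two' (A.symm h1)
        (A.fix h1 heγ) heγ.1 (fun h => heZ (A.hyper3 hs hS h8 hc hγ h2 h1 n1.symm he h))
        (A.fix h1 hq) hq.1 hqβ))
      rwa [mul_inv_cancel_left] at this
  obtain ⟨j, hj1, hj2⟩ := exists_invol (A.Q_two γ) hkQ (fun h => hkZ (h ▸ one_mem _))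
  exact hj1 (A.rot_fixed_Z hγ hrot ⟨pow_mem hkQ j, hj2, fun q hq => (hQK q hq).pow_right j⟩
    (hdk.pow_right j))

theorem bound_three {γ β : V} (h : A.Adj γ β) (hγ : A.isA γ) :
    Nat.card ↥(E (G := G) γ β) ≤ 128 := by
  classical
  have hβ := A.notA_of h hγ
  obtain ⟨δ, δ', h2, h3, n1, n2, n3, -⟩ := A.other h
  obtain ⟨ε, hε, hεγ⟩ := A.other_one (A.symm h2)
  haveI := A.finQ β
  haveI := A.finZ γ
  have hδ := A.notA_of h2 hγ
  let H : Subgroup G := A.C β ⊓ A.Q δ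
  have hCQ : A.C β ≤ A.Q β := fun q hq => hq.1
  haveI : Finite ↥(A.C β) := Finite.of_injective _ (inclusion_injective hCQ)
  haveI : Finite ↥H := Finite.of_injective _ (inclusion_injective (show H ≤ A.C β from inf_le_left))
  have hHγ : ∀ q ∈ A.C β, q ∈ A.Q γ := fun q hq => A.C_le_Q (A.symm h) hβ hq
  have hZ4 : Nat.card ↥(A.Z γ) ≤ 4 := by
    have := A.card_Z_le h h2 n1.symm hγ
    rw [hS β hβ, hS δ hδ] at this
    exact this
  have cH : Nat.card ↥H ≤ 2 * Nat.card ↥(A.Z γ) := by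
    refine (card_le_two_mul H (A.Z γ) fun p hp q hq hpZ hqZ => ?_).2
    have inZ : ∀ y ∈ A.C β, y ∈ A.Q ε → y ∈ A.Z γ := fun y hy hy2 =>
      A.L3 hs hS h8 hc hγ h h2 h3 n1.symm n2.symm n3 hy
        (A.mem_C_of_two hs le_rfl hS h8 (A.symm h2) hε hεγ.symm hδ (hHγ y hy) hy2)
    exact inZ _ (mul_mem (inv_mem hp.1) hq.1) (A.two' (A.symm hε) (A.fix hε hp.2) hp.2.1
      (fun e => hpZ (inZ p hp.1 e)) (A.fix hε hq.2) hq.2.1 (fun e => hqZ (inZ q hq.1 e)))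
  have cC : Nat.card ↥(A.C β) ≤ 2 * Nat.card ↥H := by
    refine (card_le_two_mul (A.C β) H fun p hp q hq hpH hqH =>
      Subgroup.mem_inf.mpr ⟨mul_mem (inv_mem hp) hq, ?_⟩).2
    exact A.two' (A.symm h2) (A.fix h2 (hHγ p hp)) (hHγ p hp).1 (fun e => hpH ⟨hp, e⟩)
      (A.fix h2 (hHγ q hq)) (hHγ q hq).1 (fun e => hqH ⟨hq, e⟩)
  obtain ⟨α, α', hα, hα', m1, m2, m3, -⟩ := A.other (A.symm h)
  have cQ : Nat.card ↥(A.Q β) ≤ 4 * Nat.card ↥(A.C β) := by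
    have := (card_le_mul_of_fibres (A.Q β) (A.C β)
      (fun q => (decide ((q : G) ∈ A.Q α), decide ((q : G) ∈ A.Q α'))) (by
        intro p q hpq
        simp only [Prod.mk.injEq, decide_eq_decide] at hpq
        have key : ∀ a, A.Adj β a → ((p : G) ∈ A.Q a ↔ (q : G) ∈ A.Q a) → (p : G)⁻¹ * q ∈ A.Q a := by
          intro a ha e
          by_cases hp : (p : G) ∈ A.Q a
          · exact mul_mem (inv_mem hp) (e.mp hp)
          · exact A.two' (A.symm ha) (A.fix ha p.2) p.2.1 hp (A.fix ha q.2) q.2.1 fun h => hp (e.mpr h)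
        exact A.mem_C_of_two hs le_rfl hS h8 hα hα' m3 hβ (key α hα hpq.1) (key α' hα' hpq.2))).2
    simpa using this
  have cE := A.card_edge_le (A.symm h)
  have eE : E (G := G) β γ = E (G := G) γ β := inf_comm _ _
  rw [eE] at cE
  omega

end

end Geo

end CfsgLib.A33
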