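import Cfsg.Agent.Lib.Amalgam33.Sixteen

/-!
Odd critical distance: the large `W` is impossible, the main argument.
-/

set_option autoImplicit false
set_option linter.style.haveILetI false
set_option linter.unusedSectionVars false
set_option maxHeartbeats 1000000

namespace CfsgLib.A33

open Subgroup

namespace Geo

variable {G : Type*} [Group G] {V : Type*} [MulAction G V] (A : Geo G V)

section
variable {b : ℕ} (hs : A.Short b) (hS : A.Small) (h8 : ¬ A.Eight) {v : ℕ → V} (hc : A.Crit b v)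
  (hodd : b % 2 = 1) (h5 : 5 ≤ b)
include hs hS h8 hc hodd h5

theorem card_W_ge {β : V} (hβ : ¬ A.isA β) : 16 ≤ Nat.card ↥(A.W β) := by
  have hb : 3 ≤ b := by omega
  obtain ⟨α, γ, δ, h1, h2, h3, h4, h5', h6, -⟩ := A.nbrs β
  haveI := A.finW β
  have hαA := A.isA_of_not h1 hβ
  obtain ⟨x, hx, hx'⟩ := A.exists_rep_Z (A.symm h2) (A.isA_of_not h2 hβ)
  obtain ⟨w, hw, hw'⟩ := A.exists_rep_Z (A.symm h3) (A.isA_of_not h3 hβ)
  obtain ⟨g, hg, hg'⟩ := A.exists_rep_Z (A.symm h1) hαA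
  have hxW := A.Z_le_W h2 hx
  let T := adjoin (A.Z α) x
    (fun t ht => by rwa [(A.W_comm hs hb hβ hxW (A.Z_le_W h1 ht)).eq, mul_inv_cancel_right])
    (by rw [A.Z_sq hx]; exact one_mem _)
  have hTW : T ≤ A.W β := adjoin_le (A.Z_le_W h1) hxW
  haveI : Finite ↥T := Finite.of_injective _ (inclusion_injective hTW)
  have e1 : 2 * Nat.card ↥(A.Z α) ≤ Nat.card ↥T :=
    two_mul_card_le le_adjoin self_mem_adjoin (A.rep_not_mem hs hb hS hβ h1 h2 h4 hx hx')
  have hwT : w ∉ T := by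
    rintro (h | h)
    · exact A.rep_not_mem hs hb hS hβ h1 h3 h5' hw hw' h
    · refine A.isN_not_mem_Z hs hb hS h8 hβ h1 (n := w * x * g)
        ⟨δ, γ, α, w, x, g, h3, h2, h1, h6.symm, h5'.symm, h4.symm, hw, hw', hx, hx', hg, hg', rfl⟩ ?_
      exact mul_mem h hg
  have e2 : 2 * Nat.card ↥T ≤ Nat.card ↥(A.W β) := two_mul_card_le hTW (A.Z_le_W h3 hw) hwT
  obtain ⟨β', hβ', hne⟩ := A.other_one (A.symm h1)
  have e3 := A.card_Z_ge (A.symm h1) hβ' hne.symm hαA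
  rw [hS β hβ, hS β' (A.notA_of hβ' hαA)] at e3
  omega

theorem not_tr_sixteen (hT : A.Tr (b + 1)) : False := by
  have hb : 3 ≤ b := by omega
  have hw := hc.1.1
  have hB := A.odd_Bb hs hb hc hodd
  have hB1 := A.odd_B1 hs hb hc hodd
  have hπA := A.odd_Ab hs hb hc hodd
  have h12 := hw 1 (by omega)
  have h23 := hw 2 (by omega)
  have h2A : A.isA (v 2) := A.isA_even hw (by omega) hc.2.1 rfl
  obtain ⟨μ, hμ, hμne, hnle⟩ := A.back hs hb hc hodd
  obtain ⟨a, ha, haQ⟩ := SetLike.not_le_iff_exists.mp hc.2.2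
  obtain ⟨e, he, heQ⟩ := SetLike.not_le_iff_exists.mp hnle
  obtain ⟨hRW, hRW', hRZ, g₀, hg₀, hN⟩ := A.R_isN hs hb hS h8 hc hodd hμ hμne ha haQ he heQ
  -- the same from the other end
  obtain ⟨-, -, hRZ', g₁, hg₁, hN'⟩ := A.R_isN hs hb hS h8 (A.rev_crit hs hb hS hc hodd hμ hμne hnle)
    hodd (μ := v 0) (a := e) (e := a)
    (by
      rw [cons_pos _ _ (show 1 ≤ b by omega), show b - (b - 1) = 1 by omega]
      exact A.symm (hw 0 (by omega)))
    (by
      rw [cons_pos _ _ (show 1 ≤ b - 1 by omega), show b - (b - 1 - 1) = 2 by omega]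
      exact hc.1.2 0 (by omega))
    he (by rw [cons_pos _ _ (show 1 ≤ b by omega), show b - (b - 1) = 1 by omega]; exact heQ) ha
    (by simpa using haQ)
  have eR : e * a * e * a = a * e * a * e := by
    have h := A.W_inv hs hb hB1 hRW
    rw [mul_inv_rev, mul_inv_rev, mul_inv_rev, A.Z_inv ha, A.Z_inv he] at h
    rw [← h]; group
  simp only [cons_succ, Nat.sub_zero] at hRZ' hg₁ hN'
  rw [eR] at hRZ' hN'
  set R := a * e * a * e with hR
  set n' := R * g₁ with hn'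
  -- the vertices around `v (b-1)`
  have hπb : A.Adj (v (b - 1)) (v b) := A.symm (A.adj_prev hw (by omega) le_rfl)
  have hπp : A.Adj (v (b - 1)) (v (b - 2)) := by
    have := A.adj_prev hw (show 1 ≤ b - 1 by omega) (by omega)
    rwa [show b - 1 - 1 = b - 2 by omega] at this
  have hne : v b ≠ v (b - 2) := by
    have := hc.1.2 (b - 2) (by omega)
    rw [show b - 2 + 2 = b by omega] at this
    exact this.symm
  obtain ⟨θ, hθ, hθ1, hθ2, hall⟩ := A.third hπp hπb hne.symm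
  have hθB := A.notA_of hθ hπA
  have e1 : v (1 + (b - 2)) = v (b - 1) := by congr 1; omega
  have e2 : v (1 + (b - 2 - 1)) = v (b - 2) := by congr 1; omega
  obtain ⟨t, htfix, htθ⟩ := A.ext_swap (Tr.mono A hT (show b - 2 + 1 ≤ b + 1 by omega))
    (IsPath.mono A (IsPath.drop A hc.1 1) (show b - 2 ≤ b - 1 by omega)) (by omega)
    (y := v b) (y' := θ) (by rwa [e1]) (by rwa [e2]) (by rwa [e1]) (by rwa [e2])
  have t1 : t • v 1 = v 1 := by simpa using htfix 0 (by omega)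
  have t2 : t • v 2 = v 2 := by simpa using htfix 1 (by omega)
  have tπ : t • v (b - 1) = v (b - 1) := by
    have := htfix (b - 2) le_rfl
    rwa [e1] at this
  set nθ := t * n' * t⁻¹ with hnθ
  have hnθN : A.IsN θ nθ := htθ ▸ IsN.conj A hN'
  -- `W` at the two ends commute
  have hcomm : ∀ p ∈ A.W (v b), ∀ q ∈ A.W θ, Commute p q := by
    intro p hp q hq
    have hle : A.W θ ≤ centralizer {p} := A.W_le fun ν' hν' z' hz' => by
      have hle2 : A.W (v b) ≤ centralizer {z'} := A.W_le fun ν hν z hz => by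
        have hwk : A.IsWalk (0 + 1 + 1 + 1 + 1)
            (cons ν' (cons θ (cons (v (b - 1)) (cons (v b) fun _ => ν)))) :=
          A.isWalk_cons (by simpa using A.symm hν') (A.isWalk_cons (by simpa using A.symm hθ)
            (A.isWalk_cons (by simpa using hπb) (A.isWalk_cons hν fun k hk => absurd hk (by omega))))
        have := A.seg hs hwk (i := 0) (j := 0 + 1 + 1 + 1 + 1) (by omega) le_rfl (by omega) (by omega)
          (by simpa using A.isA_of_not hν' hθB) (show z' ∈ _ by simpa using hz')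
        refine mem_centralizer_singleton_iff.mpr (A.Z_central hz ?_).eq.symm
        simpa using this
      exact mem_centralizer_singleton_iff.mpr (mem_centralizer_singleton_iff.mp (hle2 hp)).symm
    exact (mem_centralizer_singleton_iff.mp (hle hq)).symm
  have hZπb : A.Z (v (b - 1)) ≤ A.W (v b) := A.Z_le_W (A.symm hπb)
  have hn'W := IsN.mem_W A hN'
  let T := adjoin (A.Z (v (b - 1))) n'
    (fun z hz => by rwa [(A.W_comm hs hb hB hn'W (hZπb hz)).eq, mul_inv_cancel_right])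
    (by rw [A.W_sq hs hb hB hn'W]; exact one_mem _)
  have hTW : T ≤ A.W (v b) := adjoin_le hZπb hn'W
  let Y := adjoin T nθ
    (fun z hz => by
      rwa [← (hcomm z (hTW hz) nθ (IsN.mem_W A hnθN)).eq, mul_inv_cancel_right])
    (by rw [A.W_sq hs hb hθB (IsN.mem_W A hnθN)]; exact one_mem _)
  have hZY : A.Z (v (b - 1)) ≤ Y := fun z hz => Or.inl (Or.inl hz)
  have hn'Y : n' ∈ Y := Or.inl (self_mem_adjoin)
  have hnθY : nθ ∈ Y := self_mem_adjoin
  -- the element `ζ`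
  set R' := t * R * t⁻¹ with hR'
  have hR'W : R' ∈ A.W θ := htθ ▸ A.W_conj_mem hRW'
  have hRn : R = n' * g₁ := by rw [hn', mul_assoc, A.Z_sq hg₁, mul_one]
  set ζ := R * R' with hζ
  have hζY : ζ ∈ Y := by
    refine mul_mem ?_ ?_
    · rw [hRn]; exact mul_mem hn'Y (hZY hg₁)
    · rw [hR', hRn, show t * (n' * g₁) * t⁻¹ = nθ * (t * g₁ * t⁻¹) by rw [hnθ]; group]
      exact mul_mem hnθY (hZY (A.Z_conj_fix tπ hg₁))
  have hζ2 : ζ ∈ A.Z (v 2) := by
    set m := R * g₀ with hm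
    have hm2 : A.IsN (v 1) (t * m * t⁻¹) := IsN.conj_fix A hN t1
    have hRm : R = m * g₀ := by rw [hm, mul_assoc, A.Z_sq hg₀, mul_one]
    have ec : g₀ * (t * m * t⁻¹) = (t * m * t⁻¹) * g₀ :=
      (A.W_comm hs hb hB1 (A.Z_le_W h12 hg₀) (IsN.mem_W A hm2)).eq
    rw [hζ, hR', hRm, show m * g₀ * (t * (m * g₀) * t⁻¹) =
      m * (g₀ * (t * m * t⁻¹)) * (t * g₀ * t⁻¹) by group, ec,
      show m * (t * m * t⁻¹ * g₀) * (t * g₀ * t⁻¹) = (m * (t * m * t⁻¹)) * (g₀ * (t * g₀ * t⁻¹)) by group]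
    exact mul_mem (A.O_le_Z (A.symm h12) h2A (A.conj_mul_mem_O hs hb hS hB1 hN t1))
      (mul_mem hg₀ (A.Z_conj_fix t2 hg₀))
  have hζπ : ζ ∉ A.Z (v (b - 1)) := by
    intro h
    refine A.VV hs hb hS h8 hπA hπb hθ hθ2.symm hRW' ?_ hRZ'
    have := mul_mem (A.Z_le_W (A.symm hθ) h) (inv_mem hR'W)
    rwa [hζ, mul_inv_cancel_right] at this
  -- normalisers of `Y`
  have hnorm : ∀ g : G, g • v (b - 2) = v (b - 2) → g • v (b - 1) = v (b - 1) → g • v b = v b →
      ∀ y ∈ Y, g * y * g⁻¹ ∈ Y := by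
    intro g g2 g1 g0 y hy
    have gθ : g • θ = θ := A.fix hθ (A.mem_Q_of_two hπp hπb hne.symm g1 g2 g0)
    have hle : Y ≤ Y.comap (MulAut.conj g).toMonoidHom := by
      refine adjoin_le (adjoin_le (fun z hz => hZY (A.Z_conj_fix g1 hz)) ?_) ?_
      · rw [Subgroup.mem_comap]
        show g * n' * g⁻¹ ∈ Y
        have := mul_mem (inv_mem hn'Y) (hZY (A.O_le_Z hπb hπA (A.conj_mul_mem_O hs hb hS hB hN' g0)))
        rwa [inv_mul_cancel_left] at this
      · rw [Subgroup.mem_comap]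
        show g * nθ * g⁻¹ ∈ Y
        have := mul_mem (inv_mem hnθY) (hZY (A.O_le_Z hθ hπA (A.conj_mul_mem_O hs hb hS hθB hnθN gθ)))
        rwa [inv_mul_cancel_left] at this
    exact hle hy
  -- flips fixing the final segment
  have flip : ∀ j, 2 ≤ j → j + 2 ≤ b → ∀ z, A.Adj (v j) z → z ≠ v (j + 1) →
      ∃ g : G, (∀ k, j ≤ k → k ≤ b → g • v k = v k) ∧ g • v (j - 1) = z ∧
        ∀ y ∈ Y, g * y * g⁻¹ ∈ Y := by
    intro j hj hjb z hz hz1
    have hp : A.IsPath (b - j) (fun k => v (b - k)) := IsPath.mono A (IsPath.reverse A hc.1) (by omega)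
    obtain ⟨g, hg, hgz⟩ := A.ext_swap (Tr.mono A hT (show b - j + 1 ≤ b + 1 by omega)) hp (by omega)
      (y := v (j - 1)) (y' := z)
      (by rw [show b - (b - j) = j by omega]; exact A.adj_prev hw (by omega) (by omega))
      (by
        rw [show b - (b - j - 1) = j + 1 by omega]
        have := hc.1.2 (j - 1) (by omega)
        rwa [show j - 1 + 2 = j + 1 by omega] at this)
      (by rwa [show b - (b - j) = j by omega]) (by rwa [show b - (b - j - 1) = j + 1 by omega])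
    have hgfix : ∀ k, j ≤ k → k ≤ b → g • v k = v k := fun k h1 h2 => by
      have := hg (b - k) (by omega)
      rwa [show b - (b - k) = k by omega] at this
    exact ⟨g, hgfix, hgz, hnorm g (hgfix _ (by omega) (by omega)) (hgfix _ (by omega) (by omega))
      (hgfix _ (by omega) le_rfl)⟩
  have hO3B : ¬ A.isA (v 3) := A.notA_odd hw (by omega) hc.2.1 rfl
  have h13 : v 1 ≠ v 3 := hc.1.2 1 (by omega)
  obtain ⟨p, hp, q, hq, hζe⟩ := A.Z_split (A.symm h12) h2A h23 h13 hζ2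
  -- the centre at `v 3` lies in `Y`
  have hO3 : A.O (v 3) ≤ Y := by
    by_cases hp1 : p = 1
    · rw [hp1, one_mul] at hζe
      exact A.O_le_of_one hS hO3B hq (fun h => hζπ (by rw [hζe, h]; exact one_mem _)) (hζe ▸ hζY)
    obtain ⟨β'', hβ'', n1, n2, -⟩ := A.third (A.symm h12) h23 h13
    obtain ⟨g, hgfix, hgz, hgY⟩ := flip 2 le_rfl (by omega) β'' hβ'' n2
    have hpg : g * p * g⁻¹ ∈ A.O β'' := hgz ▸ A.O_conj hp
    obtain ⟨h3, h4⟩ := A.O_three hS h2A (A.symm h12) h23 hβ'' h13 n1.symm n2.symm hp hp1 hpg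
      (fun h => hp1 (conj_eq_one_iff.mp h))
    refine A.O_le_of_one hS hO3B h3 h4 ?_
    have h5' := mul_mem hζY (hgY _ hζY)
    have g3 : g * q * g⁻¹ = q := by
      rw [(A.O_central hq (hgfix 3 (by omega) (by omega))).eq, mul_inv_cancel_right]
    have hp'3 : g * p * g⁻¹ ∈ A.Z (v 2) := A.O_le_Z hβ'' h2A hpg
    have hq3 : q ∈ A.Z (v 2) := A.O_le_Z h23 h2A hq
    rwa [hζe, show g * (p * q) * g⁻¹ = (g * p * g⁻¹) * (g * q * g⁻¹) by group, g3,
      (A.Z_comm hp'3 hq3).eq, show p * q * (q * (g * p * g⁻¹)) = p * (q * q) * (g * p * g⁻¹) by group,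
      A.O_sq hq, mul_one] at h5'
  have grow : ∀ j, 2 ≤ j → j + 2 ≤ b → j % 2 = 0 → A.O (v (j - 1)) ≤ Y → A.Z (v j) ≤ Y := by
    intro j hj hjb hje hO
    have hjA : A.isA (v j) := A.isA_even hw (by omega) hc.2.1 hje
    have hjm : A.Adj (v j) (v (j - 1)) := A.adj_prev hw (by omega) (by omega)
    have hjp : A.Adj (v j) (v (j + 1)) := hw j (by omega)
    have hne' : v (j - 1) ≠ v (j + 1) := by
      have := hc.1.2 (j - 1) (by omega)
      rwa [show j - 1 + 2 = j + 1 by omega] at this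
    obtain ⟨z, hz, n1, n2, -⟩ := A.third hjm hjp hne'
    obtain ⟨g, hgfix, hgz, hgY⟩ := flip j hj hjb z hz n2
    refine A.Z_le_of hjA hjm hz n1.symm hO fun d hd => ?_
    rw [← hgz, A.O_smul_iff] at hd
    have := hgY _ (hO hd)
    rwa [show g * (g⁻¹ * d * g) * g⁻¹ = d by group] at this
  have hZWY : ∀ j, 3 ≤ j → j + 2 ≤ b → j % 2 = 1 → A.Z (v (j - 1)) ≤ Y → A.Z (v (j + 1)) ≤ Y →
      A.W (v j) ≤ Y := by
    intro j hj hjb hjo hm hp'
    refine A.W_le fun ν hν => ?_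
    by_cases h1 : ν = v (j + 1)
    · rw [h1]; exact hp'
    obtain ⟨g, hgfix, hgz, hgY⟩ := flip j (by omega) hjb ν hν h1
    intro z hz
    rw [← hgz, A.Z_smul_iff] at hz
    have := hgY _ (hm hz)
    rwa [show g * (g⁻¹ * z * g) * g⁻¹ = z by group] at this
  -- sizes
  haveI := A.finZ (v (b - 1))
  obtain ⟨fT, cT⟩ := card_adjoin (T := A.Z (v (b - 1))) (y := n')
    (h1 := fun z hz => by rwa [(A.W_comm hs hb hB hn'W (hZπb hz)).eq, mul_inv_cancel_right])
    (h2 := by rw [A.W_sq hs hb hB hn'W]; exact one_mem _)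
  haveI : Finite ↥T := fT
  obtain ⟨fY, cY⟩ := card_adjoin (T := T) (y := nθ)
    (h1 := fun z hz => by rwa [← (hcomm z (hTW hz) nθ (IsN.mem_W A hnθN)).eq, mul_inv_cancel_right])
    (h2 := by rw [A.W_sq hs hb hθB (IsN.mem_W A hnθN)]; exact one_mem _)
  haveI : Finite ↥Y := fY
  have hY16 : Nat.card ↥Y ≤ 16 := by
    obtain ⟨β', hβ', hne'⟩ := A.other_one hπb
    have hle : Nat.card ↥(A.Z (v (b - 1))) ≤ 2 * Nat.card ↥(A.O (v b)) := by
      haveI := A.finO (v b)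
      exact (card_le_two_mul _ (A.O (v b)) fun p' hp' q' hq' hpO hqO => by
        rw [A.Z_inv hp']
        exact A.Z_mod hS hπb hπA hp' hq' hpO hqO).2
    rw [hS _ hB] at hle
    simp only [T, Y] at *
    omega
  have hYeq : ∀ κ, ¬ A.isA κ → A.W κ ≤ Y → A.W κ = Y := fun κ hκ hle =>
    eq_of_le_of_card_ge hle (hY16.trans (A.card_W_ge hs hS h8 hc hodd h5 hκ))
  -- the conclusion
  have fin : A.W (v (b - 2)) ≤ Y → False := fun hle => by
    have he' := hYeq _ (A.notA_of hπp hπA) hle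
    refine A.VV hs hb hS h8 hπA hπp hπb hne.symm (u := n') (by rw [he']; exact hn'Y) hn'W ?_
    exact A.isN_not_mem_Z hs hb hS h8 hB (A.symm hπb) hN'
  rcases eq_or_lt_of_le h5 with h | h
  · subst h
    refine fin (hZWY 3 le_rfl le_rfl rfl ?_ hZY)
    have hp1 : p ≠ 1 := fun hp1 => hζπ (by
      rw [hζe, hp1, one_mul]
      exact A.O_le_Z (A.symm (hw 3 (by omega))) hπA hq)
    refine A.Z_le_of h2A (A.symm h12) h23 h13 (A.O_le_of_one hS hB1 hp hp1 ?_) hO3
    have := mul_mem hζY (hO3 hq)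
    rwa [hζe, mul_assoc, A.O_sq hq, mul_one] at this
  · have h7 : 7 ≤ b := by omega
    have hZ4 : A.Z (v 4) ≤ Y := grow 4 (by omega) (by omega) rfl hO3
    rcases eq_or_lt_of_le h7 with h | h
    · subst h
      exact fin (hZWY 5 (by omega) le_rfl rfl hZ4 hZY)
    · have h9 : 9 ≤ b := by omega
      have h4A : A.isA (v 4) := A.isA_even hw (by omega) hc.2.1 rfl
      have h6A : A.isA (v 6) := A.isA_even hw (by omega) hc.2.1 rfl
      have h45 := hw 4 (by omega)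
      have hZ6 : A.Z (v 6) ≤ Y := grow 6 (by omega) (by omega) rfl ((A.O_le_Z h45 h4A).trans hZ4)
      have hW5 : A.W (v 5) ≤ Y := hZWY 5 (by omega) (by omega) rfl hZ4 hZ6
      have h65 : A.Adj (v 6) (v 5) := A.symm (hw 5 (by omega))
      obtain ⟨z, hz, n1, n2, -⟩ := A.third h65 (hw 6 (by omega)) (hc.1.2 5 (by omega))
      obtain ⟨g, hgfix, hgz, hgY⟩ := flip 6 (by omega) (by omega) z hz n2
      have hWz : A.W z ≤ Y := fun x hx => by
        rw [← hgz, A.W_smul_iff] at hx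
        have := hgY _ (hW5 hx)
        rwa [show g * (g⁻¹ * x * g) * g⁻¹ = x by group] at this
      exact A.W_ne hs hb h6A h65 hz n1.symm
        ((hYeq _ (A.notA_of h65 h6A) hW5).trans (hYeq _ (A.notA_of hz h6A) hWz).symm)

theorem tr_sixteen : A.Tr (b + 1) := by
  classical
  by_contra hT
  have hb : 3 ≤ b := by omega
  have hw := hc.1.1
  have hB := A.odd_Bb hs hb hc hodd
  have hB1 := A.odd_B1 hs hb hc hodd
  have hπA := A.odd_Ab hs hb hc hodd
  have h0 := hc.2.1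
  have h01 := hw 0 (by omega)
  have h12 := hw 1 (by omega)
  obtain ⟨μ, hμ, hμne, hnle⟩ := A.back hs hb hc hodd
  obtain ⟨a, ha, haQ⟩ := SetLike.not_le_iff_exists.mp hc.2.2
  obtain ⟨e, he, heQ⟩ := SetLike.not_le_iff_exists.mp hnle
  have hma := A.mover_a hs hb hc hodd ha haQ
  have noA : ∀ {L : ℕ} {u : ℕ → V} {g : G}, b ≤ L → A.isA (u L) → ¬ A.Mover L u g :=
    fun hL hA hm => hT (A.tr_of_movers hm hma hA hB hL le_rfl)
  obtain ⟨x, hx, hx1⟩ := A.other_one h01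
  have hxB := A.notA_of hx h0
  have hpx : A.IsPath b (cons x v) := by
    have := A.isPath_cons (A.symm hx) (IsPath.mono A hc.1 (show b - 1 ≤ b by omega)) fun _ => hx1
    rwa [show b - 1 + 1 = b by omega] at this
  -- `N` at `x` fixes the path up to `v b`
  have hNQ2 : ∀ k, A.IsN x k → k ∈ A.Q (v (b - 2)) := by
    intro k hk
    by_cases hsh : ∃ ν, A.Adj x ν ∧ ¬ A.Z ν ≤ A.Q (v (b - 2))
    · obtain ⟨ν, hν, hnc⟩ := hsh
      have hν0 : ν ≠ v 0 := by
        rintro rfl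
        exact hnc (A.seg hs hw (Nat.zero_le _) (by omega) (by omega) (by omega) h0)
      have hp' : A.IsPath b (cons ν (cons x v)) := by
        have := A.isPath_cons (x := ν) (v := cons x v) (A.symm hν)
          (IsPath.mono A hpx (show b - 1 ≤ b by omega)) fun _ => by simpa using hν0
        rwa [show b - 1 + 1 = b by omega] at this
      have hend : cons ν (cons x v) b = v (b - 2) := by
        rw [cons_pos _ _ (by omega), cons_pos _ _ (by omega)]
        congr 1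
      have hc' : A.Crit b (cons ν (cons x v)) :=
        ⟨hp', by simpa using A.isA_of_not hν hxB, by rwa [hend, cons_zero]⟩
      have := A.N_le_Q hs hb hS h8 hc' hodd h5 (n := k) (by simpa using hk)
      rwa [hend] at this
    · push Not at hsh
      exact A.W_le hsh (IsN.mem_W A hk)
  have hWx : A.IsWalk b (cons x v) := hpx.1
  have hfixk : ∀ k, A.IsN x k → ∀ i, i < b → k • cons x v i = cons x v i := fun k hk i hi =>
    A.W_seg_fix hs hb hWx (i := 0) (Nat.zero_le _) (show i ≤ b by omega) (by omega) (by omega)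
      (by simpa using hxB) (show k ∈ A.W (cons x v 0) by simpa using IsN.mem_W A hk)
  have hlast : cons x v b = v (b - 1) := cons_pos _ _ (by omega)
  have hp21 : A.Adj (v (b - 2)) (v (b - 1)) := by
    have := hw (b - 2) (by omega)
    rwa [show b - 2 + 1 = b - 1 by omega] at this
  have hNQ1 : ∀ k, A.IsN x k → k ∈ A.Q (v (b - 1)) := by
    intro k hk
    by_contra hkQ
    refine noA le_rfl (by rw [hlast]; exact hπA) (A.mover_of_notQ hpx (fun i hi => ?_) (by rwa [hlast]))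
    rcases Nat.lt_or_ge i b with h | h
    · exact hfixk k hk i h
    · rw [show i = b by omega, hlast]
      exact A.fix hp21 (hNQ2 k hk)
  have hπb : A.Adj (v (b - 1)) (v b) := A.symm (A.adj_prev hw (by omega) le_rfl)
  -- choose `n`
  obtain ⟨n, hn, hnQ⟩ : ∃ n, A.IsN x n ∧ n ∈ A.Q (v b) := by
    obtain ⟨k, hk⟩ := A.exists_isN hxB
    by_cases hkQ : k ∈ A.Q (v b)
    · exact ⟨k, hk, hkQ⟩
    obtain ⟨d, hd, hd1⟩ := A.O_ne_one hxB
    have hdZ := A.O_le_Z hx h0 hd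
    have hdQ : d ∉ A.Q (v b) := fun h => hd1
      (A.disjoint_O hx h0 h01 hx1 hd (A.Z_inf_end hs hb hS hc hodd hdZ h))
    exact ⟨d * k, IsN.mul_O A hs hb hS h8 hxB hk hd, A.two (A.symm hπb)
      (A.seg_fix hs hw (Nat.zero_le _) le_rfl (by omega) (by omega) h0 hdZ)
      (A.seg_fix hs hw (Nat.zero_le _) (by omega) (by omega) (by omega) h0 hdZ) hdQ
      (A.fix hπb (hNQ1 k hk)) (hNQ1 k hk).1 hkQ⟩
  have hnW := IsN.mem_W A hn
  -- `n` centralises `W (v b)`
  have hncW : ∀ z ∈ A.W (v b), Commute n z := by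
    have hall : ∀ ν, A.Adj (v b) ν → n ∈ A.Q ν := by
      intro ν hν
      by_contra hnν
      have hνne : ν ≠ v (b - 1) := fun h => hnν (h ▸ hNQ1 n hn)
      have hp2 : A.IsPath (b + 1) (cons x v) := A.isPath_cons (A.symm hx) hc.1 fun _ => hx1
      have hp3 : A.IsPath (b + 1 + 1) (snoc (b + 1) (cons x v) ν) :=
        A.isPath_snoc (by simpa using hν) hp2 fun _ => by
          rw [show b + 1 - 1 = b by omega, hlast]; exact hνne
      refine noA (L := b + 1 + 1) (u := snoc (b + 1) (cons x v) ν) (g := n) (by omega)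
        (by rw [snoc_last]; exact A.isA_of_not hν hB) (A.mover_of_notQ hp3 (fun i hi => ?_)
          (by rwa [snoc_last]))
      rcases Nat.lt_or_ge i b with h | h
      · rw [snoc_le _ _ (show i ≤ b + 1 by omega)]
        exact hfixk n hn i h
      rcases Nat.lt_or_ge i (b + 1) with h2 | h2
      · rw [show i = b by omega, snoc_le _ _ (show b ≤ b + 1 by omega), hlast]
        exact (hNQ1 n hn).1
      rcases Nat.lt_or_ge i (b + 2) with h3 | h3
      · rw [show i = b + 1 by omega, snoc_le _ _ le_rfl, cons_succ]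
        exact hnQ.1
      · rw [show i = b + 1 + 1 by omega, snoc_last]
        exact A.fix hν hnQ
    intro z hz
    have hle : A.W (v b) ≤ centralizer {n} := A.W_le fun ν hν z' hz' =>
      mem_centralizer_singleton_iff.mpr (A.Z_central hz' (hall ν hν)).eq.symm
    exact (mem_centralizer_singleton_iff.mp (hle hz)).symm
  -- the image of `x`
  obtain ⟨he1, he2, haO, hm0, hm2, -, -, -, -, -, -⟩ := A.crit_data hs hb hS hc hodd hμ hμne ha haQ he heQ
  set α₂ := e • v 0 with hα₂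
  set κ := e • x with hκ
  have hκα : A.Adj α₂ κ := A.adj_smul e hx
  have hκB : ¬ A.isA κ := by rw [hκ, A.isA_smul]; exact hxB
  have hα₂A : A.isA α₂ := by rw [hα₂, A.isA_smul]; exact h0
  have hα₂β : A.Adj α₂ (v 1) := he1 ▸ A.adj_smul e h01
  have hnκ : A.IsN κ n := by
    have := IsN.conj A (g := e) hn
    rwa [← (hncW e (A.Z_le_W hμ he)).eq, mul_inv_cancel_right] at this
  have hxκ : ∀ d ∈ A.O x, d ∈ A.O κ → d = 1 := by
    intro d hd hd'
    by_contra hd1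
    have hdO : d ∈ A.O (v 1) := by
      by_contra hdO
      exact A.rep_not_mem hs hb hS hB1 (A.symm hα₂β) (A.symm h01) hm0
        (A.O_le_Z hx h0 hd) hdO (A.O_le_Z hκα hα₂A hd')
    exact hd1 (A.disjoint_O hx h0 h01 hx1 hd hdO)
  -- the centraliser of `n` in `Q (v 0)`
  let K : Subgroup G := A.Q (v 0) ⊓ centralizer {n}
  haveI := A.finQ (v 0)
  have hKc : ∀ q ∈ K, Commute q n := fun q hq => mem_centralizer_singleton_iff.mp hq.2
  have hKin : ∀ q ∈ A.Q (v 0), Commute q n → q ∈ K := fun q h1 h2 =>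
    Subgroup.mem_inf.mpr ⟨h1, mem_centralizer_singleton_iff.mpr h2.eq⟩
  have hbr : ∀ q : G, q • x = x → n * (q * n * q⁻¹) ∈ A.O x := fun q hq =>
    A.conj_mul_mem_O hs hb hS hxB hn hq
  have hninv : n⁻¹ = n := A.W_inv hs hb hxB hnW
  have hKidx : ∀ p ∈ A.Q (v 0), ∀ q ∈ A.Q (v 0), p ∉ K → q ∉ K → p⁻¹ * q ∈ K := by
    intro p hp q hq hpK hqK
    have hne' : ∀ r ∈ A.Q (v 0), r ∉ K → n * (r * n * r⁻¹) ≠ 1 := fun r hr hrK h => hrK
      (hKin r hr (mul_inv_eq_iff_eq_mul.mp (by rw [eq_inv_of_mul_eq_one_right h, hninv])))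
    have e' := mul_left_cancel (A.O_unique hS hxB (hbr p (A.fix hx hp)) (hne' p hp hpK)
      (hbr q (A.fix hx hq)) (hne' q hq hqK))
    refine hKin _ (mul_mem (inv_mem hp) hq) (mul_inv_eq_iff_eq_mul.mp ?_)
    calc p⁻¹ * q * n * (p⁻¹ * q)⁻¹ = p⁻¹ * (q * n * q⁻¹) * p := by group
      _ = n := by rw [← e']; group
  have hK'' : ∀ q ∈ A.Q (v 0), q ∈ A.Q α₂ → q ∈ K := fun q hq hq' => by
    refine hKin q hq (mul_inv_eq_iff_eq_mul.mp ?_)
    rw [eq_inv_of_mul_eq_one_right (hxκ _ (hbr q (A.fix hx hq))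
      (A.conj_mul_mem_O hs hb hS hκB hnκ (A.fix hκα hq'))), hninv]
  have hKinv : ∀ t : G, t • x = x → t • v 0 = v 0 → ∀ q ∈ K, t * q * t⁻¹ ∈ K := by
    intro t tx t0 q hq
    refine hKin _ (A.Q_conj t0 hq.1) ?_
    have h1 := (hKc q hq).map (MulAut.conj t).toMonoidHom
    change Commute (t * q * t⁻¹) (t * n * t⁻¹) at h1
    set q' := t * q * t⁻¹
    have hq'x : q' • x = x := A.fix hx (A.Q_conj t0 hq.1)
    have h2 := h1.mul_right (A.O_central (hbr t tx) hq'x).inv_right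
    rwa [show t * n * t⁻¹ * (n * (t * n * t⁻¹))⁻¹ = n⁻¹ by group, hninv] at h2
  -- `Q (v 0) ∩ Q (v 1)` is not contained in `K`
  have hDK : ¬ ∀ q ∈ A.Q (v 0), q ∈ A.Q (v 1) → q ∈ K := by
    intro hD
    obtain ⟨t, t0, tx, htQ⟩ := A.exists_notQ hx
    have hx' : A.Adj (v 0) (t • v 1) := A.adj_of_fix t0 h01
    have hne' : t • v 1 ≠ v 1 := A.move hx h01 hx1.symm t0 tx htQ
    obtain ⟨c, hc0, hc1, hc2⟩ := A.DA hs hb hS h8 hc hodd h5 h0 h01 hx' hne'.symm
    have hDt : ∀ q ∈ A.Q (v 0), q ∈ A.Q (t • v 1) → q ∈ K := by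
      intro q hq hq'
      have := hKinv t tx t0 _ (hD _ (A.Q_conj' t0 hq) ((A.Q_smul_iff t _ q).mp hq'))
      rwa [show t * (t⁻¹ * q * t) * t⁻¹ = q by group] at this
    have hall : ∀ q ∈ A.Q (v 0), q ∈ K := by
      intro q hq
      by_cases hq1 : q ∈ A.Q (v 1)
      · exact hD q hq hq1
      · have := mul_mem (hDt c hc0 hc1) (hD _ (mul_mem (inv_mem hc0) hq)
          (A.two' (A.symm h01) (A.fix h01 hc0) hc0.1 hc2 (A.fix h01 hq) hq.1 hq1))
        rwa [mul_inv_cancel_left] at this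
    obtain ⟨q, -, hqQ, hqn⟩ := A.F_all hs hb hS h8 hc hodd h5 (A.symm hx) h0 hn
    exact hqn (hKc q (hall q hqQ))
  obtain ⟨c, hcK, hc1⟩ : ∃ c ∈ K, c ∉ A.Q (v 1) := by
    by_contra hcon
    push Not at hcon
    refine hDK fun q hq hq1 => ?_
    by_contra hqK
    obtain ⟨x', hx', hne'⟩ := A.other_one h01
    obtain ⟨c, hc0, -, hc2⟩ := A.DA hs hb hS h8 hc hodd h5 h0 h01 hx' hne'.symm
    have hcK : c ∉ K := fun h => hc2 (hcon c h)
    have := mul_mem hq1 (inv_mem (hcon _ (hKidx c hc0 q hq hcK hqK)))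
    rw [mul_inv_rev, inv_inv, mul_inv_cancel_left] at this
    exact hc2 this
  have hcα : c • v 0 = v 0 := hcK.1.1
  have hcβ : c • v 1 = v 1 := A.fix h01 hcK.1
  have hnbr0 : A.Adj (v 1) (v 0) := A.symm h01
  have hnbr2 : A.Adj (v 1) α₂ := A.symm hα₂β
  have h02 : v 0 ≠ v 2 := hc.1.2 0 (by omega)
  have hc2' : c • α₂ = v 2 := A.swap_eq hnbr0 hnbr2 h12 hm0 h02.symm hm2 hcβ hcα
    (A.move hnbr0 hnbr2 hm0 hcβ hcα hc1)
  have hKγ : ∀ q ∈ A.Q (v 0), q ∈ A.Q (v 2) → q ∈ K := by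
    intro q hq hq'
    rw [← hc2', A.Q_smul_iff] at hq'
    have := mul_mem (mul_mem hcK (hK'' _ (A.Q_conj' hcα hq) hq')) (inv_mem hcK)
    rwa [show c * (c⁻¹ * q * c) * c⁻¹ = q by group] at this
  -- the meets with `Q (v 1)`
  have hto1 : ∀ q ∈ A.Q (v 0), q ∈ A.Q (v 2) → q ∈ A.Q (v 1) := fun q hq hq' =>
    A.mem_Q_of_two hnbr0 h12 h02 (A.fix h01 hq) hq.1 hq'.1
  have hto1' : ∀ q ∈ A.Q (v 0), q ∈ A.Q α₂ → q ∈ A.Q (v 1) := fun q hq hq' =>
    A.mem_Q_of_two hnbr0 hnbr2 hm0.symm (A.fix h01 hq) hq.1 hq'.1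
  have htriple : ∀ q ∈ A.Q (v 0), q ∈ A.Q (v 2) → q ∈ A.Q α₂ := by
    intro q hq hq'
    by_contra hq''
    refine hDK fun r hr hr1 => ?_
    by_cases hr'' : r ∈ A.Q α₂
    · exact hK'' r hr hr''
    · have := mul_mem (hKγ q hq hq') (hK'' _ (mul_mem (inv_mem hq) hr) (A.two' hα₂β
        (A.fix hnbr2 (hto1 q hq hq')) (A.fix h01 hq) hq'' (A.fix hnbr2 hr1) hr1.1 hr''))
      rwa [mul_inv_cancel_left] at this
  have htri : ∀ δ₁ δ₂ δ₃, A.Adj (v 1) δ₁ → A.Adj (v 1) δ₂ → A.Adj (v 1) δ₃ → δ₁ ≠ δ₂ → δ₁ ≠ δ₃ →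
      δ₂ ≠ δ₃ → ∀ q ∈ A.Q δ₁, q ∈ A.Q δ₂ → q ∈ A.Q δ₃ := by
    intro δ₁ δ₂ δ₃ k1 k2 k3 m1 m2 m3 q hq1 hq2
    obtain ⟨g, g1, g0, g2⟩ := A.pair_trans (Iff.refl (A.isA (v 1))) hnbr0 h12 h02 k1 k2 m1
    have e3 : g • α₂ = δ₃ := by
      rcases A.three k1 k2 k3 (A.adj_of_fix g1 hnbr2) m1 m2 m3 with h | h | h
      · exact absurd (MulAction.injective g (h.trans g0.symm)) hm0
      · exact absurd (MulAction.injective g (h.trans g2.symm)) hm2
      · exact h
    rw [← g0, A.Q_smul_iff] at hq1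
    rw [← g2, A.Q_smul_iff] at hq2
    rw [← e3, A.Q_smul_iff]
    exact htriple _ hq1 hq2
  -- the final contradiction
  obtain ⟨m, hm⟩ := A.exists_isN hB1
  have hmW := IsN.mem_W A hm
  have hminv := A.W_inv hs hb hB1 hmW
  obtain ⟨q, hq1, hq0, hqm⟩ := A.F_all hs hb hS h8 hc hodd h5 hnbr0 h0 hm
  have hcen : ∀ r ∈ A.Q (v 0), r ∈ A.Q (v 2) → Commute r m := by
    intro r h1 h2
    have h3 := htriple r h1 h2
    have hle : A.W (v 1) ≤ centralizer {r} := A.W_le fun ν hν z hz => by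
      refine mem_centralizer_singleton_iff.mpr (A.Z_central hz ?_).eq.symm
      rcases A.three hnbr0 h12 hnbr2 hν h02 hm0.symm hm2.symm with rfl | rfl | rfl
      exacts [h1, h2, h3]
    exact (mem_centralizer_singleton_iff.mp (hle hmW)).symm
  have move_q : ∀ δ, A.Adj (v 1) δ → ∃ p ∈ A.Q (v 1), p ∈ A.Q δ ∧ ¬ Commute p m := by
    intro δ hδ
    obtain ⟨g, g1, g0⟩ := A.trans hnbr0 hδ
    refine ⟨g * q * g⁻¹, A.Q_conj g1 hq1, ?_, fun h => hqm ?_⟩
    · rw [← g0, A.Q_smul_iff]; simpa [mul_assoc] using hq0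
    · have h' := h.map (MulAut.conj g⁻¹).toMonoidHom
      change Commute (g⁻¹ * (g * q * g⁻¹) * g⁻¹⁻¹) (g⁻¹ * m * g⁻¹⁻¹) at h'
      rw [show g⁻¹ * (g * q * g⁻¹) * g⁻¹⁻¹ = q by group] at h'
      have h2 := h'.mul_right (A.O_central
        (A.conj_mul_mem_O hs hb hS hB1 hm (inv_smul_eq_iff.mpr g1.symm)) hq1.1).inv_right
      rwa [show g⁻¹ * m * g⁻¹⁻¹ * (m * (g⁻¹ * m * g⁻¹⁻¹))⁻¹ = m⁻¹ by group, hminv] at h2
  have hsame : ∀ p ∈ A.Q (v 1), ∀ r ∈ A.Q (v 1), ¬ Commute p m → ¬ Commute r m → Commute (p⁻¹ * r) m := by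
    intro p hp r hr hpm hrm
    have hne' : ∀ r, ¬ Commute r m → m * (r * m * r⁻¹) ≠ 1 := fun r hrm h => hrm
      (mul_inv_eq_iff_eq_mul.mp (by rw [eq_inv_of_mul_eq_one_right h, hminv]))
    have e' := mul_left_cancel (A.O_unique hS hB1 (A.conj_mul_mem_O hs hb hS hB1 hm hp.1) (hne' p hpm)
      (A.conj_mul_mem_O hs hb hS hB1 hm hr.1) (hne' r hrm))
    refine mul_inv_eq_iff_eq_mul.mp ?_
    calc p⁻¹ * r * m * (p⁻¹ * r)⁻¹ = p⁻¹ * (r * m * r⁻¹) * p := by group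
      _ = m := by rw [← e']; group
  obtain ⟨q', hq'1, hq'α, hq'm⟩ := move_q α₂ hnbr2
  obtain ⟨q'', hq''1, hq''γ, hq''m⟩ := move_q (v 2) h12
  have hqγ : q ∉ A.Q (v 2) := fun h => hqm (hcen q hq0 h)
  have hq'γ : q' ∉ A.Q (v 2) := fun h => hq'm (hcen q'
    (htri α₂ (v 2) (v 0) hnbr2 h12 hnbr0 hm2 hm0 h02.symm q' hq'α h) h)
  have hq'0 : q' ∉ A.Q (v 0) := fun h => hq'm
    (hcen q' h (htri α₂ (v 0) (v 2) hnbr2 hnbr0 h12 hm0 hm2 h02 q' hq'α h))
  have hq''0 : q'' ∉ A.Q (v 0) := fun h => hq''m (hcen q'' h hq''γ)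
  set r := q⁻¹ * q' with hr
  have hrγ : r ∈ A.Q (v 2) := A.two' (A.symm h12) (A.fix h12 hq1) hq1.1 hqγ (A.fix h12 hq'1) hq'1.1 hq'γ
  have hr1 : r ∈ A.Q (v 1) := mul_mem (inv_mem hq1) hq'1
  have hrm : Commute r m := hsame q hq1 q' hq'1 hqm hq'm
  have hr0 : r ∉ A.Q (v 0) := fun h => hq'0 (by
    have := mul_mem hq0 h
    rwa [hr, mul_inv_cancel_left] at this)
  have hfin := hcen _ (A.two' h01 (A.fix hnbr0 hq''1) hq''1.1 hq''0 (A.fix hnbr0 hr1) hr1.1 hr0)
    (mul_mem (inv_mem hq''γ) hrγ)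
  refine hq''m ?_
  have := hrm.mul_left hfin.inv_left
  rwa [show r * (q''⁻¹ * r)⁻¹ = q'' by group] at this

theorem false_sixteen : False := A.not_tr_sixteen hs hS h8 hc hodd h5 (A.tr_sixteen hs hS h8 hc hodd h5)

end

end Geo

end CfsgLib.A33
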