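import Cfsg.Agent.Lib.Amalgam33.Two
import Cfsg.Agent.Lib.Amalgam33.SixteenMain
import Cfsg.Agent.Lib.Amalgam33.EightThree
import Cfsg.Agent.Lib.Amalgam33.EightBig

/-!
The bound 128 for the edge groups.
-/

set_option autoImplicit false
set_option linter.style.haveILetI false
set_option maxHeartbeats 400000

namespace CfsgLib.A33

namespace Geo

variable {G : Type*} [Group G] {V : Type*} [MulAction G V] (A : Geo G V)

/-- edge groups have order at most 128 -/
theorem bound {x y : V} (h : A.Adj x y) (hx : A.isA x) : Nat.card ↥(E (G := G) x y) ≤ 128 := by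
  obtain ⟨b, v, hb1, hs, hc⟩ := A.exists_crit
  rcases eq_or_lt_of_le hb1 with rfl | hb2
  · exact (A.not_crit_one hs hc).elim
  rcases Nat.mod_two_eq_zero_or_one b with hev | hodd
  · rcases eq_or_lt_of_le (show 2 ≤ b from hb2) with rfl | hb3
    · exact A.bound_two hs hc h hx
    · exact (A.not_even_four hs hc hb2 hev (by omega)).elim
  have hb : 3 ≤ b := by omega
  have hS := A.small hs hb hc hodd
  by_cases h8 : A.Eight
  · rcases eq_or_lt_of_le hb with rfl | hb5
    · exact A.bound_three hs hS h8 hc h hx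
    · exact (A.false_eight hs hS h8 hodd (by omega) hc).elim
  · exfalso
    rcases eq_or_lt_of_le hb with rfl | hb5
    · obtain ⟨μ, hμ, hμne, hnle⟩ := A.back hs hb hc hodd
      obtain ⟨a, ha, haQ⟩ := SetLike.not_le_iff_exists.mp hc.2.2
      obtain ⟨e, he, heQ⟩ := SetLike.not_le_iff_exists.mp hnle
      obtain ⟨hR, hR', hRZ, -⟩ := A.R_isN hs hb hS h8 hc hodd hμ hμne ha haQ he heQ
      exact A.VV hs hb hS h8 (A.isA_even hc.1.1 (by omega) hc.2.1 rfl : A.isA (v 2))
        (A.symm (hc.1.1 1 (by omega))) (hc.1.1 2 (by omega)) (hc.1.2 1 (by omega)) hR hR' hRZ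
    · exact A.false_sixteen hs hS h8 hc hodd (by omega)

end Geo

end CfsgLib.A33
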