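import Cfsg.Agent.Lib.Amalgam33.Path

/-!
The central subgroups at the vertices and the critical distance.
-/

set_option autoImplicit false
set_option linter.style.haveILetI false

namespace CfsgLib.A33

open Subgroup

namespace Geo

variable {G : Type*} [Group G] {V : Type*} [MulAction G V] (A : Geo G V)

/-- central involutions of a vertex group -/
def O (_A : Geo G V) (x : V) : Subgroup G where
  carrier := {d | d • x = x ∧ d * d = 1 ∧ ∀ g : G, g • x = x → Commute g d}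
  one_mem' := ⟨one_smul _ _, one_mul _, fun g _ => Commute.one_right g⟩
  mul_mem' := fun {a b} ha hb => ⟨by rw [mul_smul, hb.1, ha.1], by
      rw [mul_assoc, ← mul_assoc b, (hb.2.2 a ha.1).symm.eq, mul_assoc a b b, hb.2.1, mul_one, ha.2.1],
    fun g hg => (ha.2.2 g hg).mul_right (hb.2.2 g hg)⟩
  inv_mem' := fun {a} ha => by
    rw [Set.mem_setOf_eq, inv_eq_of_mul_eq_one_right ha.2.1]
    exact ha

/-- involutions in the centre of the kernel -/
def Z (x : V) : Subgroup G where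
  carrier := {z | z ∈ A.Q x ∧ z * z = 1 ∧ ∀ q ∈ A.Q x, Commute q z}
  one_mem' := ⟨one_mem _, one_mul _, fun g _ => Commute.one_right g⟩
  mul_mem' := fun {a b} ha hb => ⟨mul_mem ha.1 hb.1, by
      rw [mul_assoc, ← mul_assoc b, (hb.2.2 a ha.1).symm.eq, mul_assoc a b b, hb.2.1, mul_one, ha.2.1],
    fun g hg => (ha.2.2 g hg).mul_right (hb.2.2 g hg)⟩
  inv_mem' := fun {a} ha => by
    rw [Set.mem_setOf_eq, inv_eq_of_mul_eq_one_right ha.2.1]
    exact ha

theorem Z_le_Q {x : V} : A.Z x ≤ A.Q x := fun _ h => h.1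

theorem Z_sq {x : V} {z : G} (h : z ∈ A.Z x) : z * z = 1 := h.2.1

theorem Z_inv {x : V} {z : G} (h : z ∈ A.Z x) : z⁻¹ = z := inv_eq_of_mul_eq_one_right h.2.1

theorem Z_central {x : V} {z q : G} (h : z ∈ A.Z x) (hq : q ∈ A.Q x) : Commute q z := h.2.2 q hq

theorem Z_comm {x : V} {z w : G} (h : z ∈ A.Z x) (hw : w ∈ A.Z x) : Commute z w := hw.2.2 z h.1

theorem Z_two (x : V) : Two (A.Z x) := (A.Q_two x).mono A.Z_le_Q

theorem finZ (x : V) : Finite ↥(A.Z x) := A.fin_of_fix x fun _ h => h.1.1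

theorem mem_Q_of_comm {x : V} {g : G} (hg : g • x = x) (h : ∀ q ∈ A.Q x, Commute g q) : g ∈ A.Q x :=
  ⟨hg, A.char2 x g hg fun q h1 h2 => h q ⟨h1, h2⟩⟩

theorem O_sq {x : V} {d : G} (h : d ∈ A.O x) : d * d = 1 := h.2.1

theorem O_inv {x : V} {d : G} (h : d ∈ A.O x) : d⁻¹ = d := inv_eq_of_mul_eq_one_right h.2.1

theorem O_central {x : V} {d g : G} (h : d ∈ A.O x) (hg : g • x = x) : Commute g d := h.2.2 g hg

theorem O_le_Q {x : V} : A.O x ≤ A.Q x := fun d hd =>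
  A.mem_Q_of_comm hd.1 fun q hq => (hd.2.2 q hq.1).symm

theorem O_le_Z_self {x : V} : A.O x ≤ A.Z x := fun _ hd =>
  ⟨A.O_le_Q hd, hd.2.1, fun q hq => hd.2.2 q hq.1⟩

theorem finO (x : V) : Finite ↥(A.O x) := A.fin_of_fix x fun _ h => h.1

theorem O_smul_iff (g : G) (x : V) (h : G) : h ∈ A.O (g • x) ↔ g⁻¹ * h * g ∈ A.O x := by
  constructor
  · rintro ⟨h1, h2, h3⟩
    refine ⟨by rw [mul_smul, mul_smul, h1, inv_smul_smul], ?_, fun k hk => ?_⟩
    · calc g⁻¹ * h * g * (g⁻¹ * h * g) = g⁻¹ * (h * h) * g := by group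
        _ = 1 := by rw [h2, mul_one, inv_mul_cancel]
    · have := (h3 (g * k * g⁻¹) (by rw [mul_smul, mul_smul, inv_smul_smul, hk])).map
        (MulAut.conj g⁻¹).toMonoidHom
      simpa [mul_assoc] using this
  · rintro ⟨h1, h2, h3⟩
    refine ⟨?_, ?_, fun k hk => ?_⟩
    · rw [mul_smul, mul_smul, inv_smul_eq_iff] at h1
      exact h1
    · calc h * h = g * (g⁻¹ * h * g * (g⁻¹ * h * g)) * g⁻¹ := by group
        _ = 1 := by rw [h2, mul_one, mul_inv_cancel]
    · have := (h3 (g⁻¹ * k * g) (by rw [mul_smul, mul_smul, hk, inv_smul_smul])).map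
        (MulAut.conj g).toMonoidHom
      simpa [mul_assoc] using this

theorem Z_smul_iff (g : G) (x : V) (h : G) : h ∈ A.Z (g • x) ↔ g⁻¹ * h * g ∈ A.Z x := by
  constructor
  · rintro ⟨h1, h2, h3⟩
    refine ⟨(A.Q_smul_iff g x h).mp h1, ?_, fun q hq => ?_⟩
    · calc g⁻¹ * h * g * (g⁻¹ * h * g) = g⁻¹ * (h * h) * g := by group
        _ = 1 := by rw [h2, mul_one, inv_mul_cancel]
    · have := (h3 (g * q * g⁻¹) ((A.Q_smul_iff g x _).mpr (by simpa [mul_assoc] using hq))).map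
        (MulAut.conj g⁻¹).toMonoidHom
      simpa [mul_assoc] using this
  · rintro ⟨h1, h2, h3⟩
    refine ⟨(A.Q_smul_iff g x h).mpr h1, ?_, fun q hq => ?_⟩
    · calc h * h = g * (g⁻¹ * h * g * (g⁻¹ * h * g)) * g⁻¹ := by group
        _ = 1 := by rw [h2, mul_one, mul_inv_cancel]
    · have := (h3 _ ((A.Q_smul_iff g x q).mp hq)).map (MulAut.conj g).toMonoidHom
      simpa [mul_assoc] using this

theorem O_conj {g h : G} {x : V} (hh : h ∈ A.O x) : g * h * g⁻¹ ∈ A.O (g • x) :=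
  (A.O_smul_iff g x _).mpr (by simpa [mul_assoc] using hh)

theorem Z_conj {g h : G} {x : V} (hh : h ∈ A.Z x) : g * h * g⁻¹ ∈ A.Z (g • x) :=
  (A.Z_smul_iff g x _).mpr (by simpa [mul_assoc] using hh)

theorem Z_conj_fix {g h : G} {x : V} (hg : g • x = x) (hh : h ∈ A.Z x) : g * h * g⁻¹ ∈ A.Z x := by
  have := A.Z_conj (g := g) hh
  rwa [hg] at this

theorem card_O_smul (g : G) (x : V) : Nat.card ↥(A.O (g • x)) = Nat.card ↥(A.O x) :=
  Nat.card_congr
    { toFun := fun h => ⟨g⁻¹ * h * g, (A.O_smul_iff g x h).mp h.2⟩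
      invFun := fun h => ⟨g * h * g⁻¹, A.O_conj h.2⟩
      left_inv := fun h => Subtype.ext (by simp [mul_assoc])
      right_inv := fun h => Subtype.ext (by simp [mul_assoc]) }

theorem card_O_eq {x y : V} (hx : ¬ A.isA x) (hy : ¬ A.isA y) :
    Nat.card ↥(A.O x) = Nat.card ↥(A.O y) := by
  obtain ⟨g, rfl⟩ := A.trans_type (iff_of_false hx hy)
  exact (A.card_O_smul g x).symm

theorem edge_omega {α β : V} (h : A.Adj β α) (hβ : ¬ A.isA β) {d : G} (h1 : d • β = β)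
    (h2 : d • α = α) (h3 : d * d = 1) (h4 : ∀ t : G, t • β = β → t • α = α → Commute t d) :
    d ∈ A.O β := ⟨h1, h3, A.hB h hβ d h1 h2 h3 h4⟩

theorem O_ne_one {β : V} (hβ : ¬ A.isA β) : ∃ d ∈ A.O β, d ≠ 1 := by
  obtain ⟨α, -, -, hα, -⟩ := A.nbrs β
  obtain ⟨d, h1, h2, h3, h4, g, -, hg⟩ := A.hA (A.symm hα) (A.isA_of_not hα hβ)
  refine ⟨d, A.edge_omega hα hβ h2 h1 h3 fun t a b => h4 t b a, ?_⟩
  rintro rfl
  exact hg (Commute.one_right g)

section
variable {α β : V} (h : A.Adj α β) (hα : A.isA α)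
include h hα

theorem O_le_Z : A.O β ≤ A.Z α := fun d hd => by
  have hdα : d • α = α := A.fix (A.symm h) (A.O_le_Q hd)
  refine ⟨A.mem_Q_of_comm hdα fun q hq => (hd.2.2 q (A.fix h hq)).symm, hd.2.1,
    fun q hq => hd.2.2 q (A.fix h hq)⟩

theorem Z_comm_mem_O {z t : G} (hz : z ∈ A.Z α) (htα : t • α = α) (htβ : t • β = β)
    (ht : t ∉ A.Q α) (hc : Commute t z) : z ∈ A.O β := by
  refine A.edge_omega (A.symm h) (A.notA_of h hα) (A.fix h hz.1) hz.1.1 hz.2.1 fun s hsβ hsα => ?_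
  by_cases hs : s ∈ A.Q α
  · exact A.Z_central hz hs
  · have := hc.mul_left (A.Z_central hz (A.two' h htα htβ ht hsα hsβ hs))
    rwa [mul_inv_cancel_left] at this

theorem Z_bracket {z t : G} (hz : z ∈ A.Z α) (htα : t • α = α) (htβ : t • β = β) :
    z * (t * z * t⁻¹) ∈ A.O β := by
  have hz' : t * z * t⁻¹ ∈ A.Z α := A.Z_conj_fix htα hz
  by_cases ht : t ∈ A.Q α
  · rw [(A.Z_central hz ht).eq, mul_inv_cancel_right, A.Z_sq hz]
    exact one_mem _
  refine A.Z_comm_mem_O h hα (mul_mem hz hz') htα htβ ht ?_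
  have h2 : Commute (t * t) z := A.Z_central hz (A.sq_mem h htα htβ)
  show t * (z * (t * z * t⁻¹)) = z * (t * z * t⁻¹) * t
  calc t * (z * (t * z * t⁻¹)) = (t * z * t⁻¹) * ((t * t) * z * t⁻¹) := by group
    _ = (t * z * t⁻¹) * (z * (t * t) * t⁻¹) := by rw [h2.eq]
    _ = ((t * z * t⁻¹) * z) * t := by group
    _ = _ := by rw [(A.Z_comm hz' hz).eq]

theorem disjoint_O {β' : V} (h' : A.Adj α β') (hne : β ≠ β') {d : G} (h1 : d ∈ A.O β)
    (h2 : d ∈ A.O β') : d = 1 := by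
  have := A.core_two h h' hne (A.O β ⊓ A.O β') (fun n hn => ⟨(A.O_le_Z h hα hn.1).1.1, hn.1.1⟩)
    (fun g hg n hn => by rwa [(A.O_central hn.1 hg).eq, mul_inv_cancel_right])
    (fun g hg n hn => by rwa [(A.O_central hn.2 hg).eq, mul_inv_cancel_right])
  exact Subgroup.mem_bot.mp (this ▸ Subgroup.mem_inf.mpr ⟨h1, h2⟩)

theorem Z_split {β' : V} (h' : A.Adj α β') (hne : β ≠ β') {z : G} (hz : z ∈ A.Z α) :
    ∃ a ∈ A.O β, ∃ c ∈ A.O β', z = a * c := by
  obtain ⟨t, htα, htβ, ht⟩ := A.exists_notQ h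
  haveI := A.finO β
  haveI := A.finO β'
  let f : ↥(A.O β') → ↥(A.O β) := fun c =>
    ⟨c * (t * c * t⁻¹), A.Z_bracket h hα (A.O_le_Z h' hα c.2) htα htβ⟩
  have hf : Function.Injective f := by
    intro c c' e
    have e' : (c : G) * (t * c * t⁻¹) = c' * (t * c' * t⁻¹) := congrArg Subtype.val e
    set m := (c : G) * c' with hm
    have hmO : m ∈ A.O β' := mul_mem c.2 c'.2
    have hmZ : m ∈ A.Z α := A.O_le_Z h' hα hmO
    have hcZ : (c : G) ∈ A.Z α := A.O_le_Z h' hα c.2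
    have hc'Z : (c' : G) ∈ A.Z α := A.O_le_Z h' hα c'.2
    have hfix : t * m * t⁻¹ = m := by
      have e2 : t * (c : G) * t⁻¹ = c * c' * (t * c' * t⁻¹) := by
        calc t * (c : G) * t⁻¹ = c * (c * (t * c * t⁻¹)) := by rw [← mul_assoc, A.Z_sq hcZ, one_mul]
          _ = _ := by rw [e', ← mul_assoc]
      calc t * m * t⁻¹ = (t * c * t⁻¹) * (t * c' * t⁻¹) := by rw [hm]; group
        _ = c * c' * ((t * c' * t⁻¹) * (t * c' * t⁻¹)) := by rw [e2, mul_assoc]
        _ = m := by rw [A.Z_sq (A.Z_conj_fix htα hc'Z), mul_one]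
    have hm1 : m = 1 := A.disjoint_O h hα h' hne
      (A.Z_comm_mem_O h hα hmZ htα htβ ht (mul_inv_eq_iff_eq_mul.mp hfix)) hmO
    exact Subtype.ext (by rw [eq_inv_of_mul_eq_one_left hm1, A.Z_inv hc'Z])
  have hcard : Nat.card ↥(A.O β') = Nat.card ↥(A.O β) :=
    A.card_O_eq (A.notA_of h' hα) (A.notA_of h hα)
  obtain ⟨c, hc⟩ := ((Nat.bijective_iff_injective_and_card f).mpr ⟨hf, hcard⟩).2
    ⟨_, A.Z_bracket h hα hz htα htβ⟩
  have hc' : (c : G) * (t * c * t⁻¹) = z * (t * z * t⁻¹) := congrArg Subtype.val hc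
  have hcZ : (c : G) ∈ A.Z α := A.O_le_Z h' hα c.2
  refine ⟨z * c, ?_, c, c.2, by rw [mul_assoc, A.Z_sq hcZ, mul_one]⟩
  refine A.Z_comm_mem_O h hα (mul_mem hz hcZ) htα htβ ht (mul_inv_eq_iff_eq_mul.mp ?_)
  have e3 : t * (c : G) * t⁻¹ = c * z * (t * z * t⁻¹) := by
    calc t * (c : G) * t⁻¹ = c * (c * (t * c * t⁻¹)) := by rw [← mul_assoc, A.Z_sq hcZ, one_mul]
      _ = _ := by rw [hc', ← mul_assoc]
  calc t * (z * c) * t⁻¹ = (t * z * t⁻¹) * (t * c * t⁻¹) := by group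
    _ = (t * z * t⁻¹) * (c * z * (t * z * t⁻¹)) := by rw [e3]
    _ = (c * z) * ((t * z * t⁻¹) * (t * z * t⁻¹)) := by
        rw [← mul_assoc, (A.Z_comm (A.Z_conj_fix htα hz) (mul_mem hcZ hz)).eq, mul_assoc]
    _ = z * c := by rw [A.Z_sq (A.Z_conj_fix htα hz), mul_one, (A.Z_comm hcZ hz).eq]

end

theorem exists_nbr (x : V) : ∃ y, A.Adj x y := by
  obtain ⟨a, -, -, ha, -⟩ := A.nbrs x
  exact ⟨a, ha⟩

theorem Z_ne_one {α : V} (hα : A.isA α) : ∃ z ∈ A.Z α, z ≠ 1 := by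
  obtain ⟨β, hβ⟩ := A.exists_nbr α
  obtain ⟨d, hd, hd1⟩ := A.O_ne_one (A.notA_of hβ hα)
  exact ⟨d, A.O_le_Z hβ hα hd, hd1⟩

/-- the kernel is the centraliser of the centre -/
theorem mem_Q_of_comm_Z {α : V} (hα : A.isA α) {g : G} (hg : g • α = α)
    (hc : ∀ z ∈ A.Z α, Commute g z) : g ∈ A.Q α := by
  refine ⟨hg, fun β hβ => ?_⟩
  by_contra hne
  obtain ⟨d, hd, hd1⟩ := A.O_ne_one (A.notA_of hβ hα)
  refine hd1 (A.disjoint_O hβ hα (A.adj_of_fix hg hβ) (Ne.symm hne) hd ?_)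
  have := A.O_conj (g := g) hd
  rwa [(hc d (A.O_le_Z hβ hα hd)).eq, mul_inv_cancel_right] at this

theorem rot_fixed_Z {α : V} (hα : A.isA α) {d z : G} (hd : A.Rot α d) (hz : z ∈ A.Z α)
    (hc : Commute d z) : z = 1 := by
  obtain ⟨β, hβ⟩ := A.exists_nbr α
  obtain ⟨t, htα, htβ, ht⟩ := A.exists_notQ hβ
  have hd1 : A.Adj α (d • β) := A.adj_of_fix hd.1 hβ
  have hd2 : A.Adj α (d • d • β) := A.adj_of_fix hd.1 hd1
  have n1 : d • β ≠ β := hd.2.2 β hβ
  have n2 : d • d • β ≠ β := Rot.ne_two A hd hβ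
  have n3 : d • d • β ≠ d • β := hd.2.2 _ hd1
  have key : ∀ x : G, x ∈ A.O β → Commute d x → x = 1 := by
    intro x hx hcx
    refine A.disjoint_O hβ hα hd1 n1.symm hx ?_
    have := A.O_conj (g := d) hx
    rwa [hcx.eq, mul_inv_cancel_right] at this
  have s1 : t • d • β = d • d • β :=
    A.swap_eq hβ hd1 hd2 n1 n2 n3.symm htα htβ (A.move hβ hd1 n1 htα htβ ht)
  have s2 : t • d • d • β = d • β :=
    A.swap_eq hβ hd2 hd1 n2 n1 n3 htα htβ (A.move hβ hd2 n2 htα htβ ht)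
  have h3 : d • d • d • β = β := by
    rw [← mul_smul, ← mul_smul, show d * d * d = d ^ 3 by simp [pow_succ], hd.2.1, one_smul]
  set q := t⁻¹ * d * t * d with hq
  have hqQ : q ∈ A.Q α := by
    refine A.mem_Q_of_two hβ hd1 n1.symm ?_ ?_ ?_
    · rw [hq, mul_smul, mul_smul, mul_smul, hd.1, htα, hd.1, inv_smul_eq_iff, htα]
    · rw [hq, mul_smul, mul_smul, mul_smul, s1, h3, inv_smul_eq_iff, htβ]
    · rw [hq, mul_smul, mul_smul, mul_smul, s2, inv_smul_eq_iff, s1]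
  have hc' : Commute d (t * z * t⁻¹) := by
    have h1 : Commute (t⁻¹ * d * t) z := by
      rw [show t⁻¹ * d * t = q * d⁻¹ by rw [hq, mul_inv_cancel_right]]
      exact (A.Z_central hz hqQ).mul_left hc.inv_left
    have := h1.map (MulAut.conj t).toMonoidHom
    simpa [mul_assoc] using this
  have hw : z * (t * z * t⁻¹) = 1 := key _ (A.Z_bracket hβ hα hz htα htβ) (hc.mul_right hc')
  refine key z (A.Z_comm_mem_O hβ hα hz htα htβ ht (mul_inv_eq_iff_eq_mul.mp ?_)) hc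
  rw [eq_inv_of_mul_eq_one_right hw, A.Z_inv hz]

theorem Z_ne {α γ β : V} (hα : A.Adj β α) (hγ : A.Adj β γ) (hne : α ≠ γ) (hA' : A.isA α) :
    A.Z α ≠ A.Z γ := by
  intro e
  obtain ⟨z, hz, hz1⟩ := A.Z_ne_one hA'
  have := A.core_two hα hγ hne (A.Z α) (fun n hn => ⟨A.fix (A.symm hα) hn.1, hn.1.1⟩)
    (fun g hg n hn => A.Z_conj_fix hg hn)
    (fun g hg n hn => by rw [e] at hn ⊢; exact A.Z_conj_fix hg hn)
  exact hz1 (Subgroup.mem_bot.mp (this ▸ hz))

/-! ### The critical distance -/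

/-- no walk shorter than `b` from a vertex of type A is critical -/
def Short (b : ℕ) : Prop :=
  ∀ n v, n < b → A.IsWalk n v → A.isA (v 0) → A.Z (v 0) ≤ A.Q (v n)

/-- critical walks -/
def Crit (b : ℕ) (v : ℕ → V) : Prop :=
  A.IsPath b v ∧ A.isA (v 0) ∧ ¬ A.Z (v 0) ≤ A.Q (v b)

theorem exists_crit : ∃ b v, 1 ≤ b ∧ A.Short b ∧ A.Crit b v := by
  classical
  obtain ⟨α, hα⟩ := A.exists_A
  have hex : ∃ n, ∃ v, A.IsWalk n v ∧ A.isA (v 0) ∧ ¬ A.Z (v 0) ≤ A.Q (v n) := by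
    by_contra h
    push Not at h
    obtain ⟨z, hz, hz1⟩ := A.Z_ne_one hα
    refine hz1 (A.eq_one_of_fix_all fun x => ?_)
    have hw : ∀ y, Relation.ReflTransGen A.Adj α y → ∃ n v, A.IsWalk n v ∧ v 0 = α ∧ v n = y := by
      intro y hy
      induction hy with
      | refl => exact ⟨0, fun _ => α, fun k hk => absurd hk (by omega), rfl, rfl⟩
      | tail _ hyz ih =>
        obtain ⟨n, v, hv, h0, hn⟩ := ih
        exact ⟨n + 1, snoc n v _, A.isWalk_snoc (by rw [hn]; exact hyz) hv,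
          by rw [snoc_le v _ (Nat.zero_le _), h0], snoc_last _ _ _⟩
    obtain ⟨n, v, hv, h0, hn⟩ := hw x (A.conn α x)
    have := h n v hv (by rwa [h0]) (by rwa [h0])
    rw [hn] at this
    exact this.1
  obtain ⟨v, hv, h0, hc⟩ := Nat.find_spec hex
  refine ⟨Nat.find hex, v, ?_, fun n w hn hw hw0 => by_contra fun h => Nat.find_min hex hn ⟨w, hw, hw0, h⟩,
    ⟨hv, fun k hk e => ?_⟩, h0, hc⟩
  · rcases Nat.eq_zero_or_pos (Nat.find hex) with hb | hb
    · rw [hb] at hc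
      exact absurd A.Z_le_Q hc
    · exact hb
  · refine Nat.find_min hex (show Nat.find hex - 2 < Nat.find hex by omega)
      ⟨fun i => if i ≤ k then v i else v (i + 2), fun i hi => ?_, by simpa using h0, ?_⟩
    · beta_reduce
      rcases Nat.lt_trichotomy i k with h | h | h
      · rw [if_pos h.le, if_pos (show i + 1 ≤ k by omega)]
        exact hv i (by omega)
      · subst h
        rw [if_pos le_rfl, if_neg (by omega), e]
        exact hv (i + 2) (by omega)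
      · rw [if_neg (by omega), if_neg (by omega)]
        exact hv (i + 2) (by omega)
    · rcases Nat.lt_or_ge k (Nat.find hex - 2) with h | h
      · simp only [Nat.zero_le, if_true, if_neg (show ¬ Nat.find hex - 2 ≤ k by omega),
          show Nat.find hex - 2 + 2 = Nat.find hex by omega]
        exact hc
      · simp only [Nat.zero_le, if_true]
        rw [if_pos (show Nat.find hex - 2 ≤ k by omega), show Nat.find hex - 2 = k by omega, e,
          show k + 2 = Nat.find hex by omega]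
        exact hc

section
variable {b n : ℕ} {v : ℕ → V} (hs : A.Short b) (hv : A.IsWalk n v)
include hs hv

/-- short segments of a walk -/
theorem seg {i j : ℕ} (hi : i ≤ n) (hj : j ≤ n) (hd : j - i < b) (hd' : i - j < b)
    (hA' : A.isA (v i)) : A.Z (v i) ≤ A.Q (v j) := by
  rcases Nat.le_total i j with h | h
  · have := hs (j - i) _ hd ((IsWalk.mono A hv hj).drop A i) hA'
    simpa [Nat.add_sub_cancel' h] using this
  · have := hs (i - j) _ hd' ((IsWalk.mono A hv hi).drop A j |>.reverse A)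
      (by simpa [Nat.add_sub_cancel' h] using hA')
    simpa [Nat.add_sub_cancel' h] using this

/-- fixed vertices -/
theorem seg_fix {i j : ℕ} (hi : i ≤ n) (hj : j ≤ n) (hd : j - i ≤ b) (hd' : i - j ≤ b)
    (hA' : A.isA (v i)) {z : G} (hz : z ∈ A.Z (v i)) : z • v j = v j := by
  rcases Nat.lt_trichotomy i j with h | h | h
  · refine A.fix ?_ (A.seg hs hv (i := i) (j := j - 1) hi (by omega) (by omega) (by omega) hA' hz)
    have := hv (j - 1) (by omega)
    rwa [Nat.sub_add_cancel (by omega)] at this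
  · subst h
    exact hz.1.1
  · exact A.fix (A.symm (hv j (by omega)))
      (A.seg hs hv (i := i) (j := j + 1) hi (by omega) (by omega) (by omega) hA' hz)

theorem seg_comm {i j : ℕ} (hi : i ≤ n) (hj : j ≤ n) (hd : j - i < b) (hd' : i - j < b)
    (hA' : A.isA (v i)) {z w : G} (hz : z ∈ A.Z (v i)) (hw : w ∈ A.Z (v j)) : Commute z w :=
  A.Z_central hw (A.seg hs hv hi hj hd hd' hA' hz)

end

theorem crit_mutual {b : ℕ} {v : ℕ → V} (hs : A.Short b) (hc : A.Crit b v) (hb : 1 ≤ b)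
    (hbA : A.isA (v b)) : ¬ A.Z (v b) ≤ A.Q (v 0) := fun h => hc.2.2 fun a ha =>
  A.mem_Q_of_comm_Z hbA (A.seg_fix hs hc.1.1 (Nat.zero_le _) le_rfl (by omega) (by omega) hc.2.1 ha)
    fun z hz => (A.Z_central ha (h hz)).symm

/-- with transitivity every path of length `b` from a vertex of type A is critical -/
theorem crit_of_tr {b : ℕ} {v w : ℕ → V} (hT : A.Tr b) (hc : A.Crit b v) (hw : A.IsPath b w)
    (h0 : A.isA (w 0)) : A.Crit b w := by
  refine ⟨hw, h0, fun h => ?_⟩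
  obtain ⟨g, hg⟩ := hT v w hc.1 hw (iff_of_true hc.2.1 h0)
  refine hc.2.2 fun a ha => ?_
  have := h (show g * a * g⁻¹ ∈ A.Z (w 0) by rw [← hg 0 (Nat.zero_le _)]; exact A.Z_conj ha)
  rw [← hg b le_rfl, A.Q_smul_iff] at this
  simpa [mul_assoc] using this

end Geo

end CfsgLib.A33
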