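import Cfsg.Agent.Lib.Amalgam33.Odd

/-!
Odd critical distance: the subgroups `W`, the two cases.
-/

set_option autoImplicit false
set_option linter.style.haveILetI false
set_option linter.unusedSectionVars false
set_option maxHeartbeats 400000

namespace CfsgLib.A33

open Subgroup

theorem two_mul_card_le {G : Type*} [Group G] {H K : Subgroup G} [Finite ↥K] (hle : H ≤ K) {g : G}
    (hg : g ∈ K) (hgH : g ∉ H) : 2 * Nat.card ↥H ≤ Nat.card ↥K := by
  obtain ⟨m, hm⟩ := Subgroup.card_dvd_of_le hle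
  have hpos : 0 < Nat.card ↥K := Nat.card_pos
  rcases Nat.lt_or_ge m 2 with h | h
  · interval_cases m
    · omega
    · rw [mul_one] at hm
      exact absurd ((eq_of_le_of_card_ge hle (by rw [hm])) ▸ hg) hgH
  · rw [hm, mul_comm 2]
    exact Nat.mul_le_mul_left _ h

namespace Geo

variable {G : Type*} [Group G] {V : Type*} [MulAction G V] (A : Geo G V)

theorem pair_trans {x y y' x' z z' : V} (hty : A.isA x ↔ A.isA x') (hy : A.Adj x y) (hy' : A.Adj x y')
    (hne : y ≠ y') (hz : A.Adj x' z) (hz' : A.Adj x' z') (hne' : z ≠ z') :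
    ∃ g : G, g • x = x' ∧ g • y = z ∧ g • y' = z' := by
  obtain ⟨g, hg⟩ := A.trans_type hty
  obtain ⟨c, hc0, hc1⟩ := A.trans (hg ▸ A.adj_smul g hy) hz
  have h' : A.Adj x' (c • g • y') := A.adj_of_fix hc0 (hg ▸ A.adj_smul g hy')
  have hnz : c • g • y' ≠ z := fun e => hne (MulAction.injective g (MulAction.injective c (hc1.trans e.symm)))
  by_cases he : c • g • y' = z'
  · exact ⟨c * g, by rw [mul_smul, hg, hc0], by rw [mul_smul, hc1], by rw [mul_smul, he]⟩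
  obtain ⟨t, ht0, ht1, htQ⟩ := A.exists_notQ hz
  exact ⟨t * c * g, by rw [mul_smul, mul_smul, hg, hc0, ht0], by rw [mul_smul, mul_smul, hc1, ht1],
    by rw [mul_smul, mul_smul]
       exact (A.swap_eq hz h' hz' hnz hne'.symm he ht0 ht1 (A.move hz h' hnz ht0 ht1 htQ))⟩

/-- products of representatives at the three neighbours -/
def IsN (β : V) (n : G) : Prop :=
  ∃ (α γ δ : V) (x y w : G), A.Adj β α ∧ A.Adj β γ ∧ A.Adj β δ ∧ α ≠ γ ∧ α ≠ δ ∧ γ ≠ δ ∧
    x ∈ A.Z α ∧ x ∉ A.O β ∧ y ∈ A.Z γ ∧ y ∉ A.O β ∧ w ∈ A.Z δ ∧ w ∉ A.O β ∧ n = x * y * w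

/-- the case of small `W` -/
def Eight : Prop := ∀ (β : V) (n : G), ¬ A.isA β → A.IsN β n → n ∈ A.O β

theorem O_conj_iff {g h : G} {x : V} : g * h * g⁻¹ ∈ A.O (g • x) ↔ h ∈ A.O x := by
  rw [A.O_smul_iff]
  simp [mul_assoc]

theorem IsN.conj {g n : G} {β : V} (h : A.IsN β n) : A.IsN (g • β) (g * n * g⁻¹) := by
  obtain ⟨α, γ, δ, x, y, w, h1, h2, h3, h4, h5, h6, hx, hx', hy, hy', hw, hw', rfl⟩ := h
  exact ⟨g • α, g • γ, g • δ, g * x * g⁻¹, g * y * g⁻¹, g * w * g⁻¹, A.adj_smul g h1, A.adj_smul g h2,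
    A.adj_smul g h3, fun e => h4 (MulAction.injective g e), fun e => h5 (MulAction.injective g e),
    fun e => h6 (MulAction.injective g e), A.Z_conj hx, fun h => hx' (A.O_conj_iff.mp h), A.Z_conj hy,
    fun h => hy' (A.O_conj_iff.mp h), A.Z_conj hw, fun h => hw' (A.O_conj_iff.mp h), by group⟩

theorem IsN.conj_fix {g n : G} {β : V} (h : A.IsN β n) (hg : g • β = β) : A.IsN β (g * n * g⁻¹) :=
  hg ▸ IsN.conj A h

theorem IsN.mem_W {n : G} {β : V} (h : A.IsN β n) : n ∈ A.W β := by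
  obtain ⟨α, γ, δ, x, y, w, h1, h2, h3, h4, h5, h6, hx, hx', hy, hy', hw, hw', rfl⟩ := h
  exact mul_mem (mul_mem (A.Z_le_W h1 hx) (A.Z_le_W h2 hy)) (A.Z_le_W h3 hw)

theorem O_le_W {β : V} (hβ : ¬ A.isA β) : A.O β ≤ A.W β := fun d hd => by
  obtain ⟨α, hα⟩ := A.exists_nbr β
  exact A.Z_le_W hα (A.O_le_Z (A.symm hα) (A.isA_of_not hα hβ) hd)

theorem exists_isN {β : V} (hβ : ¬ A.isA β) : ∃ n, A.IsN β n := by
  obtain ⟨α, γ, δ, h1, h2, h3, h4, h5, h6, -⟩ := A.nbrs β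
  obtain ⟨x, hx, hx'⟩ := A.exists_rep_Z (A.symm h1) (A.isA_of_not h1 hβ)
  obtain ⟨y, hy, hy'⟩ := A.exists_rep_Z (A.symm h2) (A.isA_of_not h2 hβ)
  obtain ⟨w, hw, hw'⟩ := A.exists_rep_Z (A.symm h3) (A.isA_of_not h3 hβ)
  exact ⟨_, α, γ, δ, x, y, w, h1, h2, h3, h4, h5, h6, hx, hx', hy, hy', hw, hw', rfl⟩

section
variable {b : ℕ} (hs : A.Short b) (hb : 3 ≤ b) (hS : A.Small)
include hs hb hS

theorem IsN.mod {β : V} (hβ : ¬ A.isA β) {n m : G} (hn : A.IsN β n) (hm : A.IsN β m) :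
    n * m ∈ A.O β := by
  obtain ⟨α, γ, δ, x, y, w, h1, h2, h3, h4, h5, h6, hx, hx', hy, hy', hw, hw', rfl⟩ := hn
  obtain ⟨α', γ', δ', x', y', w', k1, k2, k3, k4, k5, k6, kx, kx', ky, ky', kw, kw', rfl⟩ := hm
  have C : ∀ {p q : G}, p ∈ A.W β → q ∈ A.W β → p * q = q * p := fun hp hq =>
    (A.W_comm hs hb hβ hp hq).eq
  have gen : ∀ p q r : G, p ∈ A.Z α → p ∉ A.O β → q ∈ A.Z γ → q ∉ A.O β → r ∈ A.Z δ → r ∉ A.O β →
      x * y * w * (p * q * r) ∈ A.O β := by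
    intro p q r hp hp' hq hq' hr hr'
    have a1 := A.Z_mod hS (A.symm h1) (A.isA_of_not h1 hβ) hx hp hx' hp'
    have a2 := A.Z_mod hS (A.symm h2) (A.isA_of_not h2 hβ) hy hq hy' hq'
    have a3 := A.Z_mod hS (A.symm h3) (A.isA_of_not h3 hβ) hw hr hw' hr'
    have := mul_mem (mul_mem a1 a2) a3
    have hp0 := A.Z_le_W h1 hp
    have hq0 := A.Z_le_W h2 hq
    have hy0 := A.Z_le_W h2 hy
    have hw0 := A.Z_le_W h3 hw
    rwa [show x * y * w * (p * q * r) = x * ((y * w) * p) * q * r by group, C (mul_mem hy0 hw0) hp0,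
      show x * (p * (y * w)) * q * r = x * p * y * (w * q) * r by group, C hw0 hq0,
      show x * p * y * (q * w) * r = x * p * (y * q) * (w * r) by group]
  have px := A.Z_le_W k1 kx
  have py := A.Z_le_W k2 ky
  have pw := A.Z_le_W k3 kw
  rcases A.three h1 h2 h3 k1 h4 h5 h6 with rfl | rfl | rfl <;>
    rcases A.three h1 h2 h3 k2 h4 h5 h6 with rfl | rfl | rfl <;>
      rcases A.three h1 h2 h3 k3 h4 h5 h6 with rfl | rfl | rfl <;>
        first
          | exact absurd rfl k4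
          | exact absurd rfl k5
          | exact absurd rfl k6
          | exact gen x' y' w' kx kx' ky ky' kw kw'
          | (have := gen x' w' y' kx kx' kw kw' ky ky'
             rwa [show x' * w' * y' = x' * y' * w' by rw [mul_assoc, C pw py, mul_assoc]] at this)
          | (have := gen y' x' w' ky ky' kx kx' kw kw'
             rwa [show y' * x' * w' = x' * y' * w' by rw [C py px]] at this)
          | (have := gen y' w' x' ky ky' kw kw' kx kx'
             rwa [show y' * w' * x' = x' * y' * w' by rw [C (mul_mem py pw) px, mul_assoc]] at this)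
          | (have := gen w' x' y' kw kw' kx kx' ky ky'
             rwa [show w' * x' * y' = x' * y' * w' by rw [mul_assoc, C pw (mul_mem px py)]] at this)
          | (have := gen w' y' x' kw kw' ky ky' kx kx'
             rwa [show w' * y' * x' = x' * y' * w' by rw [C (mul_mem pw py) px, C pw py, mul_assoc]] at this)

/-- in the large case no product of representatives is central -/
theorem sixteen (h8 : ¬ A.Eight) {β : V} {n : G} (hβ : ¬ A.isA β) (hn : A.IsN β n) : n ∉ A.O β := by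
  simp only [Eight, not_forall] at h8
  obtain ⟨β₀, n₀, hβ₀, hn₀, hno⟩ := h8
  obtain ⟨g, hg⟩ := A.trans_type (x := β₀) (y := β) (iff_of_false hβ₀ hβ)
  intro hO
  have hm := IsN.mod A hs hb hS hβ hn (hg ▸ IsN.conj A (g := g) hn₀)
  have := mul_mem (inv_mem hO) hm
  rw [inv_mul_cancel_left] at this
  exact hno (A.O_conj_iff.mp (hg ▸ this))

theorem conj_mul_mem_O {β : V} (hβ : ¬ A.isA β) {n g : G} (hn : A.IsN β n) (hg : g • β = β) :
    n * (g * n * g⁻¹) ∈ A.O β := IsN.mod A hs hb hS hβ hn (IsN.conj_fix A hn hg)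

theorem W_in_adjoin {β α γ δ : V} (hβ : ¬ A.isA β) (h1 : A.Adj β α) (h2 : A.Adj β γ) (h3 : A.Adj β δ)
    (h4 : α ≠ γ) (h5 : α ≠ δ) (h6 : γ ≠ δ) {y w : G} (hy : y ∈ A.Z γ) (hy' : y ∉ A.O β)
    (hw : w ∈ A.Z δ) (hw' : w ∉ A.O β) {h : G} (hh : h ∈ A.W β) :
    h ∈ A.Z α ∨ h * y ∈ A.Z α ∨ h * w ∈ A.Z α ∨ h * w * y ∈ A.Z α := by
  have hyW := A.Z_le_W h2 hy
  have hwW := A.Z_le_W h3 hw
  let T := adjoin (A.Z α) y
    (fun t ht => by
      rwa [(A.W_comm hs hb hβ hyW (A.Z_le_W h1 ht)).eq, mul_inv_cancel_right])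
    (by rw [A.Z_sq hy]; exact one_mem _)
  have hTW : T ≤ A.W β := adjoin_le (A.Z_le_W h1) hyW
  let P := adjoin T w
    (fun t ht => by rwa [(A.W_comm hs hb hβ hwW (hTW ht)).eq, mul_inv_cancel_right])
    (by rw [A.Z_sq hw]; exact one_mem _)
  have hle : A.W β ≤ P := by
    refine A.W_le fun ν hν z hz => ?_
    rcases A.three h1 h2 h3 hν h4 h5 h6 with rfl | rfl | rfl
    · exact Or.inl (Or.inl hz)
    · refine Or.inl ?_
      by_cases hzO : z ∈ A.O β
      · exact Or.inl (A.O_le_Z (A.symm h1) (A.isA_of_not h1 hβ) hzO)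
      · exact Or.inr (A.O_le_Z (A.symm h1) (A.isA_of_not h1 hβ)
          (A.Z_mod hS (A.symm hν) (A.isA_of_not hν hβ) hz hy hzO hy'))
    · by_cases hzO : z ∈ A.O β
      · exact Or.inl (Or.inl (A.O_le_Z (A.symm h1) (A.isA_of_not h1 hβ) hzO))
      · exact Or.inr (Or.inl (A.O_le_Z (A.symm h1) (A.isA_of_not h1 hβ)
          (A.Z_mod hS (A.symm hν) (A.isA_of_not hν hβ) hz hw hzO hw')))
  rcases hle hh with (h | h) | (h | h)
  exacts [Or.inl h, Or.inr (Or.inl h), Or.inr (Or.inr (Or.inl h)), Or.inr (Or.inr (Or.inr h))]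

theorem rep_not_mem {β α γ : V} (hβ : ¬ A.isA β) (h1 : A.Adj β α) (h2 : A.Adj β γ) (hne : α ≠ γ)
    {x : G} (hx : x ∈ A.Z γ) (hx' : x ∉ A.O β) : x ∉ A.Z α := by
  intro hxα
  have hαA := A.isA_of_not h1 hβ
  have hγA := A.isA_of_not h2 hβ
  refine A.Z_ne h1 h2 hne hαA ?_
  ext z
  by_cases hzO : z ∈ A.O β
  · simp [A.O_le_Z (A.symm h1) hαA hzO, A.O_le_Z (A.symm h2) hγA hzO]
  constructor
  · intro hz
    have := mul_mem (A.O_le_Z (A.symm h2) hγA (A.Z_mod hS (A.symm h1) hαA hz hxα hzO hx')) hx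
    rwa [mul_assoc, A.Z_sq hx, mul_one] at this
  · intro hz
    have := mul_mem (A.O_le_Z (A.symm h1) hαA (A.Z_mod hS (A.symm h2) hγA hz hx hzO hx')) hxα
    rwa [mul_assoc, A.Z_sq hx, mul_one] at this

/-- `W` of two neighbours: containment implies equality -/
theorem W_not_le {α β β' : V} (hα : A.isA α) (h : A.Adj α β) (h' : A.Adj α β') (hne : β ≠ β') :
    ¬ A.W β ≤ A.W β' := by
  intro hle
  haveI := A.finW β'
  obtain ⟨g, hg⟩ := A.trans_type (x := β) (y := β') (iff_of_false (A.notA_of h hα) (A.notA_of h' hα))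
  refine A.W_ne hs hb hα h h' hne (eq_of_le_of_card_ge hle (le_of_eq ?_))
  exact Nat.card_congr
    { toFun := fun h => ⟨g⁻¹ * h * g, (A.W_smul_iff g β h).mp (hg.symm ▸ h.2)⟩
      invFun := fun h => ⟨g * h * g⁻¹, hg ▸ A.W_conj_mem h.2⟩
      left_inv := fun h => Subtype.ext (by simp [mul_assoc])
      right_inv := fun h => Subtype.ext (by simp [mul_assoc]) }

section
variable {v : ℕ → V} (hc : A.Crit b v) (hodd : b % 2 = 1)
include hc hodd

theorem Z_inf_end {z : G} (hz : z ∈ A.Z (v 0)) (hzQ : z ∈ A.Q (v b)) : z ∈ A.O (v 1) := by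
  by_contra hzO
  have h01 := hc.1.1 0 (by omega)
  have h2A : A.isA (v 2) := A.isA_even hc.1.1 (by omega) hc.2.1 rfl
  have hO : ∀ d ∈ A.O (v 1), d ∈ A.Q (v b) := fun d hd =>
    A.seg hs hc.1.1 (i := 2) (by omega) le_rfl (by omega) (by omega) h2A
      (A.O_le_Z (A.symm (hc.1.1 1 (by omega))) h2A hd)
  refine hc.2.2 fun u hu => ?_
  by_cases huO : u ∈ A.O (v 1)
  · exact hO u huO
  · have := mul_mem (hO _ (A.Z_mod hS h01 hc.2.1 hu hz huO hzO)) hzQ
    rwa [mul_assoc, A.Z_sq hz, mul_one] at this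

/-- the commutator of the two offending elements -/
theorem crit_data {μ : V} (hμ : A.Adj (v b) μ) (hμne : μ ≠ v (b - 1)) {a e : G} (ha : a ∈ A.Z (v 0))
    (haQ : a ∉ A.Q (v b)) (he : e ∈ A.Z μ) (heQ : e ∉ A.Q (v 1)) :
    e • v 1 = v 1 ∧ e • v 2 = v 2 ∧ a ∉ A.O (v 1) ∧ e • v 0 ≠ v 0 ∧ e • v 0 ≠ v 2 ∧
      a * e * a * e ∈ A.W (v 1) ∧ a * e * a * e ∈ A.W (v b) ∧
      e * a * e ∈ A.Z (e • v 0) ∧ e * a * e ∉ A.O (v 1) ∧ e ∈ A.Q (v 2) ∧
      (5 ≤ b → e ∈ A.Q (v 3)) := by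
  have hw := hc.1.1
  have hB := A.odd_Bb hs hb hc hodd
  have h01 := hw 0 (by omega)
  have h12 := hw 1 (by omega)
  have h2A : A.isA (v 2) := A.isA_even hw (by omega) hc.2.1 rfl
  have heW : e ∈ A.W (v b) := A.Z_le_W hμ he
  have he1 : e • v 1 = v 1 := A.W_seg_fix hs hb hw le_rfl (by omega) (by omega) (by omega) hB heW
  have he2Q : e ∈ A.Q (v 2) := A.W_seg hs hb hw le_rfl (by omega) (by omega) (by omega) hB heW
  have haO : a ∉ A.O (v 1) := fun h => haQ
    (A.seg hs hw (i := 2) (by omega) le_rfl (by omega) (by omega) h2A (A.O_le_Z (A.symm h12) h2A h))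
  have hne : v 0 ≠ v 2 := hc.1.2 0 (by omega)
  have hmove : e • v 0 ≠ v 0 := A.move h12 (A.symm h01) hne he1 he2Q.1 heQ
  have heae : e * a * e ∈ A.Z (e • v 0) := by
    have := A.Z_conj (g := e) ha
    rwa [A.Z_inv he] at this
  have hab : a • v b = v b := (A.mover_a hs hb hc hodd ha haQ).2.1 b le_rfl
  refine ⟨he1, he2Q.1, haO, hmove, fun h => hne (MulAction.injective e (h.trans he2Q.1.symm)),
    ?_, ?_, heae, ?_, he2Q,
    fun h5 => A.W_seg hs hb hw le_rfl (by omega) (by omega) (by omega) hB heW⟩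
  · rw [show a * e * a * e = a * (e * a * e) by group]
    exact mul_mem (A.Z_le_W (A.symm h01) ha) (A.Z_le_W (A.adj_of_fix he1 (A.symm h01)) heae)
  · have := mul_mem (A.W_conj hab heW) heW
    rwa [A.Z_inv ha] at this
  · intro h
    have h' : e * a * e⁻¹ ∈ A.O (e • v 1) := by rwa [A.Z_inv he, he1]
    exact haO (A.O_conj_iff.mp h')

theorem rev_crit {μ : V} (hμ : A.Adj (v b) μ) (hμne : μ ≠ v (b - 1)) (hn : ¬ A.Z μ ≤ A.Q (v 1)) :
    A.Crit b (cons μ fun k => v (b - k)) := by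
  refine ⟨?_, ?_, ?_⟩
  · have := A.isPath_cons (x := μ) (by simpa using A.symm hμ)
      (IsPath.mono A (IsPath.reverse A hc.1) (show b - 1 ≤ b by omega)) fun _ => by simpa using hμne
    rwa [show b - 1 + 1 = b by omega] at this
  · simpa using A.isA_of_not hμ (A.odd_Bb hs hb hc hodd)
  · rw [cons_zero, cons_pos _ _ (show 1 ≤ b by omega)]
    rwa [show b - (b - 1) = 1 by omega]

/-- with transitivity the ends have different centres -/
theorem tr_disjoint (hT : A.Tr (b + 1)) {d : G} (hd1 : d ∈ A.O (v 1)) (hdb : d ∈ A.O (v b)) :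
    d = 1 := by
  have hw := hc.1.1
  have hbb : A.Adj (v (b - 1)) (v b) := A.symm (A.adj_prev hw (by omega) le_rfl)
  have hne : v b ≠ v (b - 2) := by
    have := hc.1.2 (b - 2) (by omega)
    rw [show b - 2 + 2 = b by omega] at this
    exact this.symm
  have hprev : A.Adj (v (b - 1)) (v (b - 2)) := by
    have := A.adj_prev hw (show 1 ≤ b - 1 by omega) (by omega)
    rwa [show b - 1 - 1 = b - 2 by omega] at this
  obtain ⟨θ, hθ, hθ1, hθ2, -⟩ := A.third hprev hbb hne.symm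
  have e1 : v (1 + (b - 2)) = v (b - 1) := by congr 1; omega
  have e2 : v (1 + (b - 2 - 1)) = v (b - 2) := by congr 1; omega
  obtain ⟨g, hgfix, hgθ⟩ := A.ext_swap (Tr.mono A hT (show b - 2 + 1 ≤ b + 1 by omega))
    (IsPath.mono A (IsPath.drop A hc.1 1) (show b - 2 ≤ b - 1 by omega)) (by omega)
    (y := v b) (y' := θ) (by rwa [e1]) (by rwa [e2]) (by rwa [e1]) (by rwa [e2])
  have g1 : g • v 1 = v 1 := by simpa using hgfix 0 (by omega)
  have hgd : g * d * g⁻¹ ∈ A.O θ := hgθ ▸ A.O_conj hdb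
  rw [(A.O_central hd1 g1).eq, mul_inv_cancel_right] at hgd
  exact A.disjoint_O hbb (A.odd_Ab hs hb hc hodd) hθ hθ2.symm hdb hgd

end

end

end Geo

end CfsgLib.A33
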