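import Cfsg.Agent.Lib.Amalgam33.Group

/-!
Cubic graphs with a group action of type (3,3): basic combinatorics.
-/

set_option autoImplicit false
set_option linter.style.haveILetI false

namespace CfsgLib.A33

open Subgroup

/-- The data of the coset graph of an amalgam of index (3,3), with vertices of type `isA`
(the centre of the edge group is not central in the vertex group) and of the other type
(it is central). -/
structure Geo (G : Type*) [Group G] (V : Type*) [MulAction G V] where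
  Adj : V → V → Prop
  isA : V → Prop
  symm : ∀ {x y : V}, Adj x y → Adj y x
  adj_smul : ∀ (g : G) {x y : V}, Adj x y → Adj (g • x) (g • y)
  isA_smul : ∀ (g : G) (x : V), isA (g • x) ↔ isA x
  alt : ∀ {x y : V}, Adj x y → (isA y ↔ ¬ isA x)
  trans_type : ∀ {x y : V}, (isA x ↔ isA y) → ∃ g : G, g • x = y
  trans : ∀ {x y y' : V}, Adj x y → Adj x y' → ∃ g : G, g • x = x ∧ g • y = y'
  nbrs : ∀ x : V, ∃ a b c : V, Adj x a ∧ Adj x b ∧ Adj x c ∧ a ≠ b ∧ a ≠ c ∧ b ≠ c ∧
    ∀ d : V, Adj x d → d = a ∨ d = b ∨ d = c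
  swap : ∀ {x y : V}, Adj x y → ∃ (t : G) (y' : V), t • x = x ∧ t • y = y ∧ Adj x y' ∧ t • y' ≠ y'
  fin : ∀ x : V, Finite ↥(MulAction.stabilizer G x)
  two_power : ∀ {x y : V}, Adj x y → ∀ g : G, g • x = x → g • y = y → ∃ k : ℕ, g ^ (2 ^ k) = 1
  char2 : ∀ (x : V) (g : G), g • x = x →
    (∀ q : G, q • x = x → (∀ y : V, Adj x y → q • y = y) → Commute g q) →
    ∀ y : V, Adj x y → g • y = y
  core : ∀ {x y : V} (N : Subgroup G), Adj x y → (∀ n ∈ N, n • x = x ∧ n • y = y) →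
    (∀ g : G, g • x = x → ∀ n ∈ N, g * n * g⁻¹ ∈ N) →
    (∀ g : G, g • y = y → ∀ n ∈ N, g * n * g⁻¹ ∈ N) → N = ⊥
  conn : ∀ x y : V, Relation.ReflTransGen Adj x y
  exists_A : ∃ x : V, isA x
  hA : ∀ {α β : V}, Adj α β → isA α → ∃ d : G, d • α = α ∧ d • β = β ∧ d * d = 1 ∧
    (∀ t : G, t • α = α → t • β = β → Commute t d) ∧ ∃ g : G, g • α = α ∧ ¬ Commute g d
  hB : ∀ {α β : V}, Adj β α → ¬ isA β → ∀ d : G, d • β = β → d • α = α → d * d = 1 →
    (∀ t : G, t • β = β → t • α = α → Commute t d) → ∀ g : G, g • β = β → Commute g d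

namespace Geo

variable {G : Type*} [Group G] {V : Type*} [MulAction G V] (A : Geo G V)

/-- kernel on the neighbours -/
def Q (x : V) : Subgroup G where
  carrier := {g | g • x = x ∧ ∀ y, A.Adj x y → g • y = y}
  one_mem' := ⟨one_smul _ _, fun _ _ => one_smul _ _⟩
  mul_mem' := fun {a b} ha hb => ⟨by rw [mul_smul, hb.1, ha.1],
    fun y hy => by rw [mul_smul, hb.2 y hy, ha.2 y hy]⟩
  inv_mem' := fun {a} ha => ⟨inv_smul_eq_iff.mpr ha.1.symm,
    fun y hy => inv_smul_eq_iff.mpr (ha.2 y hy).symm⟩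

theorem mem_Q {x : V} {g : G} : g ∈ A.Q x ↔ g • x = x ∧ ∀ y, A.Adj x y → g • y = y := Iff.rfl

theorem fix_self {x : V} {g : G} (h : g ∈ A.Q x) : g • x = x := h.1

theorem fix {x y : V} {g : G} (hxy : A.Adj x y) (h : g ∈ A.Q x) : g • y = y := h.2 y hxy

theorem ne_of_adj {x y : V} (h : A.Adj x y) : x ≠ y := by
  rintro rfl
  have := A.alt h
  tauto

theorem isA_of_not {x y : V} (h : A.Adj x y) (hx : ¬ A.isA x) : A.isA y := (A.alt h).mpr hx

theorem notA_of {x y : V} (h : A.Adj x y) (hx : A.isA x) : ¬ A.isA y := fun hy => (A.alt h).mp hy hx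

theorem adj_iff_smul {g : G} {x y : V} : A.Adj (g • x) (g • y) ↔ A.Adj x y :=
  ⟨fun h => by simpa using A.adj_smul g⁻¹ h, A.adj_smul g⟩

theorem adj_of_fix {g : G} {x y : V} (hx : g • x = x) (h : A.Adj x y) : A.Adj x (g • y) := by
  have := A.adj_smul g h
  rwa [hx] at this

theorem Q_smul_iff (g : G) (x : V) (h : G) : h ∈ A.Q (g • x) ↔ g⁻¹ * h * g ∈ A.Q x := by
  simp only [mem_Q, mul_smul, inv_smul_eq_iff]
  constructor
  · rintro ⟨h1, h2⟩
    exact ⟨h1, fun y hy => h2 _ (A.adj_smul g hy)⟩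
  · rintro ⟨h1, h2⟩
    refine ⟨h1, fun z hz => ?_⟩
    have := h2 (g⁻¹ • z) (by simpa using A.adj_smul g⁻¹ hz)
    rwa [smul_inv_smul] at this

theorem Q_conj {x : V} {g q : G} (hg : g • x = x) (hq : q ∈ A.Q x) : g * q * g⁻¹ ∈ A.Q x := by
  rw [← hg, A.Q_smul_iff]
  simpa [mul_assoc] using hq

theorem Q_conj' {x : V} {g q : G} (hg : g • x = x) (hq : q ∈ A.Q x) : g⁻¹ * q * g ∈ A.Q x := by
  have := A.Q_conj (inv_smul_eq_iff.mpr hg.symm) hq
  rwa [inv_inv] at this

theorem other {x y : V} (h : A.Adj x y) : ∃ y' y'', A.Adj x y' ∧ A.Adj x y'' ∧ y' ≠ y ∧ y'' ≠ y ∧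
    y' ≠ y'' ∧ ∀ d, A.Adj x d → d = y ∨ d = y' ∨ d = y'' := by
  obtain ⟨a, b, c, ha, hb, hc, hab, hac, hbc, hall⟩ := A.nbrs x
  rcases hall y h with rfl | rfl | rfl
  · exact ⟨b, c, hb, hc, hab.symm, hac.symm, hbc, hall⟩
  · exact ⟨a, c, ha, hc, hab, hbc.symm, hac, fun d hd => by rcases hall d hd with h | h | h <;> simp [h]⟩
  · exact ⟨a, b, ha, hb, hac, hbc, hab, fun d hd => by rcases hall d hd with h | h | h <;> simp [h]⟩

theorem three {x a b c d : V} (ha : A.Adj x a) (hb : A.Adj x b) (hc : A.Adj x c) (hd : A.Adj x d)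
    (hab : a ≠ b) (hac : a ≠ c) (hbc : b ≠ c) : d = a ∨ d = b ∨ d = c := by
  obtain ⟨p, q, -, -, hp, hq, -, hall⟩ := A.other ha
  rcases hall b hb with rfl | rfl | rfl
  · exact absurd rfl hab
  · rcases hall c hc with rfl | rfl | rfl
    · exact absurd rfl hac
    · exact absurd rfl hbc
    · exact hall d hd
  · rcases hall c hc with rfl | rfl | rfl
    · exact absurd rfl hac
    · rcases hall d hd with h | h | h
      · exact Or.inl h
      · exact Or.inr (Or.inr h)
      · exact Or.inr (Or.inl h)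
    · exact absurd rfl hbc

theorem other_one {x y : V} (h : A.Adj x y) : ∃ y', A.Adj x y' ∧ y' ≠ y := by
  obtain ⟨y', -, h1, -, h2, -⟩ := A.other h
  exact ⟨y', h1, h2⟩

theorem third {x y y' : V} (h : A.Adj x y) (h' : A.Adj x y') (hne : y ≠ y') :
    ∃ y'', A.Adj x y'' ∧ y'' ≠ y ∧ y'' ≠ y' ∧ ∀ d, A.Adj x d → d = y ∨ d = y' ∨ d = y'' := by
  obtain ⟨p, q, hp, hq, hpy, hqy, hpq, hall⟩ := A.other h
  rcases hall y' h' with e | e | e
  · exact absurd e.symm hne
  · subst e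
    exact ⟨q, hq, hqy, hpq.symm, hall⟩
  · subst e
    exact ⟨p, hp, hpy, hpq, fun d hd => by rcases hall d hd with h | h | h <;> simp [h]⟩

theorem mem_Q_of_two {x y y' : V} {g : G} (hy : A.Adj x y) (hy' : A.Adj x y') (hne : y ≠ y')
    (hgx : g • x = x) (hgy : g • y = y) (hgy' : g • y' = y') : g ∈ A.Q x := by
  obtain ⟨y'', h'', hne1, hne2, hall⟩ := A.third hy hy' hne
  refine ⟨hgx, fun d hd => ?_⟩
  rcases hall d hd with rfl | rfl | rfl
  · exact hgy
  · exact hgy'
  · rcases hall _ (A.adj_of_fix hgx h'') with e | e | e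
    · exact absurd (MulAction.injective g (e.trans hgy.symm)) hne1
    · exact absurd (MulAction.injective g (e.trans hgy'.symm)) hne2
    · exact e

theorem move {x y y' : V} {g : G} (hy : A.Adj x y) (hy' : A.Adj x y') (hne : y' ≠ y)
    (hgx : g • x = x) (hgy : g • y = y) (hg : g ∉ A.Q x) : g • y' ≠ y' :=
  fun h => hg (A.mem_Q_of_two hy hy' hne.symm hgx hgy h)

theorem swap_eq {x y y' y'' : V} {g : G} (hy : A.Adj x y) (hy' : A.Adj x y') (hy'' : A.Adj x y'')
    (h1 : y' ≠ y) (h2 : y'' ≠ y) (h3 : y' ≠ y'')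
    (hgx : g • x = x) (hgy : g • y = y) (hg : g • y' ≠ y') : g • y' = y'' := by
  rcases A.three hy hy' hy'' (A.adj_of_fix hgx hy') h1.symm h2.symm h3 with e | e | e
  · exact absurd (MulAction.injective g (e.trans hgy.symm)) h1
  · exact absurd e hg
  · exact e

theorem exists_notQ {x y : V} (h : A.Adj x y) :
    ∃ t : G, t • x = x ∧ t • y = y ∧ t ∉ A.Q x := by
  obtain ⟨t, y', h1, h2, h3, h4⟩ := A.swap h
  exact ⟨t, h1, h2, fun hq => h4 (A.fix h3 hq)⟩

/-- two elements of an edge group outside the kernel differ by an element of the kernel -/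
theorem two {x y : V} {a b : G} (h : A.Adj x y) (hax : a • x = x) (hay : a • y = y) (ha : a ∉ A.Q x)
    (hbx : b • x = x) (hby : b • y = y) (hb : b ∉ A.Q x) : a * b ∈ A.Q x := by
  obtain ⟨p, q, hp, hq, hpy, hqy, hpq, -⟩ := A.other h
  refine A.mem_Q_of_two h hp hpy.symm (by rw [mul_smul, hbx, hax]) (by rw [mul_smul, hby, hay]) ?_
  rw [mul_smul, A.swap_eq h hp hq hpy hqy hpq hbx hby (A.move h hp hpy hbx hby hb)]
  exact A.swap_eq h hq hp hqy hpy hpq.symm hax hay (A.move h hq hqy hax hay ha)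

theorem two' {x y : V} {a b : G} (h : A.Adj x y) (hax : a • x = x) (hay : a • y = y) (ha : a ∉ A.Q x)
    (hbx : b • x = x) (hby : b • y = y) (hb : b ∉ A.Q x) : a⁻¹ * b ∈ A.Q x :=
  A.two h (inv_smul_eq_iff.mpr hax.symm) (inv_smul_eq_iff.mpr hay.symm)
    (fun h' => ha (inv_mem_iff.mp h')) hbx hby hb

theorem sq_mem {x y : V} {t : G} (h : A.Adj x y) (hx : t • x = x) (hy : t • y = y) :
    t * t ∈ A.Q x := by
  by_cases ht : t ∈ A.Q x
  · exact mul_mem ht ht
  · exact A.two h hx hy ht hx hy ht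

/-- the edge group -/
def E (x y : V) : Subgroup G := MulAction.stabilizer G x ⊓ MulAction.stabilizer G y

theorem mem_E {x y : V} {g : G} : g ∈ E (G := G) x y ↔ g • x = x ∧ g • y = y := Iff.rfl

theorem E_two {x y : V} (h : A.Adj x y) : Two (E (G := G) x y) :=
  fun g hg => A.two_power h g hg.1 hg.2

theorem Q_le_E {x y : V} (h : A.Adj x y) : A.Q x ≤ E x y := fun _ hg => ⟨hg.1, hg.2 y h⟩

include A in
theorem fin_of_fix (x : V) {H : Subgroup G} (h : ∀ g ∈ H, g • x = x) : Finite ↥H :=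
  haveI := A.fin x
  Finite.of_injective _ (inclusion_injective (show H ≤ MulAction.stabilizer G x from h))

theorem finQ (x : V) : Finite ↥(A.Q x) := A.fin_of_fix x fun _ h => h.1

theorem Q_two (x : V) : Two (A.Q x) := by
  obtain ⟨a, -, -, ha, -⟩ := A.nbrs x
  exact (A.E_two ha).mono (A.Q_le_E ha)

include A in
theorem edge_finite {x y : V} : Finite ↥(E (G := G) x y) :=
  haveI := A.fin x
  Finite.of_injective _ (inclusion_injective inf_le_left)

/-- a subgroup containing an edge group and an element moving the edge contains the stabiliser -/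
theorem gen_stab {x y : V} (h : A.Adj x y) (K : Subgroup G)
    (hK : ∀ t : G, t • x = x → t • y = y → t ∈ K) {s : G} (hsx : s • x = x) (hsy : s • y ≠ y)
    (hs : s ∈ K) {g : G} (hg : g • x = x) : g ∈ K := by
  by_cases hgy : g • y = y
  · exact hK g hg hgy
  obtain ⟨t, htx, hty, htQ⟩ := A.exists_notQ h
  have aux : ∀ k : G, k ∈ K → k • x = x → k • y = g • y → g ∈ K := by
    intro k hk hkx hky
    have := mul_mem hk (hK (k⁻¹ * g) (by rw [mul_smul, hg, inv_smul_eq_iff, hkx])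
      (by rw [mul_smul, inv_smul_eq_iff, hky]))
    rwa [mul_inv_cancel_left] at this
  by_cases he : s • y = g • y
  · exact aux s hs hsx he
  · refine aux (t * s) (mul_mem (hK t htx hty) hs) (by rw [mul_smul, hsx, htx]) ?_
    rw [mul_smul]
    exact A.swap_eq h (A.adj_of_fix hsx h) (A.adj_of_fix hg h) hsy hgy he htx hty
      (A.move h (A.adj_of_fix hsx h) hsy htx hty htQ)

theorem gen_two {x y y' : V} (h : A.Adj x y) (h' : A.Adj x y') (hne : y ≠ y') (K : Subgroup G)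
    (hK : ∀ t : G, t • x = x → t • y = y → t ∈ K) (hK' : ∀ t : G, t • x = x → t • y' = y' → t ∈ K)
    {g : G} (hg : g • x = x) : g ∈ K := by
  obtain ⟨t, htx, hty, htQ⟩ := A.exists_notQ h'
  exact A.gen_stab h K hK htx (A.move h' h hne htx hty htQ) (hK' t htx hty) hg

/-- conjugation invariance as a subgroup -/
def normSet (N : Subgroup G) : Subgroup G where
  carrier := {g | ∀ n, n ∈ N ↔ g * n * g⁻¹ ∈ N}
  one_mem' := fun n => by simp
  mul_mem' := fun {a b} ha hb n => by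
    rw [hb n, ha]
    simp [mul_assoc]
  inv_mem' := fun {a} ha n => by
    rw [ha (a⁻¹ * n * (a⁻¹)⁻¹)]
    simp [mul_assoc]

theorem normSet_mem_iff {N : Subgroup G} {g : G} :
    g ∈ normSet N ↔ ∀ n, n ∈ N ↔ g * n * g⁻¹ ∈ N := Iff.rfl

theorem mem_normSet {N : Subgroup G} [Finite ↥N] {g : G} (h : ∀ n ∈ N, g * n * g⁻¹ ∈ N) :
    g ∈ normSet N := by
  intro n
  refine ⟨h n, fun hn => ?_⟩
  let f : ↥N → ↥N := fun m => ⟨g * m * g⁻¹, h m m.2⟩
  have hf : Function.Injective f := fun a b e => by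
    have e' := congrArg Subtype.val e
    simpa [f] using e'
  obtain ⟨⟨m, hm⟩, he⟩ := (Finite.injective_iff_surjective.mp hf) ⟨_, hn⟩
  have e' : g * m * g⁻¹ = g * n * g⁻¹ := congrArg Subtype.val he
  rw [mul_left_inj, mul_right_inj] at e'
  rwa [← e']

theorem conj_of_normSet {N : Subgroup G} {g n : G} (hg : g ∈ normSet N) (hn : n ∈ N) :
    g * n * g⁻¹ ∈ N := (hg n).mp hn

/-- a subgroup normalised by two edge groups at a vertex is normalised by the stabiliser -/
theorem norm_of_two {x y y' : V} (h : A.Adj x y) (h' : A.Adj x y') (hne : y ≠ y') (N : Subgroup G)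
    [Finite ↥N] (h1 : ∀ t : G, t • x = x → t • y = y → ∀ n ∈ N, t * n * t⁻¹ ∈ N)
    (h2 : ∀ t : G, t • x = x → t • y' = y' → ∀ n ∈ N, t * n * t⁻¹ ∈ N)
    {g : G} (hg : g • x = x) : ∀ n ∈ N, g * n * g⁻¹ ∈ N := fun _ hn =>
  conj_of_normSet (A.gen_two h h' hne (normSet N) (fun t a b => mem_normSet (h1 t a b))
    (fun t a b => mem_normSet (h2 t a b)) hg) hn

/-- covering -/
theorem cover {x y : V} (h : A.Adj x y) (N : Subgroup G)
    (hconj : ∀ g : G, g • x = x → ∀ n ∈ N, g * n * g⁻¹ ∈ N) {n : G} (hn : n ∈ N) (hnx : n • x = x)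
    (hny : n • y = y) (hnQ : n ∉ A.Q x) {g : G} (hg : g • x = x) : g ∈ N ⊔ A.Q x := by
  have hN : ∀ m ∈ N, m ∈ N ⊔ A.Q x := fun m hm => Subgroup.mem_sup_left hm
  have hK : ∀ t : G, t • x = x → t • y = y → t ∈ N ⊔ A.Q x := by
    intro t htx hty
    by_cases ht : t ∈ A.Q x
    · exact Subgroup.mem_sup_right ht
    · have := mul_mem (hN n hn) (Subgroup.mem_sup_right (A.two' h hnx hny hnQ htx hty ht) : _ ∈ N ⊔ A.Q x)
      rwa [mul_inv_cancel_left] at this
  obtain ⟨y', hy', hne⟩ := A.other_one h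
  obtain ⟨c, hcx, hcy⟩ := A.trans h hy'
  refine A.gen_stab h _ hK (s := c * n * c⁻¹) ?_ ?_ (hN _ (hconj c hcx n hn)) hg
  · rw [mul_smul, mul_smul, inv_smul_eq_iff.mpr hcx.symm, hnx, hcx]
  · rw [mul_smul, mul_smul]
    intro e
    rw [smul_eq_iff_eq_inv_smul] at e
    exact A.move h (A.adj_of_fix (inv_smul_eq_iff.mpr hcx.symm) h)
      (fun e' => hne (by rw [← hcy]; exact (inv_smul_eq_iff.mp e').symm)) hnx hny hnQ e

/-- elements of order three of a vertex group -/
def Rot (x : V) (d : G) : Prop := d • x = x ∧ d ^ 3 = 1 ∧ ∀ y, A.Adj x y → d • y ≠ y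

theorem Rot.fix {x : V} {d : G} (h : A.Rot x d) : d • x = x := h.1

theorem Rot.cube {x : V} {d : G} (h : A.Rot x d) : d ^ 3 = 1 := h.2.1

theorem Rot.ne_two {x y : V} {d : G} (h : A.Rot x d) (hy : A.Adj x y) : d • d • y ≠ y := by
  intro e
  have h3 : d • d • d • y = y := by
    rw [← mul_smul, ← mul_smul, show d * d * d = d ^ 3 by simp [pow_succ], h.2.1, one_smul]
  rw [e] at h3
  exact h.2.2 y hy h3

theorem Rot.all {x y : V} {d : G} (h : A.Rot x d) (hy : A.Adj x y) :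
    ∀ z, A.Adj x z → z = y ∨ z = d • y ∨ z = d • d • y := fun z hz =>
  A.three hy (A.adj_of_fix h.1 hy) (A.adj_of_fix h.1 (A.adj_of_fix h.1 hy)) hz
    (h.2.2 y hy).symm (Rot.ne_two A h hy).symm (h.2.2 _ (A.adj_of_fix h.1 hy)).symm

theorem Rot.notQ {x : V} {d : G} (h : A.Rot x d) : d ∉ A.Q x := fun hq => by
  obtain ⟨a, -, -, ha, -⟩ := A.nbrs x
  exact h.2.2 a ha (A.fix ha hq)

/-- a subgroup of a vertex group, normalised by it and containing an element of an edge group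
outside the kernel, contains an element of order three -/
theorem exists_rot_of_cover {x y : V} (h : A.Adj x y) (N : Subgroup G)
    (hconj : ∀ g : G, g • x = x → ∀ n ∈ N, g * n * g⁻¹ ∈ N) {n : G} (hn : n ∈ N) (hnx : n • x = x)
    (hny : n • y = y) (hnQ : n ∉ A.Q x) : ∃ d ∈ N, A.Rot x d := by
  obtain ⟨y', y'', hy', hy'', h1, h2, h3, hall⟩ := A.other h
  obtain ⟨c, hcx, hcy⟩ := A.trans h hy'
  set n' := c * n * c⁻¹ with hn'
  have hn'N : n' ∈ N := hconj c hcx n hn
  have hn'x : n' • x = x := by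
    rw [hn', mul_smul, mul_smul, inv_smul_eq_iff.mpr hcx.symm, hnx, hcx]
  have hn'y' : n' • y' = y' := by
    rw [hn', mul_smul, mul_smul, inv_smul_eq_iff.mpr hcy.symm, hny, hcy]
  have hn'Q : n' ∉ A.Q x := fun hq => hnQ (by
    have := A.Q_conj' hcx hq
    simpa [hn', mul_assoc] using this)
  have a1 : n • y' = y'' := A.swap_eq h hy' hy'' h1 h2 h3 hnx hny (A.move h hy' h1 hnx hny hnQ)
  have a2 : n • y'' = y' := A.swap_eq h hy'' hy' h2 h1 h3.symm hnx hny (A.move h hy'' h2 hnx hny hnQ)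
  have b1 : n' • y = y'' := A.swap_eq hy' h hy'' h1.symm h3.symm h2.symm hn'x hn'y'
    (A.move hy' h h1.symm hn'x hn'y' hn'Q)
  have b2 : n' • y'' = y := A.swap_eq hy' hy'' h h3.symm h1.symm h2 hn'x hn'y'
    (A.move hy' hy'' h3.symm hn'x hn'y' hn'Q)
  set p := n * n' with hp
  have p0 : p • x = x := by rw [hp, mul_smul, hn'x, hnx]
  have p1 : p • y = y' := by rw [hp, mul_smul, b1, a2]
  have p2 : p • y' = y'' := by rw [hp, mul_smul, hn'y', a1]
  have p3 : p • y'' = y := by rw [hp, mul_smul, b2, hny]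
  have hp3 : p ^ 3 ∈ A.Q x := by
    refine A.mem_Q_of_two h hy' h1.symm ?_ ?_ ?_ <;> simp [pow_succ, mul_smul, p0, p1, p2, p3]
  obtain ⟨k, hk⟩ := A.Q_two x _ hp3
  refine ⟨p ^ (2 ^ k), pow_mem (mul_mem hn hn'N) _, ?_, ?_, ?_⟩
  · exact MulAction.mem_stabilizer_iff.mp (pow_mem (show p ∈ MulAction.stabilizer G x from p0) _)
  · rw [← pow_mul, mul_comm, pow_mul, hk]
  · intro z hz e
    have per : ∀ w, A.Adj x w → p • p • p • w = w := by
      intro w hw
      rcases hall w hw with rfl | rfl | rfl <;> simp [p1, p2, p3]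
    have hmoves : ∀ w, A.Adj x w → p • w ≠ w := by
      intro w hw
      rcases hall w hw with rfl | rfl | rfl <;> simp [p1, p2, p3, h1, h2.symm, h3.symm]
    have hpow : ∀ m : ℕ, p ^ (3 * m) • z = z := by
      intro m
      induction m with
      | zero => simp
      | succ m ih =>
        rw [mul_add, mul_one, pow_add, mul_smul,
          show p ^ 3 • z = z by simp [pow_succ, mul_smul, per z hz]]
        exact ih
    have hnd : ¬ 3 ∣ 2 ^ k := fun h0 => absurd
      ((Nat.prime_dvd_prime_iff_eq (by norm_num) (by norm_num)).mp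
        ((show Nat.Prime 3 by norm_num).dvd_of_dvd_pow h0)) (by norm_num)
    have hm : (2 ^ k) % 3 = 1 ∨ (2 ^ k) % 3 = 2 := by
      generalize 2 ^ k = m at hnd ⊢
      omega
    have he : p ^ (2 ^ k % 3) • z = z := by
      conv_rhs => rw [← e]
      conv_rhs => rw [show 2 ^ k = 2 ^ k % 3 + 3 * (2 ^ k / 3) from (Nat.mod_add_div _ 3).symm,
        pow_add, mul_smul, hpow]
    rcases hm with hm | hm <;> rw [hm] at he
    · rw [pow_one] at he
      exact hmoves z hz he
    · have hpz := per z hz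
      rw [pow_two, mul_smul] at he
      rw [he] at hpz
      exact hmoves z hz hpz

theorem exists_rot (x : V) : ∃ d, A.Rot x d := by
  obtain ⟨a, -, -, ha, -⟩ := A.nbrs x
  obtain ⟨t, htx, hty, htQ⟩ := A.exists_notQ ha
  obtain ⟨d, -, hd⟩ := A.exists_rot_of_cover ha (MulAction.stabilizer G x)
    (fun g hg n hn => mul_mem (mul_mem hg hn) (inv_mem hg)) htx htx hty htQ
  exact ⟨d, hd⟩

/-- a subgroup of an edge group normalised by the vertex groups of two neighbours of one of its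
vertices is trivial -/
theorem core_two {x y y' : V} (h : A.Adj x y) (h' : A.Adj x y') (hne : y ≠ y') (N : Subgroup G)
    (hN : ∀ n ∈ N, n • x = x ∧ n • y = y)
    (h1 : ∀ g : G, g • y = y → ∀ n ∈ N, g * n * g⁻¹ ∈ N)
    (h2 : ∀ g : G, g • y' = y' → ∀ n ∈ N, g * n * g⁻¹ ∈ N) : N = ⊥ := by
  haveI := A.fin_of_fix x (fun n hn => (hN n hn).1)
  exact A.core N h hN
    (fun g hg => A.norm_of_two h h' hne N (fun t _ ht => h1 t ht) (fun t _ ht => h2 t ht) hg) h1

include A in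
theorem eq_one_of_fix_all {g : G} (h : ∀ x : V, g • x = x) : g = 1 := by
  obtain ⟨x, -⟩ := A.exists_A
  obtain ⟨a, -, -, ha, -⟩ := A.nbrs x
  let N : Subgroup G :=
    { carrier := {g | ∀ z : V, g • z = z}
      one_mem' := fun z => one_smul _ z
      mul_mem' := fun {p q} hp hq z => by rw [mul_smul, hq z, hp z]
      inv_mem' := fun {p} hp z => inv_smul_eq_iff.mpr (hp z).symm }
  have hN : ∀ t : G, ∀ n ∈ N, t * n * t⁻¹ ∈ N := fun t n hn z => by
    rw [mul_smul, mul_smul, hn, smul_inv_smul]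
  have := A.core N ha (fun n hn => ⟨hn x, hn a⟩) (fun t _ => hN t) (fun t _ => hN t)
  exact Subgroup.mem_bot.mp (this ▸ (h : g ∈ N))

end Geo

end CfsgLib.A33
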