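import Cfsg.Agent.Lib.Amalgam.Basic
import Cfsg.Agent.Lib.Amalgam33.Geo
import Cfsg.Agent.Lib.CharP.PCore
import Cfsg.Agent.Lib.LocalStr.CubicCoset

/-!
The coset graph of an amalgam of index (3,3) as a `Geo`.
-/

set_option autoImplicit false
set_option linter.style.haveILetI false
set_option linter.unusedSectionVars false
set_option maxHeartbeats 400000

namespace CfsgLib.A33

open Subgroup

/-- what is known of one of the two groups -/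
structure Half {G : Type*} [Group G] (P P' : Subgroup G) where
  Q : Subgroup G
  Q_eq : Q = Cfsg.pCoreOf 2 P
  φ : ↥P →* Equiv.Perm (Fin 3)
  surj : Function.Surjective φ
  c : Fin 3
  ker : ∀ p : ↥P, φ p = 1 ↔ (p : G) ∈ Q
  Q_mem : ∀ q ∈ Q, q ∈ P ∧ q ∈ P'
  Q_conj : ∀ g ∈ P, ∀ q ∈ Q, g * q * g⁻¹ ∈ Q
  mem : ∀ p : ↥P, (p : G) ∈ P' ↔ φ p c = c
  tau : ∃ t : ↥P, (t : G) ∈ P' ∧ φ t ≠ 1
  two : ∀ g ∈ P ⊓ P', ∃ k : ℕ, g ^ (2 ^ k) = 1

theorem exists_half {G : Type*} [Group G] {P P' : Subgroup G} [Finite ↥P]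
    (h₂ : ∃ S : Sylow 2 ↥P, (S : Subgroup ↥P) = (P ⊓ P').subgroupOf P)
    (h₄ : Nonempty (↥P ⧸ Cfsg.pCore 2 ↥P ≃* Equiv.Perm (Fin 3))) : Nonempty (Half P P') := by
  haveI : Fact (Nat.Prime 2) := ⟨Nat.prime_two⟩
  obtain ⟨S, hS⟩ := h₂
  haveI : (Cfsg.pCore 2 ↥P).Normal := CfsgLib.CharP.pCore_normal'
  obtain ⟨e⟩ := h₄
  set φ : ↥P →* Equiv.Perm (Fin 3) := e.toMonoidHom.comp (QuotientGroup.mk' (Cfsg.pCore 2 ↥P)) with hφ
  have hker : φ.ker = Cfsg.pCore 2 ↥P := by rw [hφ]; ext p; simp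
  have hsurj : Function.Surjective φ := e.surjective.comp (QuotientGroup.mk'_surjective _)
  have hQS : Cfsg.pCore 2 ↥P ≤ S := by
    have hQ : IsPGroup 2 ↥(Cfsg.pCore 2 ↥P) := CfsgLib.CharP.pCore_isPGroup'
    rw [← sup_eq_right]
    exact S.is_maximal' (IsPGroup.to_sup_of_normal_left hQ S.isPGroup') le_sup_right
  have hmemS : ∀ p : ↥P, p ∈ (S : Subgroup ↥P) ↔ (p : G) ∈ P' := by
    intro p
    rw [hS, mem_subgroupOf, mem_inf]
    exact ⟨fun h => h.2, fun h => ⟨p.2, h⟩⟩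
  have hkQ : ∀ p : ↥P, φ p = 1 ↔ (p : G) ∈ Cfsg.pCoreOf 2 P := by
    intro p
    rw [← MonoidHom.mem_ker, hker]
    exact ⟨fun h => ⟨p, h, rfl⟩, fun ⟨q, hq, hqp⟩ => Subtype.coe_injective hqp ▸ hq⟩
  have hQT : ∀ q ∈ Cfsg.pCoreOf 2 P, q ∈ P ∧ q ∈ P' := by
    rintro _ ⟨q, hq, rfl⟩
    exact ⟨q.2, (hmemS q).mp (hQS hq)⟩
  have hne : ∃ t : ↥P, (t : G) ∈ P' ∧ φ t ≠ 1 := by
    by_contra h
    push Not at h
    have hle : (S : Subgroup ↥P) ≤ φ.ker := fun t ht => h t ((hmemS t).mp ht)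
    apply S.not_dvd_index
    refine dvd_trans ?_ (Subgroup.index_dvd_of_le hle)
    rw [Subgroup.index_ker, φ.range_eq_top.mpr hsurj,
      Nat.card_congr (Subgroup.topEquiv (G := Equiv.Perm (Fin 3))).toEquiv,
      Nat.card_eq_fintype_card, Fintype.card_perm, Fintype.card_fin]
    decide
  obtain ⟨t, ht, htne⟩ := hne
  have himg : IsPGroup 2 ↥((S : Subgroup ↥P).map φ) := S.isPGroup'.map φ
  have hinv : ∀ u : ↥P, (u : G) ∈ P' → φ u * φ u = 1 := by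
    intro u hu
    obtain ⟨k, hk⟩ := himg ⟨φ u, u, (hmemS u).mpr hu, rfl⟩
    have hk' : φ u ^ 2 ^ k = 1 := congrArg Subtype.val hk
    have h6 : φ u ^ 6 = 1 := by
      have := pow_card_eq_one (x := φ u)
      rwa [Fintype.card_perm, Fintype.card_fin] at this
    have h3 : Nat.gcd (2 ^ k) 6 ∣ 2 := by
      have h1 : Nat.gcd (2 ^ k) 6 ∣ 2 ^ k := Nat.gcd_dvd_left _ _
      have h2 : Nat.gcd (2 ^ k) 6 ∣ 2 * 3 := Nat.gcd_dvd_right _ _
      exact (Nat.Coprime.dvd_mul_right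
        ((Nat.Coprime.pow_left k (by decide : Nat.Coprime 2 3)).coprime_dvd_left h1)).mp h2
    have := orderOf_dvd_iff_pow_eq_one.mp
      ((Nat.dvd_gcd (orderOf_dvd_of_pow_eq_one hk') (orderOf_dvd_of_pow_eq_one h6)).trans h3)
    rwa [pow_two] at this
  obtain ⟨c, hc⟩ := CfsgLib.LocalStr.Cubic.perm3_pick (φ t) htne (hinv t ht)
  refine ⟨⟨_, rfl, φ, hsurj, c, hkQ, hQT,
    fun g hg q hq => (mem_normalizer_iff.mp (CfsgLib.CharP.le_normalizer_pCore_map P hg) q).mp hq,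
    ?_, ⟨t, ht, htne⟩, ?_⟩⟩
  · intro p
    rw [hc]
    constructor
    · intro hp
      by_contra hcon
      push Not at hcon
      have h1 := hinv p hp
      have h2 := hinv (t * p) (mul_mem ht hp)
      have h3 := hinv t ht
      rw [map_mul] at h2
      exact (CfsgLib.LocalStr.Cubic.perm3_invol _ _ htne h3 h1 h2).elim hcon.1 hcon.2
    · rintro (h | h)
      · exact (hQT _ ((hkQ p).mp h)).2
      · have h2 : φ (t⁻¹ * p) = 1 := by rw [map_mul, map_inv, h, inv_mul_cancel]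
        have := mul_mem ht (hQT _ ((hkQ _).mp h2)).2
        simpa using this
  · intro g hg
    obtain ⟨k, hk⟩ := S.isPGroup' ⟨⟨g, hg.1⟩, (hmemS _).mpr hg.2⟩
    exact ⟨k, congrArg (fun z : ↥(S : Subgroup ↥P) => ((z : ↥P) : G)) hk⟩

namespace Half

variable {G : Type*} [Group G] {P P' : Subgroup G} (H : Half P P')

theorem two_mem {a b : G} (ha : a ∈ P) (ha' : a ∈ P') (haQ : a ∉ H.Q) (hb : b ∈ P) (hb' : b ∈ P')
    (hbQ : b ∉ H.Q) : a * b ∈ H.Q := by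
  have hab := (H.ker (⟨a, ha⟩ * ⟨b, hb⟩)).mp (by
    rw [map_mul]
    exact CfsgLib.LocalStr.Cubic.perm3_two H.c _ _ ((H.mem _).mp ha') ((H.mem _).mp hb')
      (fun e => haQ ((H.ker ⟨a, ha⟩).mp e)) (fun e => hbQ ((H.ker ⟨b, hb⟩).mp e)))
  exact hab

include H in
/-- generated by the intersection and any element outside -/
theorem generate (K : Subgroup G) (hK : ∀ t ∈ P, t ∈ P' → t ∈ K) {s : G} (hs : s ∈ P) (hs' : s ∉ P')
    (hsK : s ∈ K) {g : G} (hg : g ∈ P) : g ∈ K := by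
  by_cases hg' : g ∈ P'
  · exact hK g hg hg'
  have h1 : H.φ ⟨s, hs⟩ H.c ≠ H.c := fun e => hs' ((H.mem ⟨s, hs⟩).mpr e)
  have h2 : H.φ ⟨g, hg⟩ H.c ≠ H.c := fun e => hg' ((H.mem ⟨g, hg⟩).mpr e)
  obtain ⟨π, hπc, hπ⟩ := CfsgLib.LocalStr.Cubic.perm3_move H.c _ _ h1 h2
  obtain ⟨t, rfl⟩ := H.surj π
  set r : ↥P := (t * ⟨s, hs⟩)⁻¹ * ⟨g, hg⟩ with hr
  have hr' : H.φ r H.c = H.c := by
    rw [hr, map_mul, map_inv, map_mul, Equiv.Perm.mul_apply, Equiv.Perm.inv_eq_iff_eq,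
      Equiv.Perm.mul_apply, hπ]
  have := mul_mem (mul_mem (hK t t.2 ((H.mem t).mpr hπc)) hsK) (hK r r.2 ((H.mem r).mpr hr'))
  rw [hr] at this
  simpa [mul_assoc] using this

section
variable {V : Type*} [MulAction G V] {Adj : V → V → Prop} {o o' : V}
  (hst : ∀ g : G, g • o = o ↔ g ∈ P) (hst' : ∀ g : G, g • o' = o' ↔ g ∈ P')
  (hadj : ∀ z, Adj o z ↔ ∃ p : ↥P, z = (p : G) • o')
include hst hst' hadj

theorem eq_iff (p p' : ↥P) : (p : G) • o' = (p' : G) • o' ↔ H.φ p H.c = H.φ p' H.c := by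
  rw [← inv_smul_eq_iff, ← mul_smul, hst', show (p' : G)⁻¹ * p = ((p'⁻¹ * p : ↥P) : G) by simp,
    H.mem, map_mul, map_inv, Equiv.Perm.mul_apply, Equiv.Perm.inv_eq_iff_eq]

include H in
theorem nbrs : ∃ a b c, Adj o a ∧ Adj o b ∧ Adj o c ∧ a ≠ b ∧ a ≠ c ∧ b ≠ c ∧
    ∀ d, Adj o d → d = a ∨ d = b ∨ d = c := by
  have hp : ∀ i : Fin 3, ∃ p : ↥P, H.φ p H.c = i := fun i => by
    obtain ⟨π, hπ⟩ := CfsgLib.LocalStr.Cubic.perm3_surj H.c i
    obtain ⟨p, rfl⟩ := H.surj π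
    exact ⟨p, hπ⟩
  choose p hp using hp
  have ne : ∀ i j : Fin 3, i ≠ j → (p i : G) • o' ≠ (p j : G) • o' := fun i j hij e => hij (by
    have := (H.eq_iff hst hst' hadj _ _).mp e
    rwa [hp, hp] at this)
  refine ⟨(p 0 : G) • o', (p 1 : G) • o', (p 2 : G) • o', (hadj _).mpr ⟨_, rfl⟩, (hadj _).mpr ⟨_, rfl⟩,
    (hadj _).mpr ⟨_, rfl⟩, ne 0 1 (by decide), ne 0 2 (by decide), ne 1 2 (by decide), fun d hd => ?_⟩
  obtain ⟨q, rfl⟩ := (hadj d).mp hd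
  rcases CfsgLib.LocalStr.Cubic.perm3_three 0 1 2 (H.φ q H.c) (by decide) (by decide) (by decide)
    with h | h | h
  · exact Or.inl ((H.eq_iff hst hst' hadj _ _).mpr (by rw [h, hp]))
  · exact Or.inr (Or.inl ((H.eq_iff hst hst' hadj _ _).mpr (by rw [h, hp])))
  · exact Or.inr (Or.inr ((H.eq_iff hst hst' hadj _ _).mpr (by rw [h, hp])))

include H in
theorem swap : ∃ (t : G) (y' : V), t • o = o ∧ t • o' = o' ∧ Adj o y' ∧ t • y' ≠ y' := by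
  obtain ⟨t, ht, htne⟩ := H.tau
  obtain ⟨d, hd⟩ : ∃ d, H.φ t d ≠ d := by
    by_contra h
    push Not at h
    exact htne (Equiv.ext h)
  obtain ⟨π, hπ⟩ := CfsgLib.LocalStr.Cubic.perm3_surj H.c d
  obtain ⟨p, rfl⟩ := H.surj π
  refine ⟨t, (p : G) • o', (hst _).mpr t.2, (hst' _).mpr ht, (hadj _).mpr ⟨p, rfl⟩, fun e => hd ?_⟩
  rw [← mul_smul] at e
  have := (H.eq_iff hst hst' hadj (t * p) p).mp e
  rwa [map_mul, Equiv.Perm.mul_apply, hπ] at this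

theorem kernel_iff {g : G} : (g • o = o ∧ ∀ y, Adj o y → g • y = y) ↔ g ∈ H.Q := by
  constructor
  · rintro ⟨hgo, hgy⟩
    refine (H.ker ⟨g, (hst g).mp hgo⟩).mp (Equiv.ext fun i => ?_)
    obtain ⟨π, hπ⟩ := CfsgLib.LocalStr.Cubic.perm3_surj H.c i
    obtain ⟨p, rfl⟩ := H.surj π
    have e := hgy _ ((hadj _).mpr ⟨p, rfl⟩)
    rw [← mul_smul] at e
    have := (H.eq_iff hst hst' hadj (⟨g, (hst g).mp hgo⟩ * p) p).mp e
    rw [map_mul, Equiv.Perm.mul_apply, hπ] at this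
    rw [this, Equiv.Perm.one_apply]
  · intro hg
    have hgP := (H.Q_mem g hg).1
    refine ⟨(hst g).mpr hgP, fun y hy => ?_⟩
    obtain ⟨p, rfl⟩ := (hadj y).mp hy
    rw [← mul_smul]
    refine (H.eq_iff hst hst' hadj (⟨g, hgP⟩ * p) p).mpr ?_
    rw [map_mul, (H.ker ⟨g, hgP⟩).mpr hg, one_mul]

end

end Half

open Cfsg CfsgLib.Amalgam MulAction in
/-- the geometry of the coset graph -/
theorem exists_geo {G : Type*} [Group G] {M₁ M₂ : Subgroup G} [Finite ↥M₁] [Finite ↥M₂]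
    (H₁ : Half M₁ M₂) (H₂ : Half M₂ M₁) (hgen : M₁ ⊔ M₂ = ⊤)
    (hcore : ∀ N : Subgroup G, N ≤ M₁ ⊓ M₂ → (∀ g ∈ M₁, ∀ n ∈ N, g * n * g⁻¹ ∈ N) →
      (∀ g ∈ M₂, ∀ n ∈ N, g * n * g⁻¹ ∈ N) → N = ⊥)
    (hc₁ : ∀ g ∈ M₁, (∀ q ∈ H₁.Q, Commute g q) → g ∈ H₁.Q)
    (hc₂ : ∀ g ∈ M₂, (∀ q ∈ H₂.Q, Commute g q) → g ∈ H₂.Q)
    (hA : ∃ d ∈ M₁ ⊓ M₂, d * d = 1 ∧ (∀ t ∈ M₁ ⊓ M₂, Commute t d) ∧ ∃ g ∈ M₁, ¬ Commute g d)
    (hB : ∀ d ∈ M₁ ⊓ M₂, d * d = 1 → (∀ t ∈ M₁ ⊓ M₂, Commute t d) → ∀ g ∈ M₂, Commute g d) :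
    ∃ A : Geo G (CosetVertex M₁ M₂), A.Adj (vL M₁ M₂ 1) (vR M₁ M₂ 1) ∧ A.isA (vL M₁ M₂ 1) := by
  set o₁ := vL M₁ M₂ (1 : G)
  set o₂ := vR M₁ M₂ (1 : G)
  have st₁ : ∀ g : G, g • o₁ = o₁ ↔ g ∈ M₁ := fun g => by
    rw [← mem_stabilizer_iff, stabilizer_vL, CfsgLib.LocalEven.cj_one]
  have st₂ : ∀ g : G, g • o₂ = o₂ ↔ g ∈ M₂ := fun g => by
    rw [← mem_stabilizer_iff, stabilizer_vR, CfsgLib.LocalEven.cj_one]
  have hL : ∀ g : G, vL M₁ M₂ g = g • o₁ := fun g => by rw [smul_vL, mul_one]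
  have hR : ∀ g : G, vR M₁ M₂ g = g • o₂ := fun g => by rw [smul_vR, mul_one]
  let Adj := (cosetGraph M₁ M₂).Adj
  have edge : ∀ {x y}, Adj x y → ∃ g : G, (x = g • o₁ ∧ y = g • o₂) ∨ (x = g • o₂ ∧ y = g • o₁) := by
    intro x y h
    obtain ⟨g, ⟨h1, h2⟩ | ⟨h1, h2⟩⟩ := adj_iff.mp h
    · exact ⟨g, Or.inl ⟨h1.trans (hL g), h2.trans (hR g)⟩⟩
    · exact ⟨g, Or.inr ⟨h2.trans (hR g), h1.trans (hL g)⟩⟩
  have base : Adj o₁ o₂ := adj_iff.mpr ⟨1, Or.inl ⟨rfl, rfl⟩⟩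
  have nb₁ : ∀ z, Adj o₁ z ↔ ∃ p : ↥M₁, z = (p : G) • o₂ := by
    intro z
    constructor
    · intro h
      obtain ⟨g, hg, rfl⟩ := neighbours_transitive o₁ o₂ z base h
      exact ⟨⟨g, (st₁ g).mp (mem_stabilizer_iff.mp hg)⟩, rfl⟩
    · rintro ⟨p, rfl⟩
      have := CfsgLib.Amalgam.adj_smul (p : G) base
      rwa [(st₁ p).mpr p.2] at this
  have nb₂ : ∀ z, Adj o₂ z ↔ ∃ p : ↥M₂, z = (p : G) • o₁ := by
    intro z
    constructor
    · intro h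
      obtain ⟨g, hg, rfl⟩ := neighbours_transitive o₂ o₁ z base.symm h
      exact ⟨⟨g, (st₂ g).mp (mem_stabilizer_iff.mp hg)⟩, rfl⟩
    · rintro ⟨p, rfl⟩
      have := CfsgLib.Amalgam.adj_smul (p : G) base.symm
      rwa [(st₂ p).mpr p.2] at this
  have rep : ∀ x : CosetVertex M₁ M₂, ∃ g : G, x = g • o₁ ∨ x = g • o₂ := fun x => by
    obtain ⟨g, h | h⟩ := exists_rep x
    · exact ⟨g, Or.inl (h.trans (hL g))⟩
    · exact ⟨g, Or.inr (h.trans (hR g))⟩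
  let isA : CosetVertex M₁ M₂ → Prop := fun x => x.isLeft = true
  have isA_smul : ∀ (g : G) (x : CosetVertex M₁ M₂), isA (g • x) ↔ isA x := by
    rintro g (x | x) <;> exact Iff.rfl
  have iso : ∀ (g a : G) (o : CosetVertex M₁ M₂), a • g • o = g • o ↔ (g⁻¹ * a * g) • o = o := fun g a o => by
    rw [mul_smul, mul_smul, inv_smul_eq_iff]
  have conjc : ∀ {g u w : G}, Commute (g⁻¹ * u * g) (g⁻¹ * w * g) → Commute u w := fun {g u w} h => by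
    have := h.map (MulAut.conj g).toMonoidHom
    simpa [mul_assoc] using this
  refine ⟨{
    Adj := Adj
    isA := isA
    symm := fun h => h.symm
    adj_smul := fun g _ _ h => CfsgLib.Amalgam.adj_smul g h
    isA_smul := isA_smul
    alt := ?_, trans_type := ?_
    trans := fun h h' => by
      obtain ⟨g, hg, hg'⟩ := neighbours_transitive _ _ _ h h'
      exact ⟨g, mem_stabilizer_iff.mp hg, hg'⟩
    nbrs := ?_, swap := ?_, fin := ?_, two_power := ?_, char2 := ?_, core := ?_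
    conn := fun x y => (SimpleGraph.reachable_iff_reflTransGen x y).mp ((connected hgen).preconnected x y)
    exists_A := ⟨o₁, rfl⟩
    hA := ?_, hB := ?_ }, base, rfl⟩
  · intro x y h
    obtain ⟨g, ⟨rfl, rfl⟩ | ⟨rfl, rfl⟩⟩ := edge h <;> rw [isA_smul, isA_smul] <;> simp [isA, o₁, o₂]
  · intro x y h
    obtain ⟨g, rfl | rfl⟩ := rep x <;> obtain ⟨g', rfl | rfl⟩ := rep y
    · exact ⟨g' * g⁻¹, by rw [mul_smul, inv_smul_smul]⟩
    · rw [isA_smul, isA_smul] at h; simp [isA, o₁, o₂] at h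
    · rw [isA_smul, isA_smul] at h; simp [isA, o₁, o₂] at h
    · exact ⟨g' * g⁻¹, by rw [mul_smul, inv_smul_smul]⟩
  · intro x
    have tr : ∀ (g : G) (o : CosetVertex M₁ M₂),
        (∃ a b c, Adj o a ∧ Adj o b ∧ Adj o c ∧ a ≠ b ∧ a ≠ c ∧ b ≠ c ∧
          ∀ d, Adj o d → d = a ∨ d = b ∨ d = c) →
        ∃ a b c, Adj (g • o) a ∧ Adj (g • o) b ∧ Adj (g • o) c ∧ a ≠ b ∧ a ≠ c ∧ b ≠ c ∧
          ∀ d, Adj (g • o) d → d = a ∨ d = b ∨ d = c := by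
      rintro g o ⟨a, b, c, ha, hb, hc, n1, n2, n3, hall⟩
      refine ⟨g • a, g • b, g • c, CfsgLib.Amalgam.adj_smul g ha, CfsgLib.Amalgam.adj_smul g hb,
        CfsgLib.Amalgam.adj_smul g hc, fun e => n1 (MulAction.injective g e),
        fun e => n2 (MulAction.injective g e), fun e => n3 (MulAction.injective g e), fun d hd => ?_⟩
      have := CfsgLib.Amalgam.adj_smul g⁻¹ hd
      rw [inv_smul_smul] at this
      rcases hall _ this with h | h | h <;> rw [inv_smul_eq_iff] at h <;> simp [h]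
    obtain ⟨g, rfl | rfl⟩ := rep x
    · exact tr g o₁ (H₁.nbrs st₁ st₂ nb₁)
    · exact tr g o₂ (H₂.nbrs st₂ st₁ nb₂)
  · intro x y h
    have tr : ∀ (g : G) (o o' : CosetVertex M₁ M₂),
        (∃ (t : G) (y' : CosetVertex M₁ M₂), t • o = o ∧ t • o' = o' ∧ Adj o y' ∧ t • y' ≠ y') →
        ∃ (t : G) (y' : CosetVertex M₁ M₂),
          t • g • o = g • o ∧ t • g • o' = g • o' ∧ Adj (g • o) y' ∧ t • y' ≠ y' := by
      rintro g o o' ⟨t, y', h1, h2, h3, h4⟩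
      refine ⟨g * t * g⁻¹, g • y', ?_, ?_, CfsgLib.Amalgam.adj_smul g h3, fun e => h4 ?_⟩
      · rw [mul_smul, mul_smul, inv_smul_smul, h1]
      · rw [mul_smul, mul_smul, inv_smul_smul, h2]
      · rw [mul_smul, mul_smul, inv_smul_smul] at e
        exact MulAction.injective g e
    obtain ⟨g, ⟨rfl, rfl⟩ | ⟨rfl, rfl⟩⟩ := edge h
    · exact tr g o₁ o₂ (H₁.swap st₁ st₂ nb₁)
    · exact tr g o₂ o₁ (H₂.swap st₂ st₁ nb₂)
  · intro x
    obtain ⟨g, rfl | rfl⟩ := rep x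
    · exact Finite.of_injective (β := ↥M₁)
        (fun a => ⟨g⁻¹ * a * g, (st₁ _).mp ((iso g a o₁).mp a.2)⟩)
        fun a b e => Subtype.ext (by simpa using congrArg Subtype.val e)
    · exact Finite.of_injective (β := ↥M₂)
        (fun a => ⟨g⁻¹ * a * g, (st₂ _).mp ((iso g a o₂).mp a.2)⟩)
        fun a b e => Subtype.ext (by simpa using congrArg Subtype.val e)
  · intro x y h a hax hay
    have key : ∀ g : G, (g⁻¹ * a * g) ∈ M₁ ⊓ M₂ → ∃ k : ℕ, a ^ 2 ^ k = 1 := by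
      intro g hg
      obtain ⟨k, hk⟩ := H₁.two _ hg
      refine ⟨k, ?_⟩
      have := conj_pow (i := 2 ^ k) (a := g) (b := g⁻¹ * a * g)
      rw [hk, mul_one, mul_inv_cancel, show g * (g⁻¹ * a * g) * g⁻¹ = a by group] at this
      exact this
    obtain ⟨g, ⟨rfl, rfl⟩ | ⟨rfl, rfl⟩⟩ := edge h <;> rw [iso] at hax hay
    · exact key g ⟨(st₁ _).mp hax, (st₂ _).mp hay⟩
    · exact key g ⟨(st₁ _).mp hay, (st₂ _).mp hax⟩
  · intro x a hax hcomm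
    have key : ∀ (g : G) (o : CosetVertex M₁ M₂) (P : Subgroup G) (Q : Subgroup G),
        (∀ b : G, b • o = o ↔ b ∈ P) →
        (∀ b : G, (b • o = o ∧ ∀ y, Adj o y → b • y = y) ↔ b ∈ Q) →
        (∀ b ∈ P, (∀ q ∈ Q, Commute b q) → b ∈ Q) →
        a • g • o = g • o →
        (∀ q : G, q • g • o = g • o → (∀ y, Adj (g • o) y → q • y = y) → Commute a q) →
        ∀ y, Adj (g • o) y → a • y = y := by
      intro g o P Q hP hQ hc hax hcomm y hy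
      have hy' : Adj o (g⁻¹ • y) := by
        have := CfsgLib.Amalgam.adj_smul g⁻¹ hy
        rwa [inv_smul_smul] at this
      have h1 : g⁻¹ * a * g ∈ Q := by
        refine hc _ ((hP _).mp ((iso g a o).mp hax)) fun q hq => ?_
        obtain ⟨hq1, hq2⟩ := (hQ q).mpr hq
        refine conjc (g := g⁻¹) ?_
        have := hcomm (g * q * g⁻¹) (by rw [mul_smul, mul_smul, inv_smul_smul, hq1]) (fun z hz => by
          have h' := CfsgLib.Amalgam.adj_smul g⁻¹ hz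
          rw [inv_smul_smul] at h'
          rw [mul_smul, mul_smul, hq2 _ h', smul_inv_smul])
        simpa [mul_assoc] using this
      have := ((hQ _).mpr h1).2 _ hy'
      rwa [mul_smul, mul_smul, smul_inv_smul, inv_smul_eq_iff, smul_inv_smul] at this
    obtain ⟨g, rfl | rfl⟩ := rep x
    · exact key g o₁ M₁ H₁.Q st₁ (fun b => H₁.kernel_iff st₁ st₂ nb₁) hc₁ hax hcomm
    · exact key g o₂ M₂ H₂.Q st₂ (fun b => H₂.kernel_iff st₂ st₁ nb₂) hc₂ hax hcomm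
  · intro x y N h hfix hnx hny
    have key : ∀ g : G, (∀ n ∈ N, n • g • o₁ = g • o₁ ∧ n • g • o₂ = g • o₂) →
        (∀ a : G, a • g • o₁ = g • o₁ → ∀ n ∈ N, a * n * a⁻¹ ∈ N) →
        (∀ a : G, a • g • o₂ = g • o₂ → ∀ n ∈ N, a * n * a⁻¹ ∈ N) → N = ⊥ := by
      intro g hfix h1 h2
      let N' : Subgroup G := N.comap (MulAut.conj g).toMonoidHom
      have hN' : ∀ n, n ∈ N' ↔ g * n * g⁻¹ ∈ N := fun n => Iff.rfl
      have conj' : ∀ (o : CosetVertex M₁ M₂) (P : Subgroup G), (∀ b : G, b • o = o ↔ b ∈ P) →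
          (∀ a : G, a • g • o = g • o → ∀ n ∈ N, a * n * a⁻¹ ∈ N) →
          ∀ a ∈ P, ∀ n ∈ N', a * n * a⁻¹ ∈ N' := by
        intro o P hP ho a ha n hn
        rw [hN'] at hn ⊢
        have := ho (g * a * g⁻¹) (by rw [mul_smul, mul_smul, inv_smul_smul, (hP a).mpr ha]) _ hn
        simpa [mul_assoc] using this
      have hbot := hcore N' (fun n hn => by
        obtain ⟨f1, f2⟩ := hfix _ ((hN' n).mp hn)
        rw [mul_smul, mul_smul, inv_smul_smul] at f1 f2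
        exact ⟨(st₁ n).mp (MulAction.injective g f1), (st₂ n).mp (MulAction.injective g f2)⟩)
        (conj' o₁ M₁ st₁ h1) (conj' o₂ M₂ st₂ h2)
      rw [eq_bot_iff]
      intro n hn
      have : g⁻¹ * n * g ∈ N' := (hN' _).mpr (by simpa [mul_assoc] using hn)
      rw [hbot, Subgroup.mem_bot] at this
      rw [Subgroup.mem_bot, show n = g * (g⁻¹ * n * g) * g⁻¹ by group, this]
      group
    obtain ⟨g, ⟨rfl, rfl⟩ | ⟨rfl, rfl⟩⟩ := edge h
    · exact key g hfix hnx hny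
    · exact key g (fun n hn => (hfix n hn).symm) hny hnx
  · intro x y h hx
    obtain ⟨g, ⟨rfl, rfl⟩ | ⟨rfl, rfl⟩⟩ := edge h
    · obtain ⟨d, hd, hdd, hdc, k, hk, hkd⟩ := hA
      refine ⟨g * d * g⁻¹, ?_, ?_, ?_, fun t t1 t2 => ?_, g * k * g⁻¹, ?_, fun e => hkd ?_⟩
      · rw [mul_smul, mul_smul, inv_smul_smul, (st₁ d).mpr hd.1]
      · rw [mul_smul, mul_smul, inv_smul_smul, (st₂ d).mpr hd.2]
      · rw [show g * d * g⁻¹ * (g * d * g⁻¹) = g * (d * d) * g⁻¹ by group, hdd]; simp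
      · refine conjc (g := g) ?_
        rw [show g⁻¹ * (g * d * g⁻¹) * g = d by group]
        exact hdc _ ⟨(st₁ _).mp ((iso g t o₁).mp t1), (st₂ _).mp ((iso g t o₂).mp t2)⟩
      · rw [mul_smul, mul_smul, inv_smul_smul, (st₁ k).mpr hk]
      · have := e.map (MulAut.conj g⁻¹).toMonoidHom
        simpa [mul_assoc] using this
    · rw [isA_smul] at hx; simp [isA, o₂] at hx
  · intro α β h hβ
    obtain ⟨g, ⟨rfl, rfl⟩ | ⟨rfl, rfl⟩⟩ := edge h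
    · rw [isA_smul] at hβ; simp [isA, o₁] at hβ
    · intro d d2 d1 hdd hdc k hk
      refine conjc (g := g) (hB (g⁻¹ * d * g)
        ⟨(st₁ _).mp ((iso g d o₁).mp d1), (st₂ _).mp ((iso g d o₂).mp d2)⟩ ?_ (fun t ht => ?_) _
        ((st₂ _).mp ((iso g k o₂).mp hk)))
      · rw [show g⁻¹ * d * g * (g⁻¹ * d * g) = g⁻¹ * (d * d) * g by group, hdd]; simp
      · have := (hdc (g * t * g⁻¹) (by rw [mul_smul, mul_smul, inv_smul_smul, (st₂ t).mpr ht.2])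
          (by rw [mul_smul, mul_smul, inv_smul_smul, (st₁ t).mpr ht.1])).map (MulAut.conj g⁻¹).toMonoidHom
        simpa [mul_assoc] using this

end CfsgLib.A33
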