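import Cfsg.Agent.Lib.Amalgam33.Common

/-!
Odd critical distance, small `W`: basic facts.
-/

set_option autoImplicit false
set_option linter.style.haveILetI false
set_option linter.unusedSectionVars false
set_option maxHeartbeats 800000

namespace CfsgLib.A33

open Subgroup

namespace Geo

variable {G : Type*} [Group G] {V : Type*} [MulAction G V] (A : Geo G V)

/-- the kernel elements centralising `W` -/
def C (x : V) : Subgroup G := A.Q x ⊓ centralizer (A.W x : Set G)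

theorem C_comm {x : V} {q h : G} (hq : q ∈ A.C x) (hh : h ∈ A.W x) : Commute q h := (hq.2 h hh).symm

theorem C_conj_mem {g q : G} {x : V} (hq : q ∈ A.C x) : g * q * g⁻¹ ∈ A.C (g • x) := by
  refine Subgroup.mem_inf.mpr ⟨(A.Q_smul_iff g x _).mpr (by simpa [mul_assoc] using hq.1), fun h hh => ?_⟩
  have := hq.2 _ ((A.W_smul_iff g x h).mp hh)
  calc h * (g * q * g⁻¹) = g * ((g⁻¹ * h * g) * q) * g⁻¹ := by group
    _ = g * (q * (g⁻¹ * h * g)) * g⁻¹ := by rw [this]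
    _ = g * q * g⁻¹ * h := by group

theorem C_conj {g q : G} {x : V} (hg : g • x = x) (hq : q ∈ A.C x) : g * q * g⁻¹ ∈ A.C x := by
  have := A.C_conj_mem (g := g) hq
  rwa [hg] at this

theorem C_smul_iff (g : G) (x : V) (h : G) : h ∈ A.C (g • x) ↔ g⁻¹ * h * g ∈ A.C x := by
  constructor
  · intro hh
    have := A.C_conj_mem (g := g⁻¹) hh
    rwa [inv_smul_smul, inv_inv] at this
  · intro hh
    have := A.C_conj_mem (g := g) hh
    simpa [mul_assoc] using this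

theorem C_le_Q {x ν : V} (h : A.Adj x ν) (hx : ¬ A.isA x) {q : G} (hq : q ∈ A.C x) : q ∈ A.Q ν :=
  A.mem_Q_of_comm_Z (A.isA_of_not h hx) (A.fix h hq.1) fun _ hz => A.C_comm hq (A.Z_le_W h hz)

theorem mem_C_of_comm {x : V} (hx : ¬ A.isA x) {q : G} (hqx : q • x = x)
    (hc : ∀ h ∈ A.W x, Commute q h) : q ∈ A.C x := by
  refine Subgroup.mem_inf.mpr ⟨⟨hqx, fun ν hν => ?_⟩, fun h hh => (hc h hh).eq.symm⟩
  by_contra hne
  refine A.Z_ne hν (A.adj_of_fix hqx hν) (Ne.symm hne) (A.isA_of_not hν hx) ?_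
  ext z
  rw [A.Z_smul_iff]
  constructor
  · intro hz
    rwa [mul_assoc, ← (hc z (A.Z_le_W hν hz)).eq, inv_mul_cancel_left]
  · intro hz
    have h2 := hc _ (A.Z_le_W hν hz)
    have h3 : q * (q⁻¹ * z * q) * q⁻¹ = q⁻¹ * z * q := by rw [h2.eq, mul_inv_cancel_right]
    rw [show q * (q⁻¹ * z * q) * q⁻¹ = z by group] at h3
    rwa [← h3] at hz

/-- elements acting trivially on a section -/
def actTrivOn (_A : Geo G V) (x : V) (H U : Subgroup G)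
    (hH : ∀ g : G, g • x = x → ∀ q ∈ H, g * q * g⁻¹ ∈ H)
    (hU : ∀ g : G, g • x = x → ∀ u ∈ U, g * u * g⁻¹ ∈ U) : Subgroup G where
  carrier := {g | g • x = x ∧ ∀ q ∈ H, q⁻¹ * (g * q * g⁻¹) ∈ U}
  one_mem' := ⟨one_smul _ _, fun q _ => by simp [one_mem]⟩
  mul_mem' := fun {a b} ha hb => ⟨by rw [mul_smul, hb.1, ha.1], fun q hq => by
    have := mul_mem (ha.2 q hq) (hU a ha.1 _ (hb.2 q hq))
    rwa [show q⁻¹ * (a * q * a⁻¹) * (a * (q⁻¹ * (b * q * b⁻¹)) * a⁻¹) =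
      q⁻¹ * (a * b * q * (a * b)⁻¹) by group] at this⟩
  inv_mem' := fun {a} ha => ⟨inv_smul_eq_iff.mpr ha.1.symm, fun q hq => by
    have h1 := ha.2 _ (hH a⁻¹ (inv_smul_eq_iff.mpr ha.1.symm) q hq)
    have h2 := inv_mem h1
    rwa [show ((a⁻¹ * q * a⁻¹⁻¹)⁻¹ * (a * (a⁻¹ * q * a⁻¹⁻¹) * a⁻¹))⁻¹ =
      q⁻¹ * (a⁻¹ * q * a⁻¹⁻¹) by group] at h2⟩

theorem actTrivOn_conj {x : V} {H U : Subgroup G}
    {hH : ∀ g : G, g • x = x → ∀ q ∈ H, g * q * g⁻¹ ∈ H}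
    {hU : ∀ g : G, g • x = x → ∀ u ∈ U, g * u * g⁻¹ ∈ U} {g n : G} (hg : g • x = x)
    (hn : n ∈ A.actTrivOn x H U hH hU) : g * n * g⁻¹ ∈ A.actTrivOn x H U hH hU := by
  refine ⟨by rw [mul_smul, mul_smul, inv_smul_eq_iff.mpr hg.symm, hn.1, hg], fun q hq => ?_⟩
  have := hU g hg _ (hn.2 _ (hH g⁻¹ (inv_smul_eq_iff.mpr hg.symm) q hq))
  rwa [show g * ((g⁻¹ * q * g⁻¹⁻¹)⁻¹ * (n * (g⁻¹ * q * g⁻¹⁻¹) * n⁻¹)) * g⁻¹ =
    q⁻¹ * (g * n * g⁻¹ * q * (g * n * g⁻¹)⁻¹) by group] at this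

section
variable {b : ℕ} (hs : A.Short b) (hb : 3 ≤ b) (hS : A.Small) (h8 : A.Eight)
include hs hb hS h8

theorem eight_rep {β α γ δ : V} (h1 : A.Adj β α) (h2 : A.Adj β γ) (h3 : A.Adj β δ) (n1 : α ≠ γ)
    (n2 : α ≠ δ) (n3 : γ ≠ δ) (hβ : ¬ A.isA β) {x y : G} (hx : x ∈ A.Z α) (hx' : x ∉ A.O β)
    (hy : y ∈ A.Z γ) (hy' : y ∉ A.O β) : x * y ∈ A.Z δ ∧ x * y ∉ A.O β := by
  obtain ⟨g, hg, hg'⟩ := A.exists_rep_Z (A.symm h3) (A.isA_of_not h3 hβ)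
  have hO := h8 β _ hβ ⟨α, γ, δ, x, y, g, h1, h2, h3, n1, n2, n3, hx, hx', hy, hy', hg, hg', rfl⟩
  constructor
  · have := mul_mem (A.O_le_Z (A.symm h3) (A.isA_of_not h3 hβ) hO) hg
    rwa [mul_assoc, A.Z_sq hg, mul_one] at this
  · intro h
    refine hg' ?_
    have := mul_mem (inv_mem h) hO
    rwa [inv_mul_cancel_left] at this

theorem W_two' {β α γ : V} (h1 : A.Adj β α) (h2 : A.Adj β γ) (hne : α ≠ γ) (hβ : ¬ A.isA β) {y : G}
    (hy : y ∈ A.Z γ) (hy' : y ∉ A.O β) {h : G} (hh : h ∈ A.W β) : h ∈ A.Z α ∨ h * y ∈ A.Z α := by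
  obtain ⟨δ, h3, n2, n3, -⟩ := A.third h1 h2 hne
  obtain ⟨x, hx, hx'⟩ := A.exists_rep_Z (A.symm h1) (A.isA_of_not h1 hβ)
  obtain ⟨hw, hw'⟩ := A.eight_rep hs hb hS h8 h1 h2 h3 hne n2.symm n3.symm hβ hx hx' hy hy'
  have hxW := A.Z_le_W h1 hx
  have hyW := A.Z_le_W h2 hy
  rcases A.W_in_adjoin hs hb hS hβ h1 h2 h3 hne n2.symm n3.symm hy hy' hw hw' hh with k | k | k | k
  · exact Or.inl k
  · exact Or.inr k
  · refine Or.inr ?_
    have := mul_mem k hx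
    rwa [show h * (x * y) * x = h * (x * (y * x)) by group, (A.W_comm hs hb hβ hyW hxW).eq,
      show x * (x * y) = (x * x) * y by group, A.Z_sq hx, one_mul] at this
  · refine Or.inl ?_
    have := mul_mem k hx
    rwa [show h * (x * y) * y * x = h * x * (y * y) * x by group, A.Z_sq hy, mul_one, mul_assoc,
      A.Z_sq hx, mul_one] at this

theorem W_cover {β : V} (hβ : ¬ A.isA β) {h : G} (hh : h ∈ A.W β) :
    ∃ ν, A.Adj β ν ∧ h ∈ A.Z ν := by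
  obtain ⟨α, γ, δ, h1, h2, h3, n1, n2, n3, -⟩ := A.nbrs β
  obtain ⟨y, hy, hy'⟩ := A.exists_rep_Z (A.symm h2) (A.isA_of_not h2 hβ)
  rcases A.W_two' hs hb hS h8 h1 h2 n1 hβ hy hy' hh with k | k
  · exact ⟨α, h1, k⟩
  have e : h = h * y * y := by rw [mul_assoc, A.Z_sq hy, mul_one]
  by_cases hO : h * y ∈ A.O β
  · exact ⟨γ, h2, e ▸ mul_mem (A.O_le_Z (A.symm h2) (A.isA_of_not h2 hβ) hO) hy⟩
  · exact ⟨δ, h3, e ▸ (A.eight_rep hs hb hS h8 h1 h2 h3 n1 n2 n3 hβ k hO hy hy').1⟩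

theorem mem_C_of_two {β α γ : V} (h1 : A.Adj β α) (h2 : A.Adj β γ) (hne : α ≠ γ) (hβ : ¬ A.isA β)
    {q : G} (hq1 : q ∈ A.Q α) (hq2 : q ∈ A.Q γ) : q ∈ A.C β := by
  refine A.mem_C_of_comm hβ (A.fix (A.symm h1) hq1) fun h hh => ?_
  obtain ⟨y, hy, hy'⟩ := A.exists_rep_Z (A.symm h2) (A.isA_of_not h2 hβ)
  rcases A.W_two' hs hb hS h8 h1 h2 hne hβ hy hy' hh with k | k
  · exact A.Z_central k hq1
  · have := (A.Z_central k hq1).mul_right (A.Z_central hy hq2)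
    rwa [mul_assoc, A.Z_sq hy, mul_one] at this

/-- the three meets are different -/
theorem DB {β α γ : V} (h1 : A.Adj β α) (h2 : A.Adj β γ) (hne : α ≠ γ) (hβ : ¬ A.isA β) :
    ∃ q ∈ A.Q β, q ∈ A.Q α ∧ q ∉ A.Q γ := by
  by_contra hcon
  push Not at hcon
  obtain ⟨δ, h3, n2, n3, -⟩ := A.third h1 h2 hne
  obtain ⟨q, hq, hqα⟩ := A.ne_Q h1
  have hall : ∀ ν ν', A.Adj β ν → A.Adj β ν' → ν ≠ ν' → ∀ p ∈ A.Q β, p ∈ A.Q ν → p ∈ A.Q ν' := by
    intro ν ν' hν hν' hne' p hp hpν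
    obtain ⟨g, g1, g0, g2⟩ := A.pair_trans (Iff.refl (A.isA β)) h1 h2 hne hν hν' hne'
    rw [← g0, A.Q_smul_iff] at hpν
    rw [← g2, A.Q_smul_iff]
    exact hcon _ (A.Q_conj' g1 hp) hpν
  have key : ∀ ν, A.Adj β ν → ∀ x ∈ A.Z ν, x ∉ A.O β →
      x * (q * x * q⁻¹) ∈ A.O β ∧ x * (q * x * q⁻¹) ≠ 1 := by
    intro ν hν x hx hx'
    have hνA := A.isA_of_not hν hβ
    refine ⟨A.Z_bracket (A.symm hν) hνA hx (A.fix hν hq) hq.1, fun h => hx' ?_⟩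
    have hqν : q ∉ A.Q ν := by
      intro hh
      by_cases he : ν = α
      · exact hqα (he ▸ hh)
      · exact hqα (hall ν α hν h1 he q hq hh)
    exact A.Z_comm_mem_O (A.symm hν) hνA hx (A.fix hν hq) hq.1 hqν
      (mul_inv_eq_iff_eq_mul.mp (by rw [eq_inv_of_mul_eq_one_right h, A.Z_inv hx]))
  obtain ⟨x, hx, hx'⟩ := A.exists_rep_Z (A.symm h1) (A.isA_of_not h1 hβ)
  obtain ⟨y, hy, hy'⟩ := A.exists_rep_Z (A.symm h2) (A.isA_of_not h2 hβ)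
  obtain ⟨hw, hw'⟩ := A.eight_rep hs hb hS h8 h1 h2 h3 hne n2.symm n3.symm hβ hx hx' hy hy'
  obtain ⟨kx, kx'⟩ := key α h1 x hx hx'
  obtain ⟨ky, ky'⟩ := key γ h2 y hy hy'
  obtain ⟨-, kw'⟩ := key δ h3 _ hw hw'
  refine kw' ?_
  have e := A.O_unique hS hβ kx kx' ky ky'
  have hc : Commute y (q * x * q⁻¹) :=
    A.W_comm hs hb hβ (A.Z_le_W h2 hy) (A.W_conj hq.1 (A.Z_le_W h1 hx))
  calc x * y * (q * (x * y) * q⁻¹) = x * (y * (q * x * q⁻¹)) * (q * y * q⁻¹) := by group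
    _ = (x * (q * x * q⁻¹)) * (y * (q * y * q⁻¹)) := by rw [hc.eq]; group
    _ = 1 := by rw [e, A.O_sq ky]

/-- paths of length four with middle vertex of type B are conjugate -/
theorem tr_four {β ν₁ ν₂ κ₁ κ₂ : V} (hβ : ¬ A.isA β) (h1 : A.Adj β ν₁) (h2 : A.Adj β ν₂) (hne : ν₁ ≠ ν₂)
    (k1 : A.Adj ν₁ κ₁) (k1' : κ₁ ≠ β) (k2 : A.Adj ν₂ κ₂) (k2' : κ₂ ≠ β) {β' ν₁' ν₂' κ₁' κ₂' : V}
    (hβ' : ¬ A.isA β') (h1' : A.Adj β' ν₁') (h2' : A.Adj β' ν₂') (hne' : ν₁' ≠ ν₂') (m1 : A.Adj ν₁' κ₁')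
    (m1' : κ₁' ≠ β') (m2 : A.Adj ν₂' κ₂') (m2' : κ₂' ≠ β') :
    ∃ g : G, g • β = β' ∧ g • ν₁ = ν₁' ∧ g • ν₂ = ν₂' ∧ g • κ₁ = κ₁' ∧ g • κ₂ = κ₂' := by
  obtain ⟨g, g0, g1, g2⟩ := A.pair_trans (iff_of_false hβ hβ') h1 h2 hne h1' h2' hne'
  have key : ∀ (ν ν' z z' : V), A.Adj β' ν → A.Adj β' ν' → ν ≠ ν' → A.Adj ν z → A.Adj ν z' → z ≠ β' →
      z' ≠ β' → ∃ q : G, q ∈ A.Q β' ∧ q • z = z' ∧ ∀ κ, A.Adj ν' κ → q • κ = κ := by
    intro ν ν' z z' hν hν' hνν hz hz' hzβ hz'β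
    by_cases he : z = z'
    · exact ⟨1, one_mem _, by rw [he, one_smul], fun κ _ => one_smul _ _⟩
    obtain ⟨q, hq, hqν', hqν⟩ := A.DB hs hb hS h8 hν' hν hνν.symm hβ'
    refine ⟨q, hq, ?_, fun κ hκ => A.fix hκ hqν'⟩
    exact A.swap_eq (A.symm hν) hz hz' hzβ hz'β he (A.fix hν hq) hq.1
      (A.move (A.symm hν) hz hzβ (A.fix hν hq) hq.1 hqν)
  have j1 : A.Adj ν₁' (g • κ₁) := g1 ▸ A.adj_smul g k1
  have j1' : g • κ₁ ≠ β' := fun e => k1' (MulAction.injective g (e.trans g0.symm))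
  have j2 : A.Adj ν₂' (g • κ₂) := g2 ▸ A.adj_smul g k2
  have j2' : g • κ₂ ≠ β' := fun e => k2' (MulAction.injective g (e.trans g0.symm))
  obtain ⟨q, hq, hqz, hqfix⟩ := key ν₁' ν₂' _ _ h1' h2' hne' j1 m1 j1' m1'
  obtain ⟨p, hp, hpz, hpfix⟩ := key ν₂' ν₁' _ _ h2' h1' hne'.symm j2 m2 j2' m2'
  refine ⟨p * q * g, ?_, ?_, ?_, ?_, ?_⟩
  · rw [mul_smul, mul_smul, g0, hq.1, hp.1]
  · rw [mul_smul, mul_smul, g1, A.fix h1' hq, A.fix h1' hp]
  · rw [mul_smul, mul_smul, g2, A.fix h2' hq, A.fix h2' hp]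
  · rw [mul_smul, mul_smul, hqz, hpfix _ m1]
  · rw [mul_smul, mul_smul, hqfix _ j2, hpz]

section
variable {v : ℕ → V} (hc : A.Crit b v) (hodd : b % 2 = 1)
include hc hodd

theorem hyper {h : G} (hh : h ∈ A.W (v 1)) (hhQ : h ∈ A.Q (v b)) : h ∈ A.Z (v 2) := by
  have hw := hc.1.1
  obtain ⟨a, ha, haQ⟩ := SetLike.not_le_iff_exists.mp hc.2.2
  have h01 := hw 0 (by omega)
  have h12 := hw 1 (by omega)
  have h2A : A.isA (v 2) := A.isA_even hw (by omega) hc.2.1 rfl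
  have hZ2 : A.Z (v 2) ≤ A.Q (v b) := A.seg hs hw (by omega) le_rfl (by omega) (by omega) h2A
  have haO : a ∉ A.O (v 1) := fun h => haQ (hZ2 (A.O_le_Z (A.symm h12) h2A h))
  rcases A.W_two' hs hb hS h8 h12 (A.symm h01) (hc.1.2 0 (by omega)).symm (A.odd_B1 hs hb hc hodd) ha haO
    hh with k | k
  · exact k
  · refine absurd ?_ haQ
    have := mul_mem (inv_mem hhQ) (hZ2 k)
    rwa [inv_mul_cancel_left] at this

theorem crit_w : ∃ w ∈ A.Z (v 2), w ∈ A.Z (v (b - 1)) ∧ w ∉ A.O (v 1) ∧ w ∉ A.O (v b) ∧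
    ∀ h ∈ A.W (v 1), ∀ k ∈ A.W (v b),
      ((h ∈ A.Q (v b) ∨ k ∈ A.Q (v 1)) → h * k * h * k = 1) ∧
      (h ∉ A.Q (v b) → k ∉ A.Q (v 1) → h * k * h * k = w) := by
  have hw := hc.1.1
  have hB := A.odd_Bb hs hb hc hodd
  have hB1 := A.odd_B1 hs hb hc hodd
  have hπA := A.odd_Ab hs hb hc hodd
  have h01 := hw 0 (by omega)
  have h12 := hw 1 (by omega)
  have h2A : A.isA (v 2) := A.isA_even hw (by omega) hc.2.1 rfl
  obtain ⟨μ, hμ, hμne, hnle⟩ := A.back hs hb hc hodd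
  obtain ⟨a, ha, haQ⟩ := SetLike.not_le_iff_exists.mp hc.2.2
  obtain ⟨e, he, heQ⟩ := SetLike.not_le_iff_exists.mp hnle
  obtain ⟨he1, -, haO, hm0, hm2, hRW, hRW', heae, heaeO, -, -⟩ :=
    A.crit_data hs hb hS hc hodd hμ hμne ha haQ he heQ
  obtain ⟨r1, r1'⟩ := A.eight_rep hs hb hS h8 (A.symm h01) (A.adj_of_fix he1 (A.symm h01)) h12 hm0.symm
    (hc.1.2 0 (by omega)) hm2 hB1 ha haO heae heaeO
  rw [show a * (e * a * e) = a * e * a * e by group] at r1 r1'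
  have hc' := A.rev_crit hs hb hS hc hodd hμ hμne hnle
  have eu : cons μ (fun k => v (b - k)) b = v 1 := by
    rw [cons_pos _ _ (show 1 ≤ b by omega), show b - (b - 1) = 1 by omega]
  have eu' : cons μ (fun k => v (b - k)) (b - 1) = v 2 := by
    rw [cons_pos _ _ (show 1 ≤ b - 1 by omega), show b - (b - 1 - 1) = 2 by omega]
  have eu1 : cons μ (fun k => v (b - k)) 1 = v b := by simp
  have eu2 : cons μ (fun k => v (b - k)) 2 = v (b - 1) := by simp [cons]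
  have h20 : v 0 ≠ v 2 := hc.1.2 0 (by omega)
  obtain ⟨ha1, -, heO, hn0, hn2, -, -, haea, haeaO, -, -⟩ :=
    A.crit_data hs hb hS hc' hodd (μ := v 0) (a := e) (e := a) (by rw [eu]; exact A.symm h01)
      (by rw [eu']; exact h20) (by simpa using he) (by rw [eu]; exact heQ) ha (by rw [eu1]; exact haQ)
  rw [eu1] at ha1 heO haeaO
  rw [eu2] at hn2
  rw [cons_zero] at hn0 hn2 haea
  obtain ⟨r2, r2'⟩ := A.eight_rep hs hb hS h8 hμ (A.adj_of_fix ha1 hμ) (A.adj_prev hw (by omega) le_rfl)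
    hn0.symm hμne hn2 hB he heO haea haeaO
  have eR : e * (a * e * a) = a * e * a * e := by
    have h := A.W_inv hs hb hB1 hRW
    rw [mul_inv_rev, mul_inv_rev, mul_inv_rev, A.Z_inv ha, A.Z_inv he] at h
    rw [← h]; group
  rw [eR] at r2 r2'
  refine ⟨_, r1, r2, r1', r2', fun h hh k hk => ?_⟩
  have haW : a ∈ A.W (v 1) := A.Z_le_W (A.symm h01) ha
  have heW : e ∈ A.W (v b) := A.Z_le_W hμ he
  have commA : ∀ z ∈ A.Z (v 2), ∀ p ∈ A.W (v b), Commute p z := fun z hz p hp =>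
    A.Z_central hz (A.W_seg hs hb hw le_rfl (show 2 ≤ b by omega) (by omega) (by omega) hB hp)
  have commB : ∀ z ∈ A.Z (v (b - 1)), ∀ p ∈ A.W (v 1), Commute p z := fun z hz p hp =>
    A.Z_central hz (A.W_seg hs hb hw (show 1 ≤ b by omega) (show b - 1 ≤ b by omega) (by omega) (by omega)
      hB1 hp)
  have hyp' : ∀ p ∈ A.W (v b), p ∈ A.Q (v 1) → p ∈ A.Z (v (b - 1)) := fun p hp hpQ => by
    rcases A.W_two' hs hb hS h8 (A.adj_prev hw (by omega) le_rfl) hμ hμne.symm hB he heO hp with k' | k'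
    · exact k'
    · refine absurd ?_ heQ
      have := mul_mem (inv_mem hpQ)
        (A.seg hs hw (show b - 1 ≤ b by omega) (show 1 ≤ b by omega) (by omega) (by omega) hπA k')
      rwa [inv_mul_cancel_left] at this
  refine ⟨?_, fun hhQ hkQ => ?_⟩
  · intro hor
    have hcm : Commute h k := by
      rcases hor with hQ | hQ
      · exact (commA h (A.hyper hs hb hS h8 hc hodd hh hQ) k hk).symm
      · exact commB k (hyp' k hk hQ) h hh
    rw [hcm.eq, show k * h * h * k = k * (h * h) * k by group, A.W_sq hs hb hB1 hh, mul_one,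
      A.W_sq hs hb hB hk]
  have f1 : ∀ p ∈ A.W (v 1), p • v (b - 1) = v (b - 1) ∧ p • v b = v b := fun p hp =>
    ⟨A.W_seg_fix hs hb hw (by omega) (by omega) (by omega) (by omega) hB1 hp,
      A.W_seg_fix hs hb hw (by omega) le_rfl (by omega) (by omega) hB1 hp⟩
  have f2 : ∀ p ∈ A.W (v b), p • v 2 = v 2 ∧ p • v 1 = v 1 := fun p hp =>
    ⟨A.W_seg_fix hs hb hw le_rfl (by omega) (by omega) (by omega) hB hp,
      A.W_seg_fix hs hb hw le_rfl (by omega) (by omega) (by omega) hB hp⟩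
  have hz : a * h ∈ A.Z (v 2) := A.hyper hs hb hS h8 hc hodd (mul_mem haW hh)
    (A.two (A.adj_prev hw (by omega) le_rfl) (f1 a haW).2 (f1 a haW).1 haQ (f1 h hh).2 (f1 h hh).1 hhQ)
  have hy : e * k ∈ A.Z (v (b - 1)) := hyp' _ (mul_mem heW hk)
    (A.two h12 (f2 e heW).2 (f2 e heW).1 heQ (f2 k hk).2 (f2 k hk).1 hkQ)
  set z := a * h
  set y := e * k
  have eh : h = a * z := by simp only [z]; rw [← mul_assoc, A.Z_sq ha, one_mul]
  have ek : k = e * y := by simp only [y]; rw [← mul_assoc, A.Z_sq he, one_mul]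
  have cza : Commute a z := A.W_comm hs hb hB1 haW (A.Z_le_W h12 hz)
  have cze : Commute e z := commA z hz e heW
  have cye : Commute e y := A.W_comm hs hb hB heW (A.Z_le_W (A.adj_prev hw (by omega) le_rfl) hy)
  have cya : Commute a y := commB y hy a haW
  have czy : Commute z y := commB y hy z (A.Z_le_W h12 hz)
  rw [eh, ek]
  calc a * z * (e * y) * (a * z) * (e * y)
      = a * (z * e) * (y * a) * z * e * y := by group
    _ = a * (e * z) * (a * y) * z * e * y := by rw [cze.eq, cya.eq]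
    _ = a * e * (z * a) * (y * z) * e * y := by group
    _ = a * e * (a * z) * (z * y) * e * y := by rw [cza.eq, czy.eq]
    _ = a * e * a * (z * z) * (y * e) * y := by group
    _ = a * e * a * (z * z) * (e * y) * y := by rw [cye.eq]
    _ = a * e * a * (z * z) * e * (y * y) := by group
    _ = a * e * a * e := by rw [A.Z_sq hz, A.Z_sq hy, mul_one, mul_one]

end

end

end Geo

end CfsgLib.A33
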