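import Cfsg.Agent.Lib.Amalgam33.Adjoin

/-!
Critical distance one and even critical distance.
-/

set_option autoImplicit false
set_option linter.style.haveILetI false
set_option maxHeartbeats 400000

namespace CfsgLib.A33

open Subgroup

namespace Geo

variable {G : Type*} [Group G] {V : Type*} [MulAction G V] (A : Geo G V)

/-- elements acting trivially on `H` modulo `U` -/
def actTriv (A : Geo G V) (x : V) (U : Subgroup G)
    (hU : ∀ g : G, g • x = x → ∀ u ∈ U, g * u * g⁻¹ ∈ U) : Subgroup G where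
  carrier := {g | g • x = x ∧ ∀ q ∈ A.Q x, q⁻¹ * (g * q * g⁻¹) ∈ U}
  one_mem' := ⟨one_smul _ _, fun q _ => by simp [one_mem]⟩
  mul_mem' := fun {a b} ha hb => ⟨by rw [mul_smul, hb.1, ha.1], fun q hq => by
    have := mul_mem (ha.2 q hq) (hU a ha.1 _ (hb.2 q hq))
    rwa [show q⁻¹ * (a * q * a⁻¹) * (a * (q⁻¹ * (b * q * b⁻¹)) * a⁻¹) =
      q⁻¹ * (a * b * q * (a * b)⁻¹) by group] at this⟩
  inv_mem' := fun {a} ha => ⟨inv_smul_eq_iff.mpr ha.1.symm, fun q hq => by
    have h1 := ha.2 _ (A.Q_conj' ha.1 hq)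
    have h2 := inv_mem h1
    rwa [show ((a⁻¹ * q * a)⁻¹ * (a * (a⁻¹ * q * a) * a⁻¹))⁻¹ = q⁻¹ * (a⁻¹ * q * a⁻¹⁻¹) by group] at h2⟩

theorem actTriv_conj {x : V} {U : Subgroup G}
    {hU : ∀ g : G, g • x = x → ∀ u ∈ U, g * u * g⁻¹ ∈ U} {g n : G} (hg : g • x = x)
    (hn : n ∈ A.actTriv x U hU) : g * n * g⁻¹ ∈ A.actTriv x U hU := by
  refine ⟨by rw [mul_smul, mul_smul, inv_smul_eq_iff.mpr hg.symm, hn.1, hg], fun q hq => ?_⟩
  have := hU g hg _ (hn.2 _ (A.Q_conj' hg hq))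
  rwa [show g * ((g⁻¹ * q * g)⁻¹ * (n * (g⁻¹ * q * g) * n⁻¹)) * g⁻¹ =
    q⁻¹ * (g * n * g⁻¹ * q * (g * n * g⁻¹)⁻¹) by group] at this

/-! ### `b = 1` -/

theorem not_crit_one {v : ℕ → V} (hs : A.Short 1) (hc : A.Crit 1 v) : False := by
  obtain ⟨a, ha, haQ⟩ := SetLike.not_le_iff_exists.mp hc.2.2
  have hadj : A.Adj (v 0) (v 1) := hc.1.1 0 (by omega)
  have haβ : a • v 1 = v 1 := A.fix hadj ha.1
  have hU : ∀ g : G, g • v 1 = v 1 → ∀ u ∈ A.O (v 1), g * u * g⁻¹ ∈ A.O (v 1) := fun g hg u hu => by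
    rwa [(A.O_central hu hg).eq, mul_inv_cancel_right]
  have haN : a ∈ A.actTriv (v 1) (A.O (v 1)) hU := by
    refine ⟨haβ, fun q hq => ?_⟩
    have hqα : q • v 0 = v 0 := A.fix (A.symm hadj) hq
    have hq' : q⁻¹ • v 0 = v 0 := inv_smul_eq_iff.mpr hqα.symm
    have h1 := A.Z_bracket hadj hc.2.1 ha hq' (inv_smul_eq_iff.mpr hq.1.symm)
    have h2 : Commute a (q⁻¹ * a * q⁻¹⁻¹) := A.Z_comm ha (A.Z_conj_fix hq' ha)
    rw [h2.eq] at h1
    rw [A.Z_inv ha]
    rwa [show q⁻¹ * a * q⁻¹⁻¹ * a = q⁻¹ * (a * q * a) by group] at h1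
  obtain ⟨d, hd, hrot⟩ := A.exists_rot_of_cover (A.symm hadj) (A.actTriv (v 1) (A.O (v 1)) hU)
    (fun g hg n hn => A.actTriv_conj hg hn) haN haβ (A.fix_self ha.1) haQ
  refine Rot.notQ A hrot (A.mem_Q_of_comm hrot.1 fun q hq => ?_)
  exact fix_of_fix_series hrot.2.1 ((A.Q_two (v 1)).mono A.O_le_Q)
    (fun m hm => A.O_central hm hrot.1) (hd.2 q hq)

/-! ### even `b` -/

section
variable {b : ℕ} {v : ℕ → V} (hs : A.Short b) (hc : A.Crit b v) (hb2 : 2 ≤ b) (hev : b % 2 = 0)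
include hs hc hb2 hev

theorem even_end : A.isA (v b) := A.isA_even hc.1.1 le_rfl hc.2.1 hev

theorem even_main : A.Small ∧ A.O (v 1) = A.O (v (b - 1)) := by
  have hbA := A.even_end hs hc hb2 hev
  have h0 := hc.2.1
  obtain ⟨a, ha, haQ⟩ := SetLike.not_le_iff_exists.mp hc.2.2
  obtain ⟨y, hy, hyQ⟩ := SetLike.not_le_iff_exists.mp (A.crit_mutual hs hc (by omega) hbA)
  have hw := hc.1.1
  have h01 : A.Adj (v 0) (v 1) := hw 0 (by omega)
  have hbb : A.Adj (v b) (v (b - 1)) := A.adj_prev hw (by omega) le_rfl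
  have hB' : ¬ A.isA (v (b - 1)) := A.notA_of hbb hbA
  have hB : ¬ A.isA (v 1) := A.notA_of h01 h0
  have haβ' : a • v (b - 1) = v (b - 1) := A.seg_fix hs hw (Nat.zero_le _) (by omega) (by omega) (by omega) h0 ha
  have hab : a • v b = v b := A.seg_fix hs hw (Nat.zero_le _) le_rfl (by omega) (by omega) h0 ha
  have hy0 : y • v 0 = v 0 := A.seg_fix hs hw le_rfl (Nat.zero_le _) (by omega) (by omega) hbA hy
  have hy1 : y • v 1 = v 1 := A.seg_fix hs hw le_rfl (by omega) (by omega) (by omega) hbA hy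
  -- the fixed part
  have hfix : ∀ z ∈ A.Z (v b), z ∈ A.Q (v 0) → z ∈ A.O (v (b - 1)) := fun z hz hzQ =>
    A.Z_comm_mem_O hbb hbA hz hab haβ' haQ (A.Z_central ha hzQ).symm
  haveI := A.finO (v (b - 1))
  haveI := A.finZ (v b)
  have hle : Nat.card ↥(A.Z (v b)) ≤ 2 * Nat.card ↥(A.O (v (b - 1))) := by
    refine (card_le_two_mul (A.Z (v b)) (A.O (v (b - 1))) fun p hp q hq hpO hqO => ?_).2
    refine hfix _ (mul_mem (inv_mem hp) hq) ?_
    exact A.two' h01 (A.seg_fix hs hw le_rfl (Nat.zero_le _) (by omega) (by omega) hbA hp)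
      (A.seg_fix hs hw le_rfl (by omega) (by omega) (by omega) hbA hp) (fun h => hpO (hfix _ hp h))
      (A.seg_fix hs hw le_rfl (Nat.zero_le _) (by omega) (by omega) hbA hq)
      (A.seg_fix hs hw le_rfl (by omega) (by omega) (by omega) hbA hq) (fun h => hqO (hfix _ hq h))
  obtain ⟨γ, hγ, hγne⟩ := A.other_one hbb
  have hS : A.Small := by
    refine A.small_of_card hB' ?_
    have h1 := A.card_Z_ge hbb hγ hγne.symm hbA
    rw [A.card_O_eq (A.notA_of hγ hbA) hB'] at h1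
    have h2 : 0 < Nat.card ↥(A.O (v (b - 1))) := Nat.card_pos
    have h3 := h1.trans hle
    exact Nat.le_of_mul_le_mul_right h3 h2
  refine ⟨hS, ?_⟩
  -- the common commutator
  have hR1 := A.Z_bracket h01 h0 ha hy0 hy1
  have hR2 := A.Z_bracket hbb hbA hy hab haβ'
  set R := a * (y * a * y⁻¹) with hR
  have hR' : R ∈ A.O (v (b - 1)) := by
    have := inv_mem hR2
    rwa [A.Z_inv ha, mul_inv_rev, mul_inv_rev, mul_inv_rev, A.Z_inv hy, A.Z_inv ha,
      show a * (y * a) * y = a * (y * a * y⁻¹) by rw [A.Z_inv hy, mul_assoc]] at this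
  refine A.O_eq_of_common hS hB hB' hR1 hR' fun hR1' => ?_
  -- `R ≠ 1`
  have hcom : Commute a y := by
    refine commute_of_sq (A.Z_sq ha) (A.Z_sq hy) ?_
    rw [show a * y * (a * y) = R by rw [hR, A.Z_inv hy]; group, hR1']
  have hyO : y ∈ A.O (v (b - 1)) := A.Z_comm_mem_O hbb hbA hy hab haβ' haQ hcom
  -- `O (v (b-1))` lies in `Q (v 0)`
  obtain ⟨c, hcZ, hc1, hcQ⟩ : ∃ c ∈ A.Z (v b), c ≠ 1 ∧ c ∈ A.Q (v 0) := by
    obtain ⟨d, hd, hd1⟩ := A.O_ne_one hB'
    obtain ⟨e, he, he1⟩ := A.O_ne_one (A.notA_of hγ hbA)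
    have hde : d ≠ e := fun h => hd1 (A.disjoint_O hbb hbA hγ hγne.symm hd (h ▸ he))
    have hdZ := A.O_le_Z hbb hbA hd
    have heZ := A.O_le_Z hγ hbA he
    by_cases h1 : d ∈ A.Q (v 0)
    · exact ⟨d, hdZ, hd1, h1⟩
    by_cases h2 : e ∈ A.Q (v 0)
    · exact ⟨e, heZ, he1, h2⟩
    refine ⟨d * e, mul_mem hdZ heZ, fun h => hde ?_, A.two h01
      (A.seg_fix hs hw le_rfl (Nat.zero_le _) (by omega) (by omega) hbA hdZ)
      (A.seg_fix hs hw le_rfl (by omega) (by omega) (by omega) hbA hdZ) h1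
      (A.seg_fix hs hw le_rfl (Nat.zero_le _) (by omega) (by omega) hbA heZ)
      (A.seg_fix hs hw le_rfl (by omega) (by omega) (by omega) hbA heZ) h2⟩
    rw [eq_inv_of_mul_eq_one_left h, A.Z_inv heZ]
  have hcO := hfix c hcZ hcQ
  have hy1' : y ≠ 1 := fun h => hyQ (h ▸ one_mem _)
  exact hyQ (A.O_unique hS hB' hcO hc1 hyO hy1' ▸ hcQ)

theorem not_even_four (hb4 : 4 ≤ b) : False := by
  have hbA := A.even_end hs hc hb2 hev
  have h0 := hc.2.1
  have hw := hc.1.1
  have h01 : A.Adj (v 0) (v 1) := hw 0 (by omega)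
  obtain ⟨x, hx, hx1⟩ := A.other_one h01
  have hxB : ¬ A.isA x := A.notA_of hx h0
  have hpx : A.IsPath (b - 2 + 1) (cons x v) :=
    A.isPath_cons (A.symm hx) (IsPath.mono A hc.1 (show b - 2 ≤ b by omega)) fun _ => hx1
  -- shifted paths
  have hshift : ∀ ν, A.Adj x ν → ν ≠ v 0 → A.IsPath b (cons ν (cons x v)) := by
    intro ν hν hν0
    have := A.isPath_cons (x := ν) (v := cons x v) (A.symm hν) hpx fun _ => by simpa using hν0
    rwa [show b - 2 + 1 + 1 = b by omega] at this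
  have hend : ∀ ν, cons ν (cons x v) b = v (b - 2) := fun ν => by
    rw [cons_pos _ _ (by omega), cons_pos _ _ (by omega)]
    congr 1
  -- first case: a shifted critical path
  have case1 : ∀ ν, A.Adj x ν → ¬ A.Z ν ≤ A.Q (v (b - 2)) → False := by
    intro ν hν hnc
    have hν0 : ν ≠ v 0 := by
      rintro rfl
      exact hnc (A.seg hs hw (Nat.zero_le _) (by omega) (by omega) (by omega) h0)
    have hc' : A.Crit b (cons ν (cons x v)) :=
      ⟨hshift ν hν hν0, by simpa using A.isA_of_not hν hxB, by rwa [hend, cons_zero]⟩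
    obtain ⟨hS, e1⟩ := A.even_main hs hc hb2 hev
    obtain ⟨-, e2⟩ := A.even_main hs hc' hb2 hev
    rw [show cons ν (cons x v) 1 = x by simp, cons_pos _ _ (show 1 ≤ b - 1 by omega),
      cons_pos _ _ (show 1 ≤ b - 1 - 1 by omega), show b - 1 - 1 - 1 = b - 3 by omega] at e2
    have h2 : A.Adj (v (b - 2)) (v (b - 3)) := by
      have := A.adj_prev hw (show 1 ≤ b - 2 by omega) (by omega)
      rwa [show b - 2 - 1 = b - 3 by omega] at this
    have h2' : A.Adj (v (b - 2)) (v (b - 1)) := by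
      have := hw (b - 2) (by omega)
      rwa [show b - 2 + 1 = b - 1 by omega] at this
    have hA2 : A.isA (v (b - 2)) := A.isA_even hw (by omega) h0 (by omega)
    refine hc.2.2 fun a ha => ?_
    obtain ⟨p, hp, q, hq, rfl⟩ := A.Z_split hx h0 h01 hx1 ha
    have hp' := A.O_le_Z h2 hA2 (e2 ▸ hp)
    have hq' := A.O_le_Z h2' hA2 (e1 ▸ hq)
    exact A.seg hs hw (show b - 2 ≤ b by omega) le_rfl (by omega) (by omega) hA2 (mul_mem hp' hq')
  by_cases h1 : ∃ ν, A.Adj x ν ∧ ¬ A.Z ν ≤ A.Q (v (b - 2))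
  · obtain ⟨ν, hν, h⟩ := h1
    exact case1 ν hν h
  push Not at h1
  by_cases h2 : ∃ ν, A.Adj x ν ∧ ¬ A.Z ν ≤ A.Q (v (b - 1))
  · -- a mover gives transitivity
    obtain ⟨ν, hν, hnQ⟩ := h2
    obtain ⟨z, hz, hzQ⟩ := SetLike.not_le_iff_exists.mp hnQ
    have hνA : A.isA ν := A.isA_of_not hν hxB
    have hL : A.IsPath b (cons x v) := by
      have := A.isPath_cons (A.symm hx) (IsPath.mono A hc.1 (show b - 1 ≤ b by omega)) fun _ => hx1
      rwa [show b - 1 + 1 = b by omega] at this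
    have hm : A.Mover b (cons x v) z := by
      refine A.mover_of_notQ hL (fun k hk => ?_) (by rwa [cons_pos _ _ (by omega)])
      rcases k with _ | k
      · exact A.fix (A.symm hν) hz.1
      rw [cons_succ]
      rcases Nat.lt_or_ge k (b - 1) with h | h
      · have hwν : A.IsWalk (b - 2 + 1 + 1) (cons ν (cons x v)) :=
          A.isWalk_cons (by simpa using A.symm hν) hpx.1
        have := A.seg_fix hs hwν (Nat.zero_le _) (show k + 2 ≤ _ by omega) (by omega) (by omega)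
          (by simpa using hνA) (by simpa using hz)
        simpa using this
      · rw [show k = b - 1 by omega]
        refine A.fix ?_ (h1 ν hν hz)
        have := hw (b - 2) (by omega)
        rwa [show b - 2 + 1 = b - 1 by omega] at this
    obtain ⟨a, ha, haQ⟩ := SetLike.not_le_iff_exists.mp hc.2.2
    have hm' : A.Mover b v a := A.mover_of_notQ hc.1
      (fun k hk => A.seg_fix hs hw (Nat.zero_le _) hk (by omega) (by omega) h0 ha) haQ
    have hT := A.tr_of_movers hm' hm hbA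
      (A.notA_of (A.symm (A.isWalk_cons (A.symm hx) hw b (by omega)) |> fun h => by
        simpa [cons_pos _ _ (show 1 ≤ b by omega)] using h) hbA) le_rfl le_rfl
    obtain ⟨ν', hν', hν'0⟩ := A.other_one (A.symm hx)
    have hcr := A.crit_of_tr (Tr.pred A hT) hc (hshift ν' hν' hν'0)
      (by simpa using A.isA_of_not hν' hxB)
    exact case1 ν' hν' (by
      have := hcr.2.2
      rwa [hend, cons_zero] at this)
  -- last case
  push Not at h2
  obtain ⟨y, hy, hyQ⟩ := SetLike.not_le_iff_exists.mp (A.crit_mutual hs hc (by omega) hbA)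
  obtain ⟨a, ha, haQ⟩ := SetLike.not_le_iff_exists.mp hc.2.2
  have hy0 : y • v 0 = v 0 := A.seg_fix hs hw le_rfl (Nat.zero_le _) (by omega) (by omega) hbA hy
  have hy1 : y • v 1 = v 1 := A.seg_fix hs hw le_rfl (by omega) (by omega) (by omega) hbA hy
  have hbb : A.Adj (v b) (v (b - 1)) := A.adj_prev hw (by omega) le_rfl
  have hb'b : A.Adj (v (b - 1)) (v b) := A.symm hbb
  have haQ1 : a ∈ A.Q (v (b - 1)) := A.seg hs hw (Nat.zero_le _) (by omega) (by omega) (by omega) h0 ha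
  have haW : a ∈ A.W x := A.Z_le_W (A.symm hx) ha
  haveI := A.finW x
  have hyW : ∀ h ∈ A.W x, y * h * y⁻¹ ∈ A.W x := by
    intro h hh
    have hle : A.W x ≤ (A.W x).comap (MulAut.conj y).toMonoidHom := by
      refine A.W_le fun ν hν z hz => ?_
      rw [Subgroup.mem_comap]
      show y * z * y⁻¹ ∈ A.W x
      have hzW : z ∈ A.W x := A.Z_le_W hν hz
      have hzQ1 : z ∈ A.Q (v (b - 1)) := h2 ν hν hz
      by_cases hzQ : z ∈ A.Q (v b)
      · rwa [← (A.Z_central hy hzQ).eq, mul_inv_cancel_right]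
      · have hq : a * z ∈ A.Q (v b) := A.two hbb (A.fix hb'b haQ1) (A.fix_self haQ1) haQ
          (A.fix hb'b hzQ1) (A.fix_self hzQ1) hzQ
        have e : y * z * y⁻¹ = (y * a * y⁻¹) * (y * (a * z) * y⁻¹) := by
          have : z = a * (a * z) := by rw [← mul_assoc, A.Z_sq ha, one_mul]
          conv_lhs => rw [this]
          group
        rw [e, ← (A.Z_central hy hq).eq, mul_inv_cancel_right]
        exact mul_mem (A.Z_le_W (A.symm hx) (A.Z_conj_fix hy0 ha)) (mul_mem haW hzW)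
    exact hle hh
  have hyx : y • x ≠ x := A.move h01 hx hx1 hy0 hy1 hyQ
  have hWfix : ∀ n ∈ A.W x, n • v 0 = v 0 ∧ n • x = x := by
    intro n hn
    refine ⟨A.W_le (K := MulAction.stabilizer G (v 0)) (fun ν hν z hz => ?_) hn, A.W_fix_self hn⟩
    have hwν : A.IsWalk (0 + 1 + 1) (cons ν (cons x v)) :=
      A.isWalk_cons (by simpa using A.symm hν)
        (A.isWalk_cons (A.symm hx) fun k hk => absurd hk (by omega))
    have := A.seg_fix hs hwν (Nat.zero_le _) (show 2 ≤ 0 + 1 + 1 by omega) (by omega) (by omega)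
      (by simpa using A.isA_of_not hν hxB) (by simpa using hz)
    simpa using this
  obtain ⟨z, hz, hz1⟩ := A.Z_ne_one h0
  refine hz1 (Subgroup.mem_bot.mp ((A.core_two hx (A.adj_of_fix hy0 hx) hyx.symm (A.W x) hWfix
    (fun g hg n hn => A.W_conj hg hn) (fun g hg n hn => ?_)) ▸ A.Z_le_W (A.symm hx) hz))
  have hyN : y ∈ normSet (A.W x) := mem_normSet hyW
  have hgN : y⁻¹ * g * y ∈ normSet (A.W x) := mem_normSet fun m hm => A.W_conj
    (by rw [mul_smul, mul_smul, hg, inv_smul_smul]) hm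
  have := conj_of_normSet (mul_mem (mul_mem hyN hgN) (inv_mem hyN)) hn
  rwa [show y * (y⁻¹ * g * y) * y⁻¹ = g by group] at this

end

end Geo

end CfsgLib.A33
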