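import Mathlib

/-!
Small lemmas on finite 2-groups and elements of order three, used for amalgams of index (3,3).
-/

set_option autoImplicit false
set_option linter.style.haveILetI false

namespace CfsgLib.A33

open Subgroup

variable {G : Type*} [Group G]

/-- counting through a map whose fibres lie in cosets of `K` -/
theorem card_le_mul_of_fibres {T : Type*} [Finite T] (H K : Subgroup G) [Finite ↥K] (f : ↥H → T)
    (hf : ∀ a b : ↥H, f a = f b → (a : G)⁻¹ * b ∈ K) :
    Finite ↥H ∧ Nat.card ↥H ≤ Nat.card T * Nat.card ↥K := by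
  classical
  let r : T → ↥H := fun t => if h : ∃ a, f a = t then h.choose else 1
  have hr : ∀ a, f (r (f a)) = f a := fun a => by
    simp only [r, dif_pos (⟨a, rfl⟩ : ∃ b, f b = f a)]
    exact (⟨a, rfl⟩ : ∃ b, f b = f a).choose_spec
  let F : ↥H → T × ↥K := fun a => (f a, ⟨(r (f a) : G)⁻¹ * a, hf _ _ (hr a)⟩)
  have hF : Function.Injective F := by
    intro a b h
    have h1 : f a = f b := congrArg Prod.fst h
    have h2 := congrArg (fun p : T × ↥K => (p.2 : G)) h
    simp only [F, h1] at h2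
    exact Subtype.ext (mul_left_cancel h2)
  haveI : Finite ↥H := Finite.of_injective F hF
  exact ⟨inferInstance, (Nat.card_le_card_of_injective F hF).trans (Nat.card_prod _ _).le⟩

/-- `|H| ≤ 2 |K|` when any two elements of `H` outside `K` differ by an element of `K` -/
theorem card_le_two_mul (H K : Subgroup G) [Finite ↥K]
    (h : ∀ a ∈ H, ∀ b ∈ H, a ∉ K → b ∉ K → a⁻¹ * b ∈ K) :
    Finite ↥H ∧ Nat.card ↥H ≤ 2 * Nat.card ↥K := by
  classical
  have := card_le_mul_of_fibres H K (fun a => decide ((a : G) ∈ K)) (fun a b hab => by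
    simp only [decide_eq_decide] at hab
    by_cases ha : (a : G) ∈ K
    · exact mul_mem (inv_mem ha) (hab.mp ha)
    · exact h _ a.2 _ b.2 ha (fun hb => ha (hab.mpr hb)))
  simpa using this

/-- all elements have two-power order -/
def Two (P : Subgroup G) : Prop := ∀ g ∈ P, ∃ k : ℕ, g ^ (2 ^ k) = 1

theorem Two.mono {P H : Subgroup G} (h : Two P) (hle : H ≤ P) : Two H := fun g hg => h g (hle hg)

theorem Two.isPGroup {P : Subgroup G} (h : Two P) : IsPGroup 2 ↥P := fun g => by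
  obtain ⟨k, hk⟩ := h g g.2
  exact ⟨k, Subtype.ext (by rw [SubmonoidClass.coe_pow]; exact hk)⟩

theorem Two.eq_one_of_cube {P : Subgroup G} (h : Two P) {g : G} (hg : g ∈ P) (h3 : g ^ 3 = 1) :
    g = 1 := by
  obtain ⟨k, hk⟩ := h g hg
  have h1 : orderOf g ∣ Nat.gcd 3 (2 ^ k) :=
    Nat.dvd_gcd (orderOf_dvd_of_pow_eq_one h3) (orderOf_dvd_of_pow_eq_one hk)
  rw [show Nat.gcd 3 (2 ^ k) = 1 from (Nat.Coprime.pow_right k (by norm_num))] at h1
  exact orderOf_eq_one_iff.mp (Nat.dvd_one.mp h1)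

/-- an element fixing `M` and moving elements of `N` only inside `M` fixes `N` -/
theorem fix_of_fix_series {d : G} (hd : d ^ 3 = 1) {M : Subgroup G} (hM : Two M)
    (hfix : ∀ m ∈ M, Commute d m) {n : G} (hn : n⁻¹ * (d * n * d⁻¹) ∈ M) : Commute d n := by
  set c := n⁻¹ * (d * n * d⁻¹) with hc
  have e : d * n * d⁻¹ = n * c := by rw [hc]; group
  have ec : d * c * d⁻¹ = c := by rw [(hfix c hn).eq, mul_inv_cancel_right]
  have e3 : d ^ 3 * n * (d ^ 3)⁻¹ = n * c ^ 3 := by
    calc d ^ 3 * n * (d ^ 3)⁻¹ = d * (d * (d * n * d⁻¹) * d⁻¹) * d⁻¹ := by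
          simp only [pow_succ, pow_zero, one_mul, mul_inv_rev, mul_assoc]
      _ = d * (d * (n * c) * d⁻¹) * d⁻¹ := by rw [e]
      _ = d * ((d * n * d⁻¹) * (d * c * d⁻¹)) * d⁻¹ := by group
      _ = d * (n * c * c) * d⁻¹ := by rw [e, ec]
      _ = (d * n * d⁻¹) * (d * c * d⁻¹) * (d * c * d⁻¹) := by group
      _ = n * c ^ 3 := by rw [e, ec]; simp only [pow_succ, pow_zero, one_mul, mul_assoc]
  rw [hd, one_mul, inv_one, mul_one] at e3
  have h3 : c ^ 3 = 1 := left_eq_mul.mp e3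
  have h1 : c = 1 := hM.eq_one_of_cube hn h3
  rw [h1, mul_one, mul_inv_eq_iff_eq_mul] at e
  exact e

/-- a coset of a 2-group which is invariant under an element of order three has a fixed element -/
theorem exists_fixed_coset {d : G} (hd : d ^ 3 = 1) {U : Subgroup G} [Finite ↥U] (hU : Two U)
    (hnorm : ∀ u ∈ U, d * u * d⁻¹ ∈ U) {q : G} (hq : q⁻¹ * (d * q * d⁻¹) ∈ U) :
    ∃ u ∈ U, Commute d (q * u) := by
  classical
  let T : ↥U → ↥U := fun u => ⟨q⁻¹ * (d * (q * u) * d⁻¹), by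
    have := mul_mem hq (hnorm u u.2)
    rwa [show q⁻¹ * (d * q * d⁻¹) * (d * u * d⁻¹) = q⁻¹ * (d * (q * u) * d⁻¹) by group] at this⟩
  have hT : Function.Injective T := by
    intro a b h
    have h' := congrArg Subtype.val h
    simp only [T, mul_right_inj, mul_left_inj] at h'
    exact Subtype.ext h'
  let σ : Equiv.Perm ↥U := Equiv.ofBijective T (Finite.injective_iff_bijective.mp hT)
  have hσ : ∀ (n : ℕ) (u : ↥U), (((σ ^ n) u : ↥U) : G) = q⁻¹ * (d ^ n * (q * u) * (d ^ n)⁻¹) := by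
    intro n
    induction n with
    | zero => intro u; simp
    | succ n ih =>
      intro u
      rw [pow_succ, Equiv.Perm.mul_apply, ih]
      show q⁻¹ * (d ^ n * (q * (q⁻¹ * (d * (q * u) * d⁻¹))) * (d ^ n)⁻¹) = _
      group
  have hσ3 : σ ^ 3 = 1 := Equiv.ext fun u => Subtype.ext (by
    rw [hσ, hd]; simp)
  haveI : Fact (Nat.Prime 3) := ⟨by norm_num⟩
  have hp : IsPGroup 3 ↥(zpowers σ) := fun g => ⟨1, Subtype.ext (by
    obtain ⟨g, hg⟩ := g
    obtain ⟨k, rfl⟩ := hg
    show (σ ^ k) ^ (3 ^ 1) = 1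
    rw [pow_one, ← zpow_natCast (σ ^ k), ← zpow_mul, mul_comm, zpow_mul, zpow_natCast, hσ3,
      one_zpow])⟩
  haveI : Fact (Nat.Prime 2) := ⟨by norm_num⟩
  have hnd : ¬ 3 ∣ Nat.card ↥U := by
    obtain ⟨k, hk⟩ := IsPGroup.iff_card.mp hU.isPGroup
    rw [hk]
    intro h
    exact absurd ((Nat.prime_dvd_prime_iff_eq (by norm_num) (by norm_num)).mp
      ((show Nat.Prime 3 by norm_num).dvd_of_dvd_pow h)) (by norm_num)
  obtain ⟨u, hu⟩ := hp.nonempty_fixed_point_of_prime_not_dvd_card ↥U hnd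
  have hu' : σ u = u := hu ⟨σ, mem_zpowers σ⟩
  refine ⟨u, u.2, ?_⟩
  have h' := hσ 1 u
  rw [pow_one, hu', pow_one] at h'
  have e : q * (u : G) = d * (q * u) * d⁻¹ := by
    calc q * (u : G) = q * (q⁻¹ * (d * (q * u) * d⁻¹)) := congrArg (q * ·) h'
      _ = _ := mul_inv_cancel_left _ _
  exact (eq_mul_inv_iff_mul_eq.mp e).symm

/-- a 2-group acting on `M < N` fixes a coset of `M` in `N` other than `M` -/
theorem exists_fixed_quotient {P M N : Subgroup G} [Finite ↥P] [Finite ↥N] (hP : Two P) (hN : Two N)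
    (hMN : M ≤ N) (hne : M ≠ N) (hPM : ∀ p ∈ P, ∀ m ∈ M, p * m * p⁻¹ ∈ M)
    (hPN : ∀ p ∈ P, ∀ n ∈ N, p * n * p⁻¹ ∈ N) :
    ∃ n ∈ N, n ∉ M ∧ ∀ p ∈ P, n⁻¹ * (p * n * p⁻¹) ∈ M := by
  classical
  let K : Subgroup ↥N := M.subgroupOf N
  letI act : MulAction ↥P (↥N ⧸ K) :=
    { smul := fun p => Quotient.map' (fun n => ⟨p * n * (p : G)⁻¹, hPN p p.2 n n.2⟩) (by
        intro a b hab
        rw [QuotientGroup.leftRel_apply] at hab ⊢
        show ((⟨p * a * (p : G)⁻¹, hPN p p.2 a a.2⟩ : ↥N)⁻¹ *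
          ⟨p * b * (p : G)⁻¹, hPN p p.2 b b.2⟩ : ↥N) ∈ M.subgroupOf N
        rw [mem_subgroupOf]
        have := hPM p p.2 _ (mem_subgroupOf.mp hab)
        simpa [mul_assoc] using this)
      one_smul := fun x => by
        induction x using QuotientGroup.induction_on with | _ a => ?_
        show QuotientGroup.mk _ = _
        congr 1
        exact Subtype.ext (by simp)
      mul_smul := fun p q x => by
        induction x using QuotientGroup.induction_on with | _ a => ?_
        show QuotientGroup.mk _ = QuotientGroup.mk _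
        congr 1
        exact Subtype.ext (by simp [mul_assoc]) }
  haveI : Fact (Nat.Prime 2) := ⟨by norm_num⟩
  have hfix1 : ((1 : ↥N) : ↥N ⧸ K) ∈ MulAction.fixedPoints ↥P (↥N ⧸ K) := fun p => by
    show QuotientGroup.mk _ = _
    congr 1
    exact Subtype.ext (by simp)
  have hdvd : 2 ∣ Nat.card (↥N ⧸ K) := by
    obtain ⟨k, hk⟩ := IsPGroup.iff_card.mp hN.isPGroup
    have h1 : K.index ∣ 2 ^ k := hk ▸ K.index_dvd_card
    obtain ⟨j, -, hj⟩ := (Nat.dvd_prime_pow (by norm_num)).mp h1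
    rcases Nat.eq_zero_or_pos j with rfl | hj0
    · rw [pow_zero, index_eq_one, subgroupOf_eq_top] at hj
      exact absurd (le_antisymm hMN hj) hne
    · show 2 ∣ K.index
      rw [hj]
      exact dvd_pow_self 2 (by omega)
  obtain ⟨x, hx, hx1⟩ := hP.isPGroup.exists_fixed_point_of_prime_dvd_card_of_fixed_point
    (↥N ⧸ K) hdvd hfix1
  induction x using QuotientGroup.induction_on with | _ n => ?_
  refine ⟨n, n.2, fun hn => hx1 ?_, fun p hp => ?_⟩
  · refine (QuotientGroup.eq.mpr ?_)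
    rw [mem_subgroupOf]
    simpa using hn
  · have h1 := (hx ⟨p, hp⟩).symm
    have h2 := mem_subgroupOf.mp (QuotientGroup.eq.mp h1)
    simpa using h2

/-- a subgroup of order two normalised by `g` is centralised by `g` -/
theorem commute_of_pair {g z : G} (h : g * z * g⁻¹ = 1 ∨ g * z * g⁻¹ = z) : Commute g z := by
  rcases h with h | h
  · have : z = 1 := conj_eq_one_iff.mp h
    rw [this]; exact Commute.one_right _
  · exact mul_inv_eq_iff_eq_mul.mp h

/-- involutions -/
theorem inv_eq_self {z : G} (h : z * z = 1) : z⁻¹ = z := inv_eq_of_mul_eq_one_right h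

theorem commute_of_sq {a b : G} (ha : a * a = 1) (hb : b * b = 1) (hab : a * b * (a * b) = 1) :
    Commute a b := by
  show a * b = b * a
  calc a * b = (a * b)⁻¹ := (inv_eq_of_mul_eq_one_right hab).symm
    _ = b * a := by rw [mul_inv_rev, inv_eq_self ha, inv_eq_self hb]

end CfsgLib.A33
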