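import Cfsg.Agent.Lib.Amalgam33.Bound
import Cfsg.Agent.Lib.Amalgam33.Coset
import Cfsg.Agent.S2858

/-!
The order bound for amalgams of index (3,3).
-/

set_option autoImplicit false
set_option linter.style.haveILetI false
set_option maxHeartbeats 400000

namespace CfsgLib.A33

open Subgroup

variable {G : Type*} [Group G]

/-- the bound when one of the two groups is not of characteristic two -/
theorem card_le_of_not_char2 {M M' : Subgroup G} [Finite ↥M] [Finite ↥M'] (H : Half M M')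
    (H' : Half M' M)
    (hcore : ∀ N : Subgroup G, N ≤ M ⊓ M' → (∀ g ∈ M, ∀ n ∈ N, g * n * g⁻¹ ∈ N) →
      (∀ g ∈ M', ∀ n ∈ N, g * n * g⁻¹ ∈ N) → N = ⊥)
    {g₀ : G} (hg₀ : g₀ ∈ M) (hg₀c : ∀ q ∈ H.Q, Commute g₀ q) (hg₀Q : g₀ ∉ H.Q) :
    Nat.card ↥(M ⊓ M') ≤ 16 := by
  classical
  obtain ⟨d, hdM, hdc, hdM'⟩ : ∃ d ∈ M, (∀ q ∈ H.Q, Commute d q) ∧ d ∉ M' := by
    by_contra h
    push Not at h
    refine hg₀Q ((H.ker ⟨g₀, hg₀⟩).mp (Equiv.ext fun i => ?_))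
    obtain ⟨π, hπ⟩ := CfsgLib.LocalStr.Cubic.perm3_surj H.c i
    obtain ⟨p, rfl⟩ := H.surj π
    have h1 : ((p⁻¹ * ⟨g₀, hg₀⟩ * p : ↥M) : G) ∈ M' := by
      refine h _ (p⁻¹ * ⟨g₀, hg₀⟩ * p : ↥M).2 fun q hq => ?_
      have h2 := (hg₀c _ (H.Q_conj p p.2 q hq)).map (MulAut.conj (p : G)⁻¹).toMonoidHom
      simpa [mul_assoc] using h2
    have h2 := (H.mem _).mp h1
    rw [map_mul, map_mul, map_inv, Equiv.Perm.mul_apply, Equiv.Perm.mul_apply,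
      Equiv.Perm.inv_eq_iff_eq, hπ] at h2
    rw [h2, Equiv.Perm.one_apply]
  haveI : Finite ↥H.Q := Finite.of_injective _ (inclusion_injective (fun q hq => (H.Q_mem q hq).1))
  let Y : Subgroup G :=
    { carrier := {y | y ∈ M' ∧ ∀ m ∈ M', m * y * m⁻¹ ∈ H.Q}
      one_mem' := ⟨one_mem _, fun m _ => by simp [one_mem]⟩
      mul_mem' := fun {p q} hp hq => ⟨mul_mem hp.1 hq.1, fun m hm => by
        have := mul_mem (hp.2 m hm) (hq.2 m hm)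
        rwa [show m * p * m⁻¹ * (m * q * m⁻¹) = m * (p * q) * m⁻¹ by group] at this⟩
      inv_mem' := fun {p} hp => ⟨inv_mem hp.1, fun m hm => by
        have := inv_mem (hp.2 m hm)
        rwa [show (m * p * m⁻¹)⁻¹ = m * p⁻¹ * m⁻¹ by group] at this⟩ }
  have hYQ : Y ≤ H.Q := fun y hy => by simpa using hy.2 1 (one_mem _)
  haveI : Finite ↥Y := Finite.of_injective _ (inclusion_injective hYQ)
  have hY' : ∀ g ∈ M', ∀ y ∈ Y, g * y * g⁻¹ ∈ Y := fun g hg y hy =>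
    ⟨mul_mem (mul_mem hg hy.1) (inv_mem hg), fun m hm => by
      have := hy.2 (m * g) (mul_mem hm hg)
      rwa [show m * g * y * (m * g)⁻¹ = m * (g * y * g⁻¹) * m⁻¹ by group] at this⟩
  have hY : ∀ g ∈ M, ∀ y ∈ Y, g * y * g⁻¹ ∈ Y := fun g hg y hy =>
    Geo.conj_of_normSet (H.generate (Geo.normSet Y) (fun t _ ht => Geo.mem_normSet (hY' t ht)) hdM hdM'
      (Geo.mem_normSet fun n hn => by rwa [(hdc n (hYQ hn)).eq, mul_inv_cancel_right]) hg) hy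
  have hbot : Y = ⊥ := hcore Y (fun y hy => ⟨(H.Q_mem y (hYQ hy)).1, hy.1⟩) hY hY'
  have hr : ∀ i : Fin 3, ∃ r : ↥M', H'.φ r⁻¹ H'.c = i := fun i => by
    obtain ⟨π, hπ⟩ := CfsgLib.LocalStr.Cubic.perm3_surj H'.c i
    obtain ⟨p, rfl⟩ := H'.surj π
    exact ⟨p⁻¹, by rwa [inv_inv]⟩
  choose r hr using hr
  haveI : Finite ↥(⊥ : Subgroup G) := inferInstance
  obtain ⟨hfin, hcard⟩ := card_le_mul_of_fibres H'.Q (⊥ : Subgroup G)
    (fun y => fun i => decide ((r i : G) * y * (r i : G)⁻¹ ∈ H.Q)) (by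
      intro y z hyz
      rw [← hbot]
      refine ⟨mul_mem (inv_mem (H'.Q_mem y y.2).1) (H'.Q_mem z z.2).1, fun m hm => ?_⟩
      set i := H'.φ (⟨m, hm⟩ : ↥M')⁻¹ H'.c with hi
      set s : ↥M' := ⟨m, hm⟩ * (r i)⁻¹ with hs
      have hsM : (s : G) ∈ M := (H'.mem s).mpr (by
        rw [hs, map_mul, Equiv.Perm.mul_apply, hr, hi, map_inv]
        simp)
      have h2 : (r i : G) * ((y : G)⁻¹ * z) * (r i : G)⁻¹ ∈ H.Q := by
        have e := congrFun hyz i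
        simp only [decide_eq_decide] at e
        by_cases hy1 : (r i : G) * y * (r i : G)⁻¹ ∈ H.Q
        · have := mul_mem (inv_mem hy1) (e.mp hy1)
          simpa [mul_assoc] using this
        · have m1 := H'.Q_mem _ (H'.Q_conj _ (r i).2 y y.2)
          have m2 := H'.Q_mem _ (H'.Q_conj _ (r i).2 z z.2)
          have := H.two_mem (inv_mem m1.2) (inv_mem m1.1) (fun h => hy1 (inv_mem_iff.mp h)) m2.2 m2.1
            (fun h => hy1 (e.mpr h))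
          simpa [mul_assoc] using this
      have := H.Q_conj _ hsM _ h2
      simpa [hs, mul_assoc] using this)
  simp at hcard
  haveI := hfin
  obtain ⟨-, h2⟩ := card_le_two_mul (M ⊓ M') H'.Q fun a ha b hb haQ hbQ =>
    H'.two_mem (inv_mem (Subgroup.mem_inf.mp ha).2) (inv_mem (Subgroup.mem_inf.mp ha).1)
      (fun h => haQ (inv_mem_iff.mp h)) (Subgroup.mem_inf.mp hb).2 (Subgroup.mem_inf.mp hb).1 hbQ
  omega

/-- the bound when one vertex group is active and the other is not -/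
theorem card_le_of_mixed {M M' : Subgroup G} [Finite ↥M] [Finite ↥M'] (H : Half M M') (H' : Half M' M)
    (hgen : M ⊔ M' = ⊤)
    (hcore : ∀ N : Subgroup G, N ≤ M ⊓ M' → (∀ g ∈ M, ∀ n ∈ N, g * n * g⁻¹ ∈ N) →
      (∀ g ∈ M', ∀ n ∈ N, g * n * g⁻¹ ∈ N) → N = ⊥)
    (hc₁ : ∀ g ∈ M, (∀ q ∈ H.Q, Commute g q) → g ∈ H.Q)
    (hc₂ : ∀ g ∈ M', (∀ q ∈ H'.Q, Commute g q) → g ∈ H'.Q)
    (hA : ∃ d ∈ M ⊓ M', d * d = 1 ∧ (∀ t ∈ M ⊓ M', Commute t d) ∧ ∃ g ∈ M, ¬ Commute g d)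
    (hB : ∀ d ∈ M ⊓ M', d * d = 1 → (∀ t ∈ M ⊓ M', Commute t d) → ∀ g ∈ M', Commute g d) :
    Nat.card ↥(M ⊓ M') ≤ 128 := by
  obtain ⟨A, hadj, hA'⟩ := exists_geo H H' hgen hcore hc₁ hc₂ hA hB
  have := A.bound hadj hA'
  have e : Geo.E (G := G) (CfsgLib.Amalgam.vL M M' 1) (CfsgLib.Amalgam.vR M M' 1) = M ⊓ M' := by
    rw [Geo.E, CfsgLib.Amalgam.stabilizer_vL, CfsgLib.Amalgam.stabilizer_vR,
      CfsgLib.LocalEven.cj_one, CfsgLib.LocalEven.cj_one]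
  rwa [e] at this

/-- the bound for a generating pair -/
theorem card_le_of_gen {M₁ M₂ : Subgroup G} [Finite ↥M₁] [Finite ↥M₂] (hgen : M₁ ⊔ M₂ = ⊤)
    (hcore : ∀ N : Subgroup G, N ≤ M₁ ⊓ M₂ → (∀ g ∈ M₁, ∀ n ∈ N, g * n * g⁻¹ ∈ N) →
      (∀ g ∈ M₂, ∀ n ∈ N, g * n * g⁻¹ ∈ N) → N = ⊥)
    (ha₁ : ∃ P : Sylow 2 ↥M₁, (P : Subgroup ↥M₁) = (M₁ ⊓ M₂).subgroupOf M₁)
    (ha₂ : ∃ P : Sylow 2 ↥M₂, (P : Subgroup ↥M₂) = (M₁ ⊓ M₂).subgroupOf M₂)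
    (hb₁ : Nonempty (↥M₁ ⧸ Cfsg.pCore 2 ↥M₁ ≃* Equiv.Perm (Fin 3)))
    (hb₂ : Nonempty (↥M₂ ⧸ Cfsg.pCore 2 ↥M₂ ≃* Equiv.Perm (Fin 3))) :
    Nat.card ↥(M₁ ⊓ M₂) ≤ 128 := by
  classical
  obtain ⟨H₁⟩ := exists_half (P := M₁) (P' := M₂) ha₁ hb₁
  obtain ⟨H₂⟩ := exists_half (P := M₂) (P' := M₁) (by rwa [inf_comm M₂ M₁]) hb₂
  have hcore' : ∀ N : Subgroup G, N ≤ M₂ ⊓ M₁ → (∀ g ∈ M₂, ∀ n ∈ N, g * n * g⁻¹ ∈ N) →
      (∀ g ∈ M₁, ∀ n ∈ N, g * n * g⁻¹ ∈ N) → N = ⊥ := fun N hN h2 h1 =>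
    hcore N (by rwa [inf_comm]) h1 h2
  by_cases hc₁ : ∀ g ∈ M₁, (∀ q ∈ H₁.Q, Commute g q) → g ∈ H₁.Q
  swap
  · push Not at hc₁
    obtain ⟨g, hg, hgc, hgQ⟩ := hc₁
    exact (card_le_of_not_char2 H₁ H₂ hcore hg hgc hgQ).trans (by norm_num)
  by_cases hc₂ : ∀ g ∈ M₂, (∀ q ∈ H₂.Q, Commute g q) → g ∈ H₂.Q
  swap
  · push Not at hc₂
    obtain ⟨g, hg, hgc, hgQ⟩ := hc₂
    rw [inf_comm]
    exact (card_le_of_not_char2 H₂ H₁ hcore' hg hgc hgQ).trans (by norm_num)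
  by_cases hA₁ : ∃ d ∈ M₁ ⊓ M₂, d * d = 1 ∧ (∀ t ∈ M₁ ⊓ M₂, Commute t d) ∧ ∃ g ∈ M₁, ¬ Commute g d
  all_goals by_cases hA₂ : ∃ d ∈ M₁ ⊓ M₂, d * d = 1 ∧ (∀ t ∈ M₁ ⊓ M₂, Commute t d) ∧ ∃ g ∈ M₂, ¬ Commute g d
  · -- both active
    have hΩ : ∀ M : Subgroup G,
        (∃ d ∈ M₁ ⊓ M₂, d * d = 1 ∧ (∀ t ∈ M₁ ⊓ M₂, Commute t d) ∧ ∃ g ∈ M, ¬ Commute g d) →
        ¬ M ≤ centralizer (Cfsg.omegaOne 2 ((M₁ ⊓ M₂) ⊓
          centralizer ((M₁ ⊓ M₂ : Subgroup G) : Set G)) : Set G) := by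
      rintro M ⟨d, hd, hdd, hdc, g, hg, hgd⟩ hle
      refine hgd ((hle hg) d ?_).symm
      exact subset_closure ⟨⟨hd, fun t ht => (hdc t ht).eq⟩, by rw [pow_two]; exact hdd⟩
    have hch : ∀ (M : Subgroup G) (M' : Subgroup G) (H : Half M M'),
        (∀ g ∈ M, (∀ q ∈ H.Q, Commute g q) → g ∈ H.Q) →
        M ⊓ centralizer (Cfsg.pCoreOf 2 M : Set G) ≤ Cfsg.pCoreOf 2 M := by
      intro M M' H hc g hg
      rw [← H.Q_eq]
      exact hc g hg.1 fun q hq => (hg.2 q (H.Q_eq ▸ hq)).symm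
    have res := Cfsg.Agent.S2858.result M₁ M₂ hgen (M₁ ⊓ M₂) rfl
      (fun P hP => by
        rcases hP with rfl | rfl
        exacts [hch _ _ H₁ hc₁, hch _ _ H₂ hc₂])
      (fun P hP => by
        rcases hP with rfl | rfl
        exacts [ha₁, ha₂])
      (fun N hN hle => hcore N hle (fun g _ n hn => hN.conj_mem n hn g) (fun g _ n hn => hN.conj_mem n hn g))
      (fun P hP => by
        rcases hP with rfl | rfl
        exacts [hb₁, hb₂])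
      (fun P hP => by
        rcases hP with rfl | rfl
        exacts [hΩ _ hA₁, hΩ _ hA₂])
    have hle : Nat.card ↥(M₁ ⊓ M₂) ≤ Nat.card ↥M₁ :=
      Nat.card_le_card_of_injective _ (inclusion_injective inf_le_left)
    rcases res with ⟨⟨e⟩, -⟩ | ⟨⟨e⟩, -⟩ <;> rw [Nat.card_congr e.toEquiv] at hle <;>
      refine hle.trans ?_ <;>
      simp [Nat.card_eq_fintype_card, Fintype.card_perm, Nat.factorial]
  · refine card_le_of_mixed H₁ H₂ hgen hcore hc₁ hc₂ hA₁ fun d hd hdd hdc g hg => ?_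
    by_contra h
    exact hA₂ ⟨d, hd, hdd, hdc, g, hg, h⟩
  · rw [inf_comm]
    refine card_le_of_mixed H₂ H₁ (by rwa [sup_comm]) hcore' hc₂ hc₁ ?_ fun d hd hdd hdc g hg => ?_
    · rw [inf_comm]; exact hA₂
    · rw [inf_comm M₂ M₁] at hd hdc
      by_contra h
      exact hA₁ ⟨d, hd, hdd, hdc, g, hg, h⟩
  · -- neither active
    exfalso
    set S := M₁ ⊓ M₂
    let N : Subgroup G :=
      { carrier := {d | d ∈ S ∧ d * d = 1 ∧ ∀ t ∈ S, Commute t d}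
        one_mem' := ⟨one_mem _, one_mul _, fun t _ => Commute.one_right t⟩
        mul_mem' := fun {p q} hp hq => ⟨mul_mem hp.1 hq.1, by
            rw [mul_assoc, ← mul_assoc q, (hp.2.2 q hq.1).eq, mul_assoc p q q, hq.2.1, mul_one, hp.2.1],
          fun t ht => (hp.2.2 t ht).mul_right (hq.2.2 t ht)⟩
        inv_mem' := fun {p} hp => by
          rw [Set.mem_setOf_eq, inv_eq_of_mul_eq_one_right hp.2.1]
          exact hp }
    haveI : Finite ↥S := Finite.of_injective _ (inclusion_injective inf_le_left)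
    have hS2 : Two S := fun g hg => H₁.two g hg
    have hbot : N = ⊥ := by
      refine hcore N (fun n hn => hn.1) (fun g hg n hn => ?_) (fun g hg n hn => ?_)
      all_goals
        have hcm : Commute g n := by
          by_contra h
          first
            | exact hA₁ ⟨n, hn.1, hn.2.1, hn.2.2, g, hg, h⟩
            | exact hA₂ ⟨n, hn.1, hn.2.1, hn.2.2, g, hg, h⟩
        rwa [hcm.eq, mul_inv_cancel_right]
    obtain ⟨t, ht, htne⟩ := H₁.tau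
    have htS : (t : G) ∈ S := ⟨t.2, ht⟩
    have ht1 : (t : G) ≠ 1 := fun h => htne (by rw [show t = 1 from Subtype.ext h, map_one])
    obtain ⟨n, hn, hn1, hnfix⟩ := exists_fixed_quotient hS2 hS2 (bot_le : ⊥ ≤ S)
      (fun h => ht1 (Subgroup.mem_bot.mp (h ▸ htS)))
      (fun p _ m hm => by rw [Subgroup.mem_bot] at hm ⊢; rw [hm, mul_one, mul_inv_cancel])
      (fun p hp m hm => mul_mem (mul_mem hp hm) (inv_mem hp))
    obtain ⟨j, hj1, hj2⟩ := exists_invol hS2 hn (fun h => hn1 (h ▸ one_mem _))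
    refine hj1 (Subgroup.mem_bot.mp (hbot ▸ (⟨pow_mem hn j, hj2, fun p hp => ?_⟩ : n ^ j ∈ N)))
    exact (show Commute p n from mul_inv_eq_iff_eq_mul.mp
      (inv_mul_eq_one.mp (Subgroup.mem_bot.mp (hnfix p hp))).symm).pow_right j

end CfsgLib.A33
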