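import Cfsg.Agent.Lib.Amalgam33.Adjoin

/-!
Odd critical distance: general facts, the two-sided non-containment, centres of order two.
-/

set_option autoImplicit false
set_option linter.style.haveILetI false
set_option linter.unusedSectionVars false
set_option maxHeartbeats 400000

namespace CfsgLib.A33

open Subgroup

namespace Geo

variable {G : Type*} [Group G] {V : Type*} [MulAction G V] (A : Geo G V)

theorem ne_Q {x y : V} (h : A.Adj x y) : ∃ q ∈ A.Q x, q ∉ A.Q y := by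
  by_contra hcon
  push Not at hcon
  have hle : A.Q x ≤ A.Q y := hcon
  have hge : A.Q y ≤ A.Q x := by
    intro q hq
    by_contra hqx
    obtain ⟨t, hty, htx, htQ⟩ := A.exists_notQ (A.symm h)
    by_cases htx' : t ∈ A.Q x
    · exact htQ (hle htx')
    · have h1 := hle (A.two' h (A.fix (A.symm h) hq) hq.1 hqx htx hty htx')
      have := mul_mem hq h1
      rw [mul_inv_cancel_left] at this
      exact htQ this
  have hbot : A.Q x = ⊥ := A.core (A.Q x) h (fun n hn => ⟨hn.1, A.fix h hn⟩)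
    (fun g hg n hn => A.Q_conj hg hn) fun g hg n hn => hge (A.Q_conj hg (hle hn))
  obtain ⟨t, htx, -, htQ⟩ := A.exists_notQ h
  exact htQ (A.mem_Q_of_comm htx fun q hq => by
    rw [hbot, Subgroup.mem_bot] at hq
    rw [hq]
    exact Commute.one_right _)

theorem Z_mod {α β : V} (hS : A.Small) (h : A.Adj α β) (hα : A.isA α) {z z' : G} (hz : z ∈ A.Z α)
    (hz' : z' ∈ A.Z α) (hzO : z ∉ A.O β) (hz'O : z' ∉ A.O β) : z * z' ∈ A.O β := by
  obtain ⟨β', hβ', hne⟩ := A.other_one h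
  obtain ⟨p, hp, q, hq, rfl⟩ := A.Z_split h hα hβ' hne.symm hz
  obtain ⟨p', hp', q', hq', rfl⟩ := A.Z_split h hα hβ' hne.symm hz'
  have hq1 : q ≠ 1 := fun e => hzO (by rw [e, mul_one]; exact hp)
  have hq'1 : q' ≠ 1 := fun e => hz'O (by rw [e, mul_one]; exact hp')
  obtain rfl := A.O_unique hS (A.notA_of hβ' hα) hq hq1 hq' hq'1
  have hc : Commute q p' := A.Z_comm (A.O_le_Z hβ' hα hq) (A.O_le_Z h hα hp')
  rw [show p * q * (p' * q) = p * (q * p') * q by group, hc.eq,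
    show p * (p' * q) * q = p * p' * (q * q) by group, A.O_sq hq, mul_one]
  exact mul_mem hp hp'

theorem exists_rep_Z {α β : V} (h : A.Adj α β) (hα : A.isA α) : ∃ x ∈ A.Z α, x ∉ A.O β := by
  obtain ⟨β', hβ', hne⟩ := A.other_one h
  obtain ⟨d, hd, hd1⟩ := A.O_ne_one (A.notA_of hβ' hα)
  exact ⟨d, A.O_le_Z hβ' hα hd, fun hdO => hd1 (A.disjoint_O h hα hβ' hne.symm hdO hd)⟩

section
variable {b : ℕ} (hs : A.Short b) (hb : 3 ≤ b)
include hs hb

theorem near_Q {α β γ : V} (hα : A.Adj β α) (hγ : A.Adj β γ) (hαA : A.isA α) :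
    A.Z α ≤ A.Q γ := by
  have := hs 2 (cons α (cons β fun _ => γ)) (by omega)
    (A.isWalk_cons (by simpa using A.symm hα) (A.isWalk_cons hγ fun k hk => absurd hk (by omega)))
    (by simpa using hαA)
  simpa [cons] using this

theorem near_Q_one {α β : V} (hα : A.Adj β α) (hαA : A.isA α) : A.Z α ≤ A.Q β := by
  have := hs 1 (cons α fun _ => β) (by omega)
    (A.isWalk_cons (A.symm hα) fun k hk => absurd hk (by omega)) (by simpa using hαA)
  simpa [cons] using this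

theorem W_le_Q {β : V} (hβ : ¬ A.isA β) : A.W β ≤ A.Q β :=
  A.W_le fun _ hν => A.near_Q_one hs hb hν (A.isA_of_not hν hβ)

theorem W_le_Q_nbr {β γ : V} (hβ : ¬ A.isA β) (hγ : A.Adj β γ) : A.W β ≤ A.Q γ :=
  A.W_le fun _ hν => A.near_Q hs hb hν hγ (A.isA_of_not hν hβ)

theorem W_comm {β : V} (hβ : ¬ A.isA β) {h k : G} (hh : h ∈ A.W β) (hk : k ∈ A.W β) : Commute h k := by
  have hle : A.W β ≤ centralizer {k} := A.W_le fun ν hν z hz => by
    have hle2 : A.W β ≤ centralizer {z} := A.W_le fun ν' hν' z' hz' =>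
      mem_centralizer_singleton_iff.mpr
        (A.Z_central hz (A.near_Q hs hb hν' hν (A.isA_of_not hν' hβ) hz')).eq
    exact mem_centralizer_singleton_iff.mpr ((mem_centralizer_singleton_iff.mp (hle2 hk)).symm)
  exact mem_centralizer_singleton_iff.mp (hle hh)

theorem W_sq {β : V} (hβ : ¬ A.isA β) {h : G} (hh : h ∈ A.W β) : h * h = 1 := by
  let K : Subgroup G :=
    { carrier := {h | h ∈ A.W β ∧ h * h = 1}
      one_mem' := ⟨one_mem _, one_mul _⟩
      mul_mem' := fun {p q} hp hq => ⟨mul_mem hp.1 hq.1, by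
        rw [mul_assoc, ← mul_assoc q, (A.W_comm hs hb hβ hq.1 hp.1).eq, mul_assoc p q q, hq.2, mul_one,
          hp.2]⟩
      inv_mem' := fun {p} hp => ⟨inv_mem hp.1, by rw [← mul_inv_rev, hp.2, inv_one]⟩ }
  exact (A.W_le (K := K) (fun ν hν z hz => ⟨A.Z_le_W hν hz, A.Z_sq hz⟩) hh).2

theorem W_inv {β : V} (hβ : ¬ A.isA β) {h : G} (hh : h ∈ A.W β) : h⁻¹ = h :=
  inv_eq_of_mul_eq_one_right (A.W_sq hs hb hβ hh)

theorem W_bracket {β : V} (hβ : ¬ A.isA β) {h q : G} (hh : h ∈ A.W β) (hq : q ∈ A.Q β) :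
    h * (q * h * q⁻¹) ∈ A.O β := by
  let K : Subgroup G :=
    { carrier := {h | h ∈ A.W β ∧ h * (q * h * q⁻¹) ∈ A.O β}
      one_mem' := ⟨one_mem _, by simp [one_mem]⟩
      mul_mem' := fun {p r} hp hr => ⟨mul_mem hp.1 hr.1, by
        have := mul_mem hp.2 hr.2
        have hc : Commute r (q * p * q⁻¹) := A.W_comm hs hb hβ hr.1 (A.W_conj hq.1 hp.1)
        rwa [show p * (q * p * q⁻¹) * (r * (q * r * q⁻¹)) = p * ((q * p * q⁻¹) * r) * (q * r * q⁻¹) by
          group, ← hc.eq,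
          show p * (r * (q * p * q⁻¹)) * (q * r * q⁻¹) = p * r * (q * (p * r) * q⁻¹) by group] at this⟩
      inv_mem' := fun {p} hp => ⟨inv_mem hp.1, by rw [A.W_inv hs hb hβ hp.1]; exact hp.2⟩ }
  exact (A.W_le (K := K) (fun ν hν z hz => ⟨A.Z_le_W hν hz, A.Z_bracket (A.symm hν)
    (A.isA_of_not hν hβ) hz (A.fix hν hq) hq.1⟩) hh).2

theorem W_ne {α β β' : V} (hα : A.isA α) (h : A.Adj α β) (h' : A.Adj α β') (hne : β ≠ β') :
    A.W β ≠ A.W β' := by
  intro e
  have hβ := A.notA_of h hα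
  obtain ⟨z, hz, hz1⟩ := A.Z_ne_one hα
  have := A.core_two h h' hne (A.W β)
    (fun n hn => ⟨(A.W_le_Q_nbr hs hb hβ (A.symm h) hn).1, A.W_fix_self hn⟩)
    (fun g hg n hn => A.W_conj hg hn)
    (fun g hg n hn => by rw [e] at hn ⊢; exact A.W_conj hg hn)
  exact hz1 (Subgroup.mem_bot.mp (this ▸ A.Z_le_W (A.symm h) hz))

theorem W_seg {n : ℕ} {v : ℕ → V} (hv : A.IsWalk n v) {i j : ℕ} (hi : i ≤ n) (hj : j ≤ n)
    (hd : j - i + 1 < b) (hd' : i - j + 1 < b) (hB : ¬ A.isA (v i)) : A.W (v i) ≤ A.Q (v j) := by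
  refine A.W_le fun ν hν => ?_
  have hνA := A.isA_of_not hν hB
  rcases Nat.le_total i j with h | h
  · have := hs (j - i + 1) (cons ν (fun k => v (i + k))) hd
      (A.isWalk_cons (by simpa using A.symm hν) ((IsWalk.mono A hv hj).drop A i))
      (by simpa using hνA)
    simpa [Nat.add_sub_cancel' h] using this
  · have := hs (i - j + 1) (cons ν (fun k => v (j + (i - j - k)))) hd'
      (A.isWalk_cons (by simpa [Nat.add_sub_cancel' h] using A.symm hν)
        ((IsWalk.mono A hv hi).drop A j |>.reverse A))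
      (by simpa using hνA)
    simpa using this

theorem W_seg_fix {n : ℕ} {v : ℕ → V} (hv : A.IsWalk n v) {i j : ℕ} (hi : i ≤ n) (hj : j ≤ n)
    (hd : j - i + 1 ≤ b) (hd' : i - j + 1 ≤ b) (hB : ¬ A.isA (v i)) {z : G} (hz : z ∈ A.W (v i)) :
    z • v j = v j := by
  rcases Nat.lt_trichotomy i j with h | h | h
  · refine A.fix ?_ (A.W_seg hs hb hv (i := i) (j := j - 1) hi (by omega) (by omega) (by omega) hB hz)
    have := hv (j - 1) (by omega)
    rwa [Nat.sub_add_cancel (by omega)] at this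
  · subst h
    exact A.W_fix_self hz
  · exact A.fix (A.symm (hv j (by omega)))
      (A.W_seg hs hb hv (i := i) (j := j + 1) hi (by omega) (by omega) (by omega) hB hz)

section
variable {v : ℕ → V} (hc : A.Crit b v) (hodd : b % 2 = 1)
include hc hodd

theorem odd_B1 : ¬ A.isA (v 1) := A.notA_odd hc.1.1 (by omega) hc.2.1 rfl

theorem odd_Bb : ¬ A.isA (v b) := A.notA_odd hc.1.1 le_rfl hc.2.1 hodd

theorem odd_Ab : A.isA (v (b - 1)) := A.isA_even hc.1.1 (by omega) hc.2.1 (by omega)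

theorem mover_a {a : G} (ha : a ∈ A.Z (v 0)) (haQ : a ∉ A.Q (v b)) : A.Mover b v a :=
  A.mover_of_notQ hc.1
    (fun _ hk => A.seg_fix hs hc.1.1 (Nat.zero_le _) hk (by omega) (by omega) hc.2.1 ha) haQ

/-- an element of `W (v b)` in `Q (v 1)` outside `Q (v 0)` gives transitivity -/
theorem tr_of_back {y : G} (hy : y ∈ A.W (v b)) (hy1 : y ∈ A.Q (v 1)) (hy0 : y ∉ A.Q (v 0)) :
    A.Tr (b + 1) := by
  obtain ⟨a, ha, haQ⟩ := SetLike.not_le_iff_exists.mp hc.2.2
  have hB := A.odd_Bb hs hb hc hodd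
  have hm : A.Mover b (fun k => v (b - k)) y := by
    refine A.mover_of_notQ (IsPath.reverse A hc.1) (fun k hk => ?_) (by simpa using hy0)
    rcases Nat.lt_or_ge k b with h | h
    · exact A.W_seg_fix hs hb hc.1.1 le_rfl (by omega) (by omega) (by omega) hB hy
    · obtain rfl : k = b := by omega
      simpa using A.fix (A.symm (hc.1.1 0 (by omega))) hy1
  exact A.tr_of_movers hm (A.mover_a hs hb hc hodd ha haQ) (by simpa using hc.2.1) hB le_rfl le_rfl

theorem back : ∃ μ, A.Adj (v b) μ ∧ μ ≠ v (b - 1) ∧ ¬ A.Z μ ≤ A.Q (v 1) := by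
  have h0 := hc.2.1
  have hw := hc.1.1
  have hB := A.odd_Bb hs hb hc hodd
  have hB1 := A.odd_B1 hs hb hc hodd
  obtain ⟨a, ha, haQ⟩ := SetLike.not_le_iff_exists.mp hc.2.2
  suffices h : ¬ A.W (v b) ≤ A.Q (v 1) by
    by_contra hcon
    push Not at hcon
    refine h (A.W_le fun ν hν => ?_)
    by_cases he : ν = v (b - 1)
    · subst he
      exact A.seg hs hw (by omega) (by omega) (by omega) (by omega) (A.odd_Ab hs hb hc hodd)
    · exact hcon ν hν he
  intro hle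
  have h01 := hw 0 (by omega)
  by_cases hy : A.W (v b) ≤ A.Q (v 0)
  · -- `a` would centralise `W (v b)`
    have hab : a • v b = v b := (A.mover_a hs hb hc hodd ha haQ).2.1 b le_rfl
    obtain ⟨μ, hμ, hμne⟩ : ∃ μ, A.Adj (v b) μ ∧ a • μ ≠ μ := (A.mover_a hs hb hc hodd ha haQ).2.2
    have hμA := A.isA_of_not hμ hB
    refine A.Z_ne hμ (A.adj_of_fix hab hμ) (Ne.symm hμne) hμA ?_
    ext z
    rw [A.Z_smul_iff]
    have hcm : ∀ w ∈ A.W (v b), a⁻¹ * w * a = w := fun w hw' => by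
      have hc' : Commute w a := A.Z_central ha (hy hw')
      rw [mul_assoc, hc'.eq, inv_mul_cancel_left]
    constructor
    · intro hz
      rwa [hcm z (A.Z_le_W hμ hz)]
    · intro hz
      have h2 := hcm _ (A.Z_le_W hμ hz)
      have h3 : a⁻¹ * z * a = z := by
        calc a⁻¹ * z * a = a * (a⁻¹ * (a⁻¹ * z * a) * a) * a⁻¹ := by group
          _ = a * (a⁻¹ * z * a) * a⁻¹ := by rw [h2]
          _ = z := by group
      rwa [h3] at hz
  obtain ⟨y, hyW, hy0⟩ := SetLike.not_le_iff_exists.mp hy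
  have hT := A.tr_of_back hs hb hc hodd hyW (hle hyW) hy0
  obtain ⟨g, hg⟩ := Tr.mono A hT (show b - 1 ≤ b + 1 by omega) (fun k => v (1 + k)) (fun k => v (b - k))
    (IsPath.drop A hc.1 1) (IsPath.mono A (IsPath.reverse A hc.1) (by omega))
    (by simp [hB1, hB])
  have g1 : g • v 1 = v b := by simpa using hg 0 (by omega)
  have g2 : g • v b = v 1 := by
    have := hg (b - 1) le_rfl
    simpa [Nat.add_sub_cancel' (show 1 ≤ b by omega), show b - (b - 1) = 1 by omega] using this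
  have haW : g * a * g⁻¹ ∈ A.W (v b) := g1 ▸ A.W_conj_mem (A.Z_le_W (A.symm h01) ha)
  have := hle haW
  rw [← g2, A.Q_smul_iff] at this
  exact haQ (by simpa [mul_assoc] using this)

theorem small : A.Small := by
  classical
  have h0 := hc.2.1
  have hw := hc.1.1
  have hB := A.odd_Bb hs hb hc hodd
  have hB1 := A.odd_B1 hs hb hc hodd
  obtain ⟨a, ha, haQ⟩ := SetLike.not_le_iff_exists.mp hc.2.2
  have h01 := hw 0 (by omega)
  have hma := A.mover_a hs hb hc hodd ha haQ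
  by_cases hy : ∃ y ∈ A.W (v b), y ∈ A.Q (v 1) ∧ y ∉ A.Q (v 0)
  · obtain ⟨y, hyW, hy1, hy0⟩ := hy
    have hT := A.tr_of_back hs hb hc hodd hyW hy1 hy0
    have hbb : A.Adj (v (b - 1)) (v b) := A.symm (A.adj_prev hw (by omega) le_rfl)
    have hdisj : ∀ d ∈ A.O (v 1), d ∈ A.O (v b) → d = 1 := by
      intro d hd1 hdb
      have hp : A.IsPath (b - 2) (fun k => v (1 + k)) :=
        IsPath.mono A (IsPath.drop A hc.1 1) (by omega)
      have e1 : v (1 + (b - 2)) = v (b - 1) := by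
        congr 1; omega
      have e2 : v (1 + (b - 2 - 1)) = v (b - 2) := by
        congr 1; omega
      have hne : v b ≠ v (b - 2) := by
        have := hc.1.2 (b - 2) (by omega)
        rw [show b - 2 + 2 = b by omega] at this
        exact this.symm
      have hprev : A.Adj (v (b - 1)) (v (b - 2)) := by
        have := A.adj_prev hw (show 1 ≤ b - 1 by omega) (by omega)
        rwa [show b - 1 - 1 = b - 2 by omega] at this
      obtain ⟨θ, hθ, hθ1, hθ2, -⟩ := A.third hprev hbb hne.symm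
      obtain ⟨g, hgfix, hgθ⟩ := A.ext_swap (Tr.mono A hT (show b - 2 + 1 ≤ b + 1 by omega)) hp (by omega)
        (y := v b) (y' := θ) (by rwa [e1]) (by rwa [e2]) (by rwa [e1]) (by rwa [e2])
      have g1 : g • v 1 = v 1 := by simpa using hgfix 0 (by omega)
      have hgd : g * d * g⁻¹ ∈ A.O θ := hgθ ▸ A.O_conj hdb
      rw [(A.O_central hd1 g1).eq, mul_inv_cancel_right] at hgd
      exact A.disjoint_O hbb (A.odd_Ab hs hb hc hodd) hθ hθ2.symm hdb hgd
    have hy0' : y • v 0 = v 0 := A.fix (A.symm h01) hy1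
    have hfix : ∀ x ∈ A.Z (v 0), x ∈ A.Q (v b) → x ∈ A.O (v 1) := by
      intro x hx hxQ
      refine A.Z_comm_mem_O h01 h0 hx hy0' hy1.1 hy0 ?_
      have r1 := A.Z_bracket h01 h0 hx hy0' hy1.1
      have r2 := A.W_bracket hs hb hB hyW hxQ
      rw [A.W_inv hs hb hB hyW] at r1
      rw [A.Z_inv hx] at r2
      have r2' := inv_mem r2
      rw [mul_inv_rev, mul_inv_rev, mul_inv_rev, A.Z_inv hx, A.W_inv hs hb hB hyW,
        show x * (y * x) * y = x * (y * x * y) by group] at r2'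
      exact commute_of_sq (A.W_sq hs hb hB hyW) (A.Z_sq hx) (by
        calc y * x * (y * x) = x * (x * (y * x * y)) * x := by
              rw [← mul_assoc x x, A.Z_sq hx, one_mul]; group
          _ = 1 := by rw [hdisj _ r1 r2', mul_one, A.Z_sq hx])
    haveI := A.finO (v 1)
    have hle : Nat.card ↥(A.Z (v 0)) ≤ 2 * Nat.card ↥(A.O (v 1)) := by
      refine (card_le_two_mul (A.Z (v 0)) (A.O (v 1)) fun p hp q hq hpO hqO => ?_).2
      refine hfix _ (mul_mem (inv_mem hp) hq) ?_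
      have fx : ∀ u ∈ A.Z (v 0), u • v (b - 1) = v (b - 1) ∧ u • v b = v b := fun u hu =>
        ⟨A.seg_fix hs hw (Nat.zero_le _) (by omega) (by omega) (by omega) h0 hu,
          A.seg_fix hs hw (Nat.zero_le _) le_rfl (by omega) (by omega) h0 hu⟩
      exact A.two' (A.symm hbb) (fx p hp).2 (fx p hp).1 (fun h => hpO (hfix _ hp h))
        (fx q hq).2 (fx q hq).1 (fun h => hqO (hfix _ hq h))
    obtain ⟨β', hβ', hne⟩ := A.other_one h01
    refine A.small_of_card hB1 ?_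
    have h1 := (A.card_Z_ge h01 hβ' hne.symm h0).trans hle
    rw [A.card_O_eq (A.notA_of hβ' h0) hB1] at h1
    exact Nat.le_of_mul_le_mul_right h1 Nat.card_pos
  push Not at hy
  obtain ⟨μ, hμ, hμne, hnle⟩ := A.back hs hb hc hodd
  have hμA := A.isA_of_not hμ hB
  have hab : a • v b = v b := hma.2.1 b le_rfl
  have hab1 : a • v (b - 1) = v (b - 1) := hma.2.1 _ (by omega)
  have hμ' : a • μ ≠ μ := A.move (A.adj_prev hw (by omega) le_rfl) hμ hμne hab hab1 haQ
  -- intersections of pairs of centres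
  have hI : ∀ δ ν ν', ¬ A.isA δ → A.Adj δ ν → A.Adj δ ν' → ν ≠ ν' → ∀ z ∈ A.Z ν, z ∈ A.Z ν' →
      ∀ κ, A.Adj δ κ → z ∈ A.Z κ := by
    intro δ ν ν' hδ hν hν' hne z hz hz' κ hκ
    obtain ⟨ν'', hν'', h1, h2, hall⟩ := A.third hν hν' hne
    obtain ⟨q, hq, hqQ⟩ := A.ne_Q (A.symm hν)
    rcases hall κ hκ with rfl | rfl | rfl
    · exact hz
    · exact hz'
    have e : q • ν' = κ := A.swap_eq hν hν' hν'' hne.symm h1 h2.symm (A.fix (A.symm hν) hq) hq.1
      (A.move hν hν' hne.symm (A.fix (A.symm hν) hq) hq.1 hqQ)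
    have := e ▸ A.Z_conj (g := q) hz'
    rwa [(A.Z_central hz hq).eq, mul_inv_cancel_right] at this
  let I : V → Subgroup G := fun δ =>
    { carrier := {z | ∀ ν, A.Adj δ ν → z ∈ A.Z ν}
      one_mem' := fun ν _ => one_mem _
      mul_mem' := fun hp hq ν hν => mul_mem (hp ν hν) (hq ν hν)
      inv_mem' := fun hp ν hν => inv_mem (hp ν hν) }
  have hIdx : ∀ z ∈ A.Z μ, ∀ z' ∈ A.Z μ, z ∉ I (v b) → z' ∉ I (v b) → z⁻¹ * z' ∈ I (v b) := by
    intro z hz z' hz' hzI hz'I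
    have hin : ∀ u ∈ A.Z μ, Commute u a → u ∈ I (v b) := fun u hu huc κ hκ => by
      refine hI (v b) μ (a • μ) hB hμ (A.adj_of_fix hab hμ) (Ne.symm hμ') u hu ?_ κ hκ
      have := A.Z_conj (g := a) hu
      rwa [← huc.eq, mul_inv_cancel_right] at this
    have hzW := A.Z_le_W hμ hz
    have hz'W := A.Z_le_W hμ hz'
    have cen : ∀ u ∈ A.W (v b), u ∈ A.Q (v 1) → Commute u a := fun u hu huQ =>
      A.Z_central ha (hy u hu huQ)
    have hz1 : z ∉ A.Q (v 1) := fun h => hzI (hin z hz (cen z hzW h))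
    have hz'1 : z' ∉ A.Q (v 1) := fun h => hz'I (hin z' hz' (cen z' hz'W h))
    have h12 : A.Adj (v 1) (v 2) := hw 1 (by omega)
    refine hin _ (mul_mem (inv_mem hz) hz') (cen _ (mul_mem (inv_mem hzW) hz'W) ?_)
    exact A.two' h12 (A.W_seg_fix hs hb hw le_rfl (by omega) (by omega) (by omega) hB hzW)
      (A.W_seg_fix hs hb hw le_rfl (by omega) (by omega) (by omega) hB hzW) hz1
      (A.W_seg_fix hs hb hw le_rfl (by omega) (by omega) (by omega) hB hz'W)
      (A.W_seg_fix hs hb hw le_rfl (by omega) (by omega) (by omega) hB hz'W) hz'1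
  have hIconj : ∀ (g : G) (δ : V) (z : G), z ∈ I δ → g * z * g⁻¹ ∈ I (g • δ) := by
    intro g δ z hz ν hν
    rw [show ν = g • (g⁻¹ • ν) by rw [smul_inv_smul]]
    exact A.Z_conj (hz _ (by simpa using A.adj_smul g⁻¹ hν))
  have hIdx' : ∀ δ ν, ¬ A.isA δ → A.Adj δ ν → ∀ z ∈ A.Z ν, ∀ z' ∈ A.Z ν,
      z ∉ I δ → z' ∉ I δ → z⁻¹ * z' ∈ I δ := by
    intro δ ν hδ hν z hz z' hz' hzI hz'I
    obtain ⟨g, hg⟩ := A.trans_type (x := v b) (y := δ) (iff_of_false hB hδ)
    obtain ⟨c, hc0, hc1⟩ := A.trans (hg ▸ A.adj_smul g hμ) hν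
    set k := c * g
    have k1 : k • v b = δ := by rw [mul_smul, hg, hc0]
    have k2 : k • μ = ν := by rw [mul_smul, hc1]
    have conv : ∀ u ∈ A.Z ν, u ∉ I δ → k⁻¹ * u * k ∈ A.Z μ ∧ k⁻¹ * u * k ∉ I (v b) := fun u hu huI =>
      ⟨(A.Z_smul_iff k μ u).mp (k2 ▸ hu), fun h => huI (by
        have := hIconj k _ _ h
        rw [k1] at this
        simpa [mul_assoc] using this)⟩
    have := hIconj k _ _ (hIdx _ (conv z hz hzI).1 _ (conv z' hz' hz'I).1 (conv z hz hzI).2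
      (conv z' hz' hz'I).2)
    rw [k1] at this
    simpa [mul_assoc] using this
  -- the triple meet at `v 0` is trivial
  obtain ⟨β', β'', hβ', hβ'', n1, n2, n3, hall⟩ := A.other h01
  let U : Subgroup G :=
    { carrier := {z | z ∈ A.Z (v 0) ∧ ∀ δ, A.Adj (v 0) δ → z ∈ I δ}
      one_mem' := ⟨one_mem _, fun δ _ => one_mem _⟩
      mul_mem' := fun hp hq => ⟨mul_mem hp.1 hq.1, fun δ hδ => mul_mem (hp.2 δ hδ) (hq.2 δ hδ)⟩
      inv_mem' := fun hp => ⟨inv_mem hp.1, fun δ hδ => inv_mem (hp.2 δ hδ)⟩ }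
  haveI : Finite ↥U := A.fin_of_fix (v 0) fun z hz => hz.1.1.1
  have hUconj : ∀ g : G, g • v 0 = v 0 → ∀ z ∈ U, g * z * g⁻¹ ∈ U := by
    intro g hg z hz
    refine ⟨A.Z_conj_fix hg hz.1, fun δ hδ => ?_⟩
    have := hIconj g _ _ (hz.2 (g⁻¹ • δ) (by
      have := A.adj_smul g⁻¹ hδ
      rwa [inv_smul_eq_iff.mpr hg.symm] at this))
    rwa [smul_inv_smul] at this
  let C : Subgroup G := MulAction.stabilizer G (v 1) ⊓ centralizer (I (v 1) : Set G)
  obtain ⟨q, hq, hqQ⟩ := A.ne_Q h01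
  have hqC : q ∈ C := ⟨A.fix h01 hq, fun z hz => (A.Z_central (hz _ (A.symm h01)) hq).eq.symm⟩
  have hCconj : ∀ g : G, g • v 1 = v 1 → ∀ n ∈ C, g * n * g⁻¹ ∈ C := by
    intro g hg n hn
    refine Subgroup.mem_inf.mpr ⟨mul_mem (mul_mem (show g ∈ MulAction.stabilizer G (v 1) from hg) hn.1)
      (inv_mem (show g ∈ MulAction.stabilizer G (v 1) from hg)), fun z hz => ?_⟩
    have h2 := hIconj g⁻¹ _ z hz
    rw [inv_smul_eq_iff.mpr hg.symm] at h2
    have h3 := hn.2 _ h2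
    calc z * (g * n * g⁻¹) = g * ((g⁻¹ * z * g⁻¹⁻¹) * n) * g⁻¹ := by group
      _ = g * (n * (g⁻¹ * z * g⁻¹⁻¹)) * g⁻¹ := by rw [h3]
      _ = g * n * g⁻¹ * z := by group
  have hUbot : U = ⊥ := by
    refine A.core U h01 (fun z hz => ⟨hz.1.1.1, A.fix h01 hz.1.1⟩) hUconj fun g hg z hz => ?_
    have hg' := A.cover (A.symm h01) C hCconj hqC (A.fix h01 hq) hq.1 hqQ hg
    have hle : C ⊔ A.Q (v 1) ≤ normSet U := by
      refine sup_le (fun c hc => mem_normSet fun u hu => ?_)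
        (fun p hp => mem_normSet (hUconj p (A.fix (A.symm h01) hp)))
      rwa [← hc.2 u (hu.2 _ h01), mul_inv_cancel_right]
    exact conj_of_normSet (hle hg') hz
  -- counting
  haveI : Finite ↥(⊥ : Subgroup G) := inferInstance
  obtain ⟨-, hcard⟩ := card_le_mul_of_fibres (A.Z (v 0)) (⊥ : Subgroup G)
    (fun z => (decide ((z : G) ∈ I (v 1)), decide ((z : G) ∈ I β'), decide ((z : G) ∈ I β''))) (by
      intro p r hpr
      simp only [Prod.mk.injEq, decide_eq_decide] at hpr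
      obtain ⟨e1, e2, e3⟩ := hpr
      rw [← hUbot]
      refine ⟨mul_mem (inv_mem p.2) r.2, fun δ hδ => ?_⟩
      have hδB := A.notA_of hδ h0
      have key : ((p : G) ∈ I δ ↔ (r : G) ∈ I δ) → (p : G)⁻¹ * r ∈ I δ := fun e => by
        by_cases hp : (p : G) ∈ I δ
        · exact mul_mem (inv_mem hp) (e.mp hp)
        · exact hIdx' δ (v 0) hδB (A.symm hδ) p p.2 r r.2 hp fun hr => hp (e.mpr hr)
      rcases hall δ hδ with rfl | rfl | rfl
      exacts [key e1, key e2, key e3])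
  simp at hcard
  refine A.small_of_card hB1 ?_
  have h1 := (A.card_Z_ge h01 hβ' n1.symm h0).trans hcard
  rw [A.card_O_eq (A.notA_of hβ' h0) hB1] at h1
  nlinarith

end

end

end Geo

end CfsgLib.A33
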