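import Cfsg.Agent.Lib.Amalgam33.Geo

/-!
Non-backtracking paths, transitivity on them, and movers.
-/

set_option autoImplicit false
set_option linter.style.haveILetI false

namespace CfsgLib.A33

namespace Geo

variable {G : Type*} [Group G] {V : Type*} [MulAction G V] (A : Geo G V)

/-- walks -/
def IsWalk (n : ℕ) (v : ℕ → V) : Prop := ∀ k < n, A.Adj (v k) (v (k + 1))

/-- non-backtracking walks -/
def IsPath (n : ℕ) (v : ℕ → V) : Prop := A.IsWalk n v ∧ ∀ k, k + 2 ≤ n → v k ≠ v (k + 2)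

/-- prepend -/
def cons (x : V) (v : ℕ → V) : ℕ → V := fun k => if k = 0 then x else v (k - 1)

/-- append -/
def snoc (n : ℕ) (v : ℕ → V) (y : V) : ℕ → V := fun k => if k ≤ n then v k else y

@[simp] theorem cons_zero (x : V) (v : ℕ → V) : cons x v 0 = x := rfl

@[simp] theorem cons_succ (x : V) (v : ℕ → V) (k : ℕ) : cons x v (k + 1) = v k := by
  simp [cons]

theorem cons_pos (x : V) (v : ℕ → V) {k : ℕ} (hk : 1 ≤ k) : cons x v k = v (k - 1) := by
  simp [cons, show k ≠ 0 by omega]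

theorem snoc_le {n k : ℕ} (v : ℕ → V) (y : V) (h : k ≤ n) : snoc n v y k = v k := by simp [snoc, h]

@[simp] theorem snoc_last (n : ℕ) (v : ℕ → V) (y : V) : snoc n v y (n + 1) = y := by simp [snoc]

theorem IsWalk.mono {n m : ℕ} {v : ℕ → V} (hv : A.IsWalk n v) (h : m ≤ n) : A.IsWalk m v :=
  fun k hk => hv k (by omega)

theorem IsPath.mono {n m : ℕ} {v : ℕ → V} (hv : A.IsPath n v) (h : m ≤ n) : A.IsPath m v :=
  ⟨IsWalk.mono A hv.1 h, fun k hk => hv.2 k (by omega)⟩

theorem IsWalk.drop {n : ℕ} {v : ℕ → V} (hv : A.IsWalk n v) (m : ℕ) :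
    A.IsWalk (n - m) (fun k => v (m + k)) := fun k hk => by
  have := hv (m + k) (by omega)
  simpa [Nat.add_assoc] using this

theorem IsPath.drop {n : ℕ} {v : ℕ → V} (hv : A.IsPath n v) (m : ℕ) :
    A.IsPath (n - m) (fun k => v (m + k)) := ⟨IsWalk.drop A hv.1 m, fun k hk => by
  have := hv.2 (m + k) (by omega)
  simpa [Nat.add_assoc] using this⟩

theorem IsWalk.reverse {n : ℕ} {v : ℕ → V} (hv : A.IsWalk n v) :
    A.IsWalk n (fun k => v (n - k)) := fun k hk => by
  have := A.symm (hv (n - (k + 1)) (by omega))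
  rwa [show n - (k + 1) + 1 = n - k by omega] at this

theorem IsPath.reverse {n : ℕ} {v : ℕ → V} (hv : A.IsPath n v) :
    A.IsPath n (fun k => v (n - k)) := ⟨IsWalk.reverse A hv.1, fun k hk => by
  have := hv.2 (n - (k + 2)) (by omega)
  rw [show n - (k + 2) + 2 = n - k by omega] at this
  exact this.symm⟩

theorem IsWalk.smul {n : ℕ} {v : ℕ → V} (hv : A.IsWalk n v) (g : G) :
    A.IsWalk n (fun k => g • v k) := fun k hk => A.adj_smul g (hv k hk)

theorem IsPath.smul {n : ℕ} {v : ℕ → V} (hv : A.IsPath n v) (g : G) :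
    A.IsPath n (fun k => g • v k) :=
  ⟨IsWalk.smul A hv.1 g, fun k hk e => hv.2 k hk (MulAction.injective g e)⟩

theorem isWalk_cons {n : ℕ} {v : ℕ → V} {x : V} (hx : A.Adj x (v 0)) (hv : A.IsWalk n v) :
    A.IsWalk (n + 1) (cons x v) := by
  intro k hk
  rcases k with _ | k
  · simpa using hx
  · simpa using hv k (by omega)

theorem isPath_cons {n : ℕ} {v : ℕ → V} {x : V} (hx : A.Adj x (v 0)) (hv : A.IsPath n v)
    (hne : 1 ≤ n → x ≠ v 1) : A.IsPath (n + 1) (cons x v) := by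
  refine ⟨A.isWalk_cons hx hv.1, fun k hk => ?_⟩
  rcases k with _ | k
  · simpa using hne (by omega)
  · simpa using hv.2 k (by omega)

theorem isWalk_snoc {n : ℕ} {v : ℕ → V} {y : V} (hy : A.Adj (v n) y) (hv : A.IsWalk n v) :
    A.IsWalk (n + 1) (snoc n v y) := by
  intro k hk
  rcases Nat.lt_or_ge k n with h | h
  · rw [snoc_le v y h.le, snoc_le v y (show k + 1 ≤ n by omega)]
    exact hv k h
  · obtain rfl : k = n := by omega
    rw [snoc_le v y le_rfl, snoc_last]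
    exact hy

theorem isPath_snoc {n : ℕ} {v : ℕ → V} {y : V} (hy : A.Adj (v n) y) (hv : A.IsPath n v)
    (hne : 1 ≤ n → y ≠ v (n - 1)) : A.IsPath (n + 1) (snoc n v y) := by
  refine ⟨A.isWalk_snoc hy hv.1, fun k hk => ?_⟩
  rcases Nat.lt_or_ge (k + 1) n with h | h
  · rw [snoc_le v y (show k ≤ n by omega), snoc_le v y (show k + 2 ≤ n by omega)]
    exact hv.2 k (by omega)
  · obtain rfl : n = k + 1 := by omega
    rw [snoc_le v y (show k ≤ k + 1 by omega), snoc_last]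
    exact (hne (by omega)).symm

/-- two step path -/
theorem adj_prev {n k : ℕ} {v : ℕ → V} (hv : A.IsWalk n v) (h1 : 1 ≤ k) (h2 : k ≤ n) :
    A.Adj (v k) (v (k - 1)) := by
  have := hv (k - 1) (by omega)
  rw [Nat.sub_add_cancel h1] at this
  exact A.symm this

theorem exists_extend {n : ℕ} {v : ℕ → V} (hv : A.IsPath n v) :
    ∃ y, A.Adj (v n) y ∧ (1 ≤ n → y ≠ v (n - 1)) := by
  rcases Nat.eq_zero_or_pos n with rfl | hn
  · obtain ⟨a, -, -, ha, -⟩ := A.nbrs (v 0)
    exact ⟨a, ha, fun h => absurd h (by omega)⟩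
  · obtain ⟨y, hy, hne⟩ := A.other_one (A.adj_prev hv.1 hn le_rfl)
    exact ⟨y, hy, fun _ => hne⟩

theorem type_even {n k : ℕ} {v : ℕ → V} (hv : A.IsWalk n v) (hk : k ≤ n) :
    A.isA (v k) ↔ (k % 2 = 0 ↔ A.isA (v 0)) := by
  induction k with
  | zero => simp
  | succ k ih =>
    rw [A.alt (hv k (by omega)), ih (by omega)]
    by_cases h0 : A.isA (v 0) <;> simp [h0] <;> omega

theorem isA_even {n k : ℕ} {v : ℕ → V} (hv : A.IsWalk n v) (hk : k ≤ n) (h0 : A.isA (v 0))
    (he : k % 2 = 0) : A.isA (v k) := (A.type_even hv hk).mpr (iff_of_true he h0)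

theorem notA_odd {n k : ℕ} {v : ℕ → V} (hv : A.IsWalk n v) (hk : k ≤ n) (h0 : A.isA (v 0))
    (he : k % 2 = 1) : ¬ A.isA (v k) := fun h => by
  have := ((A.type_even hv hk).mp h).mpr h0
  omega

/-- the paths of length `J` with a given type of origin are conjugate -/
def Tr (J : ℕ) : Prop :=
  ∀ v w : ℕ → V, A.IsPath J v → A.IsPath J w → (A.isA (v 0) ↔ A.isA (w 0)) →
    ∃ g : G, ∀ k ≤ J, g • v k = w k

/-- a mover -/
def Mover (L : ℕ) (v : ℕ → V) (g : G) : Prop :=
  A.IsPath L v ∧ (∀ k ≤ L, g • v k = v k) ∧ ∃ y, A.Adj (v L) y ∧ g • y ≠ y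

theorem mover_of_notQ {L : ℕ} {v : ℕ → V} {g : G} (hv : A.IsPath L v) (hfix : ∀ k ≤ L, g • v k = v k)
    (hQ : g ∉ A.Q (v L)) : A.Mover L v g := by
  refine ⟨hv, hfix, ?_⟩
  by_contra h
  push Not at h
  exact hQ ⟨hfix L le_rfl, h⟩

theorem Mover.drop {L : ℕ} {v : ℕ → V} {g : G} (hm : A.Mover L v g) {m : ℕ} (h : m ≤ L) :
    A.Mover (L - m) (fun k => v (m + k)) g :=
  ⟨IsPath.drop A hm.1 m, fun k hk => hm.2.1 _ (by omega), by
    simpa [Nat.add_sub_cancel' h] using hm.2.2⟩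

theorem tr_zero : A.Tr 0 := fun v w _ _ h => by
  obtain ⟨g, hg⟩ := A.trans_type h
  exact ⟨g, fun k hk => by rw [Nat.le_zero.mp hk]; exact hg⟩

theorem tr_one : A.Tr 1 := fun v w hv hw h => by
  obtain ⟨g, hg⟩ := A.trans_type h
  have h1 : A.Adj (w 0) (g • v 1) := hg ▸ A.adj_smul g (hv.1 0 (by omega))
  obtain ⟨c, hc0, hc1⟩ := A.trans h1 (hw.1 0 (by omega))
  refine ⟨c * g, fun k hk => ?_⟩
  rcases k with _ | k
  · rw [mul_smul, hg, hc0]
  · obtain rfl : k = 0 := by omega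
    rw [mul_smul, hc1]

theorem Tr.pred {J : ℕ} (h : A.Tr (J + 1)) : A.Tr J := fun v w hv hw h0 => by
  obtain ⟨y, hy, hy'⟩ := A.exists_extend hv
  obtain ⟨z, hz, hz'⟩ := A.exists_extend hw
  obtain ⟨g, hg⟩ := h _ _ (A.isPath_snoc hy hv hy') (A.isPath_snoc hz hw hz')
    (by rwa [snoc_le v y (Nat.zero_le _), snoc_le w z (Nat.zero_le _)])
  refine ⟨g, fun k hk => ?_⟩
  have := hg k (by omega)
  rwa [snoc_le v y hk, snoc_le w z hk] at this

theorem Tr.mono {J J' : ℕ} (h : A.Tr J) (hle : J' ≤ J) : A.Tr J' := by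
  obtain ⟨d, rfl⟩ := Nat.exists_eq_add_of_le hle
  clear hle
  induction d with
  | zero => exact h
  | succ d ih => exact ih (Tr.pred A h)

theorem tr_succ {J : ℕ} (hJ : 1 ≤ J) (hT : A.Tr J)
    (hm : ∀ x : V, ∃ (L : ℕ) (m : ℕ → V) (t : G), J ≤ L ∧ A.Mover L m t ∧ (A.isA (m L) ↔ A.isA x)) :
    A.Tr (J + 1) := by
  intro v w hv hw h0
  obtain ⟨g, hg⟩ := hT v w (IsPath.mono A hv (by omega)) (IsPath.mono A hw (by omega)) h0
  by_cases he : g • v (J + 1) = w (J + 1)
  · exact ⟨g, fun k hk => by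
      rcases Nat.lt_or_ge k (J + 1) with h | h
      · exact hg k (by omega)
      · rw [show k = J + 1 by omega]; exact he⟩
  obtain ⟨L, m, t, hL, hmv, hty⟩ := hm (w J)
  have hmv' := Mover.drop A hmv (show L - J ≤ L by omega)
  rw [show L - (L - J) = J by omega] at hmv'
  set u : ℕ → V := fun k => m (L - J + k) with hu
  obtain ⟨hup, hufix, y, hy, hty'⟩ := hmv'
  have h0' : A.isA (u 0) ↔ A.isA (w 0) := by
    have e1 : A.isA (u J) ↔ A.isA (w J) := by
      rw [hu]; simp only [show L - J + J = L by omega]; exact hty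
    rw [A.type_even hup.1 le_rfl, A.type_even hw.1 (show J ≤ J + 1 by omega)] at e1
    by_cases hp : J % 2 = 0 <;> simp only [hp, true_iff, false_iff] at e1
    · exact e1
    · exact not_iff_not.mp e1
  obtain ⟨c, hc⟩ := hT u w hup (IsPath.mono A hw (by omega)) h0'
  set s := c * t * c⁻¹ with hs
  have hsfix : ∀ k ≤ J, s • w k = w k := fun k hk => by
    rw [hs, mul_smul, mul_smul, ← hc k hk, inv_smul_smul, hufix k hk]
  have hwJ : A.Adj (w J) (c • y) := hc J le_rfl ▸ A.adj_smul c hy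
  have hsQ : s ∉ A.Q (w J) := fun hq => hty' (by
    have := A.fix hwJ hq
    rw [hs, mul_smul, mul_smul, inv_smul_smul] at this
    exact MulAction.injective c this)
  have hprev : A.Adj (w J) (w (J - 1)) := A.adj_prev hw.1 hJ (by omega)
  have hw1 : A.Adj (w J) (w (J + 1)) := hw.1 J (by omega)
  have hv1 : A.Adj (w J) (g • v (J + 1)) := hg J le_rfl ▸ A.adj_smul g (hv.1 J (by omega))
  have hn1 : w (J + 1) ≠ w (J - 1) := by
    have := hw.2 (J - 1) (by omega)
    rw [show J - 1 + 2 = J + 1 by omega] at this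
    exact this.symm
  have hn2 : g • v (J + 1) ≠ w (J - 1) := by
    rw [← hg (J - 1) (by omega)]
    have := hv.2 (J - 1) (by omega)
    rw [show J - 1 + 2 = J + 1 by omega] at this
    exact fun e => this (MulAction.injective g e).symm
  refine ⟨s * g, fun k hk => ?_⟩
  rcases Nat.lt_or_ge k (J + 1) with h | h
  · rw [mul_smul, hg k (by omega), hsfix k (by omega)]
  · rw [show k = J + 1 by omega, mul_smul]
    exact A.swap_eq hprev hv1 hw1 hn2 hn1 he (hsfix J le_rfl) (hsfix (J - 1) (by omega))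
      (A.move hprev hv1 hn2 (hsfix J le_rfl) (hsfix (J - 1) (by omega)) hsQ)

/-- two movers with ends of different types give transitivity -/
theorem tr_of_movers {b L L' : ℕ} {v v' : ℕ → V} {g g' : G} (hm : A.Mover L v g)
    (hm' : A.Mover L' v' g') (hA : A.isA (v L)) (hB : ¬ A.isA (v' L')) (hL : b ≤ L) (hL' : b ≤ L') :
    A.Tr (b + 1) := by
  suffices h : ∀ J ≤ b, A.Tr (J + 1) from h b le_rfl
  intro J
  induction J with
  | zero => exact fun _ => A.tr_one
  | succ J ih =>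
    intro hJ
    refine A.tr_succ (by omega) (ih (by omega)) fun x => ?_
    by_cases hx : A.isA x
    · exact ⟨L, v, g, by omega, hm, iff_of_true hA hx⟩
    · exact ⟨L', v', g', by omega, hm', iff_of_false hB hx⟩

/-- the stabiliser of a path interchanges its extensions -/
theorem ext_swap {n : ℕ} (hT : A.Tr (n + 1)) {v : ℕ → V} (hv : A.IsPath n v) (hn : 1 ≤ n) {y y' : V}
    (hy : A.Adj (v n) y) (hy1 : y ≠ v (n - 1)) (hy' : A.Adj (v n) y') (hy'1 : y' ≠ v (n - 1)) :
    ∃ g : G, (∀ k ≤ n, g • v k = v k) ∧ g • y = y' := by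
  obtain ⟨g, hg⟩ := hT _ _ (A.isPath_snoc hy hv fun _ => hy1) (A.isPath_snoc hy' hv fun _ => hy'1)
    (by rw [snoc_le v y (Nat.zero_le _), snoc_le v y' (Nat.zero_le _)])
  refine ⟨g, fun k hk => ?_, ?_⟩
  · have := hg k (by omega)
    rwa [snoc_le v y hk, snoc_le v y' hk] at this
  · have := hg (n + 1) le_rfl
    rwa [snoc_last, snoc_last] at this

end Geo

end CfsgLib.A33
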